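import Mathlib

/-!
# The `ψ`-trick (helper707 #24883): NoW, `q ≥ 4`, part (ii)

`T` acts on the abelian group `U` and on the finite set `ι`; `c i ≤ U` are the root lines of the blocks of `Y`, `C i` the
centralisers in `U` of the blocks; `N` a natural `SL₂(q)`-module with root line `Z`, `Tj / Q` its root group, `|Tj / Q| ≥ 4`,
`C_U(Q) ≤ N × L'`. If `N ≤ c i + C i` for all `i` and `N_T(i)` acts on `c i` through a cyclic group, then `Z ≤ ⋂ C i`.
-/

set_option autoImplicit false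
set_option linter.unusedSectionVars false

namespace Cfsg.Agent.Omega.CaseLQ.Psi

universe u v w

variable {U : Type u} [AddCommGroup U] {T : Type v} [Group T] [DistribMulAction T U] {ι : Type w} [MulAction T ι]

/-- The action of `T` on functions `ι → U`. -/
def act (t : T) (f : ι → U) : ι → U := fun i => t • f (t⁻¹ • i)

theorem act_apply (t : T) (f : ι → U) (i : ι) : act t f (t • i) = t • f i := by
  simp [act]

theorem act_eq_iff {t : T} {f : ι → U} : act t f = f ↔ ∀ i, f (t • i) = t • f i := by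
  constructor
  · intro h i
    conv_lhs => rw [← h]
    exact act_apply t f i
  · intro h
    funext i
    have := h (t⁻¹ • i)
    rw [smul_inv_smul] at this
    rw [this]; rfl

/-- an arithmetic fact on subgroups of `ℤ` -/
theorem int_aux (A : AddSubgroup ℤ) {a b : ℤ} (ha : 2 * a ∈ A) (hb : 2 * b ∈ A) : a ∈ A ∨ b ∈ A ∨ a - b ∈ A := by
  obtain ⟨m, rfl⟩ := Int.subgroup_cyclic A
  simp only [AddSubgroup.mem_closure_singleton, smul_eq_mul] at ha hb ⊢
  obtain ⟨x, hx⟩ := ha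
  obtain ⟨y, hy⟩ := hb
  rcases Int.even_or_odd x with ⟨x', hx'⟩ | ⟨x', hx'⟩
  · left; exact ⟨x', by subst hx'; linarith⟩
  · rcases Int.even_or_odd y with ⟨y', hy'⟩ | ⟨y', hy'⟩
    · right; left; exact ⟨y', by subst hy'; linarith⟩
    · right; right
      refine ⟨x' - y', ?_⟩
      subst hx' hy'
      nlinarith

/-- **(ψ3)** the combinatorial core: if every `Q`-invariant `f` (with `f i ∈ c i`) which is fixed by one `t ∈ Tj - Q` is
fixed by `Tj`, then all of them are fixed by `Tj`. -/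
theorem core {c : ι → AddSubgroup U} {Q Tj : Subgroup T} (hQT : Q ≤ Tj) (hQn : Q.Normal)
    (ct : ∀ (t : T) (i : ι), ∀ x ∈ c i, t • x ∈ c (t • i))
    (sq : ∀ t ∈ Tj, t * t ∈ Q) (four : ∀ t ∈ Tj, ∃ s ∈ Tj, s ∉ Q ∧ t⁻¹ * s ∉ Q)
    (cyc : ∀ i, ∃ g : T, g • i = i ∧ ∀ x : T, x • i = i → ∃ n : ℤ, ∀ v ∈ c i, x • v = g ^ n • v)
    (CL : ∀ f : ι → U, (∀ i, f i ∈ c i) → (∀ g ∈ Q, act g f = f) → ∀ t ∈ Tj, t ∉ Q → act t f = f →
      ∀ s ∈ Tj, act s f = f)
    {f : ι → U} (hf : ∀ i, f i ∈ c i) (hfQ : ∀ g ∈ Q, act g f = f) : ∀ s ∈ Tj, act s f = f := by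
  classical
  -- restriction to a `Q`-orbit
  let O : ι → ι → Prop := fun i m => ∃ g ∈ Q, g • i = m
  have Orefl : ∀ i, O i i := fun i => ⟨1, Q.one_mem, one_smul _ _⟩
  have Osymm : ∀ {i m}, O i m → O m i := by
    rintro i m ⟨g, hg, rfl⟩
    exact ⟨g⁻¹, Q.inv_mem hg, inv_smul_smul _ _⟩
  have Otrans : ∀ {i m n}, O i m → O m n → O i n := by
    rintro i m n ⟨g, hg, rfl⟩ ⟨g', hg', rfl⟩
    exact ⟨g' * g, Q.mul_mem hg' hg, mul_smul _ _ _⟩
  have Oact : ∀ (t : T) {i m}, O i m → O (t • i) (t • m) := by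
    rintro t i m ⟨g, hg, rfl⟩
    exact ⟨t * g * t⁻¹, hQn.conj_mem g hg t, by simp [mul_smul]⟩
  let r : ι → ι → U := fun i m => if O i m then f m else 0
  have hr : ∀ i m, r i m ∈ c m := by
    intro i m
    by_cases h : O i m
    · simp only [r, if_pos h]; exact hf m
    · simp only [r, if_neg h]; exact (c m).zero_mem
  have hrO : ∀ {i m}, O i m → r i m = f m := fun h => if_pos h
  have hrN : ∀ {i m}, ¬ O i m → r i m = 0 := fun h => if_neg h
  have hrQ : ∀ i, ∀ g ∈ Q, act g (r i) = r i := by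
    intro i g hg
    rw [act_eq_iff]
    intro m
    have h1 : O m (g • m) := ⟨g, hg, rfl⟩
    by_cases h : O i m
    · rw [hrO h, hrO (Otrans h h1)]
      exact act_eq_iff.1 (hfQ g hg) m
    · rw [hrN h, hrN fun h2 => h (Otrans h2 (Osymm h1)), smul_zero]
  -- (a)
  have ha : ∀ t ∈ Tj, ∀ i, f i ≠ 0 → O i (t • i) := by
    intro t ht i hi
    by_contra hO
    have htQ : t ∉ Q := fun h => hO ⟨t, h, rfl⟩
    -- `e = r i + t • r i`
    let e : ι → U := fun m => r i m + act t (r i) m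
    have het : ∀ m, act t (r i) m ≠ 0 → O (t • i) m := by
      intro m hm
      by_contra h
      apply hm
      have h1 : ¬ O i (t⁻¹ • m) := by
        intro h2
        have := Oact t h2
        rw [smul_inv_smul] at this
        exact h this
      simp only [act, hrN h1, smul_zero]
    have hee : ∀ m, e m ∈ c m := by
      intro m
      refine (c m).add_mem (hr i m) ?_
      have := ct t (t⁻¹ • m) _ (hr i (t⁻¹ • m))
      rwa [smul_inv_smul] at this
    have actact : ∀ (a b : T) (g : ι → U), act a (act b g) = act (a * b) g := by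
      intro a b g
      funext m
      simp only [act, mul_inv_rev, mul_smul]
    have actadd : ∀ (a : T) (g g' : ι → U), act a (fun m => g m + g' m) = fun m => act a g m + act a g' m := by
      intro a g g'
      funext m
      simp [act]
    have heQ : ∀ g ∈ Q, act g e = e := by
      intro g hg
      have h1 : act g (act t (r i)) = act t (r i) := by
        rw [actact, show g * t = t * (t⁻¹ * g * t) by group, ← actact]
        congr 1
        refine hrQ i _ ?_
        have := hQn.conj_mem g hg t⁻¹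
        simpa using this
      change act g (fun m => r i m + act t (r i) m) = _
      rw [actadd, hrQ i g hg, h1]
    have het' : act t e = e := by
      change act t (fun m => r i m + act t (r i) m) = fun m => r i m + act t (r i) m
      rw [actadd, actact, hrQ i _ (sq t ht)]
      funext m
      exact add_comm _ _
    have hes := CL e hee heQ t ht htQ het'
    have hei : e i = f i := by
      have h1 : act t (r i) i = 0 := by
        by_contra h
        exact hO (Osymm (het i h))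
      simp only [e, h1, hrO (Orefl i), add_zero]
    -- `s' ∈ Tj - Q` fixing the orbit
    obtain ⟨s', hs', hs'Q, hs'O⟩ : ∃ s' ∈ Tj, s' ∉ Q ∧ O i (s' • i) := by
      obtain ⟨s, hs, hsQ, htsQ⟩ := four t ht
      have h1 : e (s • i) ≠ 0 := by
        rw [act_eq_iff.1 (hes s hs) i, hei]
        exact (smul_ne_zero_iff_ne s).2 hi
      by_cases h2 : O i (s • i)
      · exact ⟨s, hs, hsQ, h2⟩
      · have h3 : act t (r i) (s • i) ≠ 0 := by
          intro h
          exact h1 (by simp only [e, h, hrN h2, add_zero])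
        refine ⟨t⁻¹ * s, Tj.mul_mem (Tj.inv_mem ht) hs, htsQ, ?_⟩
        have := Oact t⁻¹ (het _ h3)
        rw [inv_smul_smul] at this
        rwa [mul_smul]
    have hsr : act s' (r i) = r i := by
      rw [act_eq_iff]
      intro m
      by_cases hm : O i m
      · have hm' : O i (s' • m) := Otrans hs'O (Oact s' hm)
        have h1 := act_eq_iff.1 (hes s' hs') m
        have h2 : ∀ n, O i n → e n = r i n := by
          intro n hn
          have : act t (r i) n = 0 := by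
            by_contra h
            exact hO (Otrans hn (Osymm (het n h)))
          simp only [e, this, add_zero]
        rwa [h2 _ hm', h2 _ hm] at h1
      · have hm' : ¬ O i (s' • m) := by
          intro h
          apply hm
          have h1 := Oact s'⁻¹ (Otrans (Osymm hs'O) h)
          rwa [inv_smul_smul, inv_smul_smul] at h1
        rw [hrN hm, hrN hm', smul_zero]
    have h5 := CL (r i) (hr i) (hrQ i) s' hs' hs'Q hsr t ht
    have h6 := act_eq_iff.1 h5 i
    rw [hrO (Orefl i), hrN hO] at h6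
    exact (smul_ne_zero_iff_ne t).2 hi h6.symm
  -- (b)
  have hb : ∀ i, f i ≠ 0 → ∀ s ∈ Tj, act s (r i) = r i := by
    intro i hi
    -- it suffices to find `x ∈ Tj - Q` with `x • i = i`, `x • f i = f i`
    suffices h : ∃ x ∈ Tj, x ∉ Q ∧ x • i = i ∧ x • f i = f i by
      obtain ⟨x, hx, hxQ, hxi, hxf⟩ := h
      refine CL (r i) (hr i) (hrQ i) x hx hxQ ?_
      rw [act_eq_iff]
      intro m
      by_cases hm : O i m
      · obtain ⟨g, hg, rfl⟩ := hm
        -- `x g = g' x`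
        have h1 : x * g * x⁻¹ ∈ Q := hQn.conj_mem g hg x
        have h2 : x • g • i = (x * g * x⁻¹) • i := by
          rw [mul_smul, mul_smul]
          congr 2
          rw [eq_inv_smul_iff, hxi]
        have h3 : ∀ g ∈ Q, r i (g • i) = g • f i := by
          intro g hg
          rw [hrO ⟨g, hg, rfl⟩]
          exact act_eq_iff.1 (hfQ g hg) i
        rw [h2, h3 _ h1, h3 _ hg, mul_smul, mul_smul]
        congr 2
        rw [inv_smul_eq_iff, hxf]
      · have hm' : ¬ O i (x • m) := by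
          intro h
          apply hm
          have h1 := Oact x⁻¹ h
          rw [inv_smul_smul] at h1
          have : x⁻¹ • i = i := by rw [inv_smul_eq_iff, hxi]
          rwa [this] at h1
        rw [hrN hm, hrN hm', smul_zero]
    have key : ∀ s ∈ Tj, ∃ g ∈ Q, (g * s) • i = i := by
      intro s hs
      obtain ⟨g, hg, hgi⟩ := Osymm (ha s hs i hi)
      exact ⟨g, hg, by rw [mul_smul, hgi]⟩
    obtain ⟨s₁, hs₁, hs₁Q, -⟩ := four 1 Tj.one_mem
    obtain ⟨s₂, hs₂, hs₂Q, hs₁₂⟩ := four s₁ hs₁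
    obtain ⟨g₁, hg₁, hx₁⟩ := key s₁ hs₁
    obtain ⟨g₂, hg₂, hx₂⟩ := key s₂ hs₂
    set x₁ := g₁ * s₁ with hx₁d
    set x₂ := g₂ * s₂ with hx₂d
    have hx₁T : x₁ ∈ Tj := Tj.mul_mem (hQT hg₁) hs₁
    have hx₂T : x₂ ∈ Tj := Tj.mul_mem (hQT hg₂) hs₂
    have hx₁Q : x₁ ∉ Q := fun h => hs₁Q ((Q.mul_mem_cancel_left hg₁).1 h)
    have hx₂Q : x₂ ∉ Q := fun h => hs₂Q ((Q.mul_mem_cancel_left hg₂).1 h)
    have hx₁₂Q : x₁ * x₂⁻¹ ∉ Q := by
      intro h
      apply hs₁₂
      -- `x₁ x₂⁻¹ = g₁ (s₁ s₂⁻¹) g₂⁻¹`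
      have h1 : s₁ * s₂⁻¹ ∈ Q := by
        have : g₁⁻¹ * (x₁ * x₂⁻¹) * g₂ ∈ Q := Q.mul_mem (Q.mul_mem (Q.inv_mem hg₁) h) hg₂
        have h2 : g₁⁻¹ * (x₁ * x₂⁻¹) * g₂ = s₁ * s₂⁻¹ := by rw [hx₁d, hx₂d]; group
        rwa [h2] at this
      -- conjugate
      have h3 : s₁⁻¹ * (s₁ * s₂⁻¹) * s₁ ∈ Q := by simpa using hQn.conj_mem _ h1 s₁⁻¹
      have h4 : s₂⁻¹ * s₁ ∈ Q := by
        have : s₁⁻¹ * (s₁ * s₂⁻¹) * s₁ = s₂⁻¹ * s₁ := by group
        rwa [this] at h3
      simpa using Q.inv_mem h4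
    obtain ⟨γ, hγ, hcyc⟩ := cyc i
    obtain ⟨a, haγ⟩ := hcyc x₁ hx₁
    obtain ⟨b, hbγ⟩ := hcyc x₂ hx₂
    -- the fixed points of `N_Q(i)`
    let D : Set U := {y | y ∈ c i ∧ ∀ g ∈ Q, g • i = i → g • y = y}
    have hfD : f i ∈ D := ⟨hf i, fun g hg hgi => by
      have := act_eq_iff.1 (hfQ g hg) i
      rw [hgi] at this
      exact this.symm⟩
    have hγn : ∀ n : ℤ, γ ^ n • i = i := by
      intro n
      have : γ ∈ MulAction.stabilizer T i := hγ
      exact (MulAction.stabilizer T i).zpow_mem this n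
    have hDst : ∀ x : T, x • i = i → ∀ y ∈ D, x • y ∈ D := by
      intro x hx y hy
      refine ⟨by have := ct x i y hy.1; rwa [hx] at this, fun g hg hgi => ?_⟩
      have h1 : x⁻¹ * g * x ∈ Q := by simpa using hQn.conj_mem g hg x⁻¹
      have hxi : x⁻¹ • i = i := by rw [inv_smul_eq_iff, hx]
      have h2 : (x⁻¹ * g * x) • i = i := by rw [mul_smul, mul_smul, hx, hgi, hxi]
      have h3 := hy.2 _ h1 h2
      rw [mul_smul, mul_smul, inv_smul_eq_iff] at h3
      exact h3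
    let A : AddSubgroup ℤ :=
      { carrier := {n | ∀ y ∈ D, γ ^ n • y = y}
        zero_mem' := fun y _ => by simp
        add_mem' := by
          intro m n hm hn y hy
          rw [zpow_add, mul_smul, hn y hy, hm y hy]
        neg_mem' := by
          intro n hn y hy
          rw [zpow_neg, inv_smul_eq_iff]
          exact (hn y hy).symm }
    have hmemA : ∀ n : ℤ, n ∈ A ↔ ∀ y ∈ D, γ ^ n • y = y := fun n => Iff.rfl
    have two : ∀ (x : T) (n : ℤ), x ∈ Tj → x • i = i → (∀ v ∈ c i, x • v = γ ^ n • v) → 2 * n ∈ A := by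
      intro x n hx hxi hxn
      rw [hmemA]
      intro y hy
      have h1 : (x * x) • y = y := hy.2 _ (sq x hx) (by rw [mul_smul, hxi, hxi])
      rw [mul_smul, hxn y hy.1, hxn _ (hDst _ (hγn n) y hy).1, ← mul_smul, ← zpow_add, ← two_mul] at h1
      exact h1
    rcases int_aux A (two x₁ a hx₁T hx₁ haγ) (two x₂ b hx₂T hx₂ hbγ) with h | h | h
    · exact ⟨x₁, hx₁T, hx₁Q, hx₁, by rw [haγ _ (hf i)]; exact (hmemA _).1 h _ hfD⟩
    · exact ⟨x₂, hx₂T, hx₂Q, hx₂, by rw [hbγ _ (hf i)]; exact (hmemA _).1 h _ hfD⟩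
    · refine ⟨x₁ * x₂⁻¹, Tj.mul_mem hx₁T (Tj.inv_mem hx₂T), hx₁₂Q, ?_, ?_⟩
      · rw [mul_smul, (inv_smul_eq_iff.2 hx₂.symm), hx₁]
      · -- `x₂⁻¹ • f i = γ ^ (-b) • f i`
        have hx₂i : x₂⁻¹ • i = i := inv_smul_eq_iff.2 hx₂.symm
        have h1 : x₂⁻¹ • f i = γ ^ (-b) • f i := by
          rw [inv_smul_eq_iff, hbγ _ (hDst _ (hγn (-b)) _ hfD).1, ← mul_smul, ← zpow_add]
          simp
        rw [mul_smul, h1, haγ _ (hDst _ (hγn (-b)) _ hfD).1, ← mul_smul, ← zpow_add, ← sub_eq_add_neg]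
        exact (hmemA _).1 h _ hfD
  -- end
  have hc : ∀ s ∈ Tj, ∀ i, f i ≠ 0 → f (s • i) = s • f i := by
    intro s hs i hi
    have h1 := act_eq_iff.1 (hb i hi s hs) i
    rwa [hrO (Orefl i), hrO (ha s hs i hi)] at h1
  intro s hs
  rw [act_eq_iff]
  intro i
  by_cases hi : f i = 0
  · by_contra hcon
    rw [hi, smul_zero] at hcon
    have h1 := hc s⁻¹ (Tj.inv_mem hs) _ hcon
    rw [inv_smul_smul, hi] at h1
    exact hcon (by rwa [eq_comm, inv_smul_eq_iff, smul_zero] at h1)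
  · exact hc s hs i hi

/-- **The frame of the `ψ`-trick** (abstract form). `c i`: root lines of the blocks of `Y`; `C i`: centralisers in `U` of the
blocks; `N`: the natural block `N_j` of `V_P`, `Z` its root line; `Tj`: the elements of `T` which act on `V_P` as an element
of the root group of the block `j`. -/
structure Fr (c C : ι → AddSubgroup U) (Q Tj : Subgroup T) (N Z : AddSubgroup U) : Prop where
  QT : Q ≤ Tj
  Qn : Q.Normal
  sq : ∀ t ∈ Tj, t * t ∈ Q
  four : ∀ t ∈ Tj, ∃ s ∈ Tj, s ∉ Q ∧ t⁻¹ * s ∉ Q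
  ct : ∀ (t : T) (i : ι), ∀ x ∈ c i, t • x ∈ c (t • i)
  Ct : ∀ (t : T) (i : ι), ∀ x ∈ C i, t • x ∈ C (t • i)
  cyc : ∀ i, ∃ g : T, g • i = i ∧ ∀ x : T, x • i = i → ∃ n : ℤ, ∀ v ∈ c i, x • v = g ^ n • v
  inf : ∀ i, ∀ x ∈ c i, x ∈ C i → x = 0
  cm : ∀ i m, m ≠ i → c m ≤ C i
  NT : ∀ t ∈ Tj, ∀ n ∈ N, t • n ∈ N
  NQ : ∀ g ∈ Q, ∀ n ∈ N, g • n = n
  cov : ∀ n ∈ N, ∀ i, ∃ x ∈ c i, n - x ∈ C i
  ZN : Z ≤ N
  NZ : ¬ N ≤ Z
  cen : ∀ t ∈ Tj, t ∉ Q → ∀ n ∈ N, t • n = n → n ∈ Z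
  Zc : ∀ t ∈ Tj, ∀ z ∈ Z, t • z = z
  full : ∀ n ∈ N, n ∉ Z → ∀ z ∈ Z, ∃ t ∈ Tj, t • n - n = z
  /-- `C_U(Q) ≤ N × L'` -/
  CQ : ∀ u : U, (∀ g ∈ Q, g • u = u) → ∃ n ∈ N, ∀ t ∈ Tj, t • (u - n) = u - n
  /-- `Z ≰ C_U(⟨K_i⟩)` -/
  nZ : ∃ z ∈ Z, ∃ i, z ∉ C i

namespace Fr

variable {c C : ι → AddSubgroup U} {Q Tj : Subgroup T} {N Z : AddSubgroup U} (h : Fr c C Q Tj N Z)
include h

/-- `C_L(t) = C_L(T_j)` for `t ∈ T_j - Q` -/
theorem CL {u : U} (hu : ∀ g ∈ Q, g • u = u) {t : T} (ht : t ∈ Tj) (htQ : t ∉ Q) (hut : t • u = u) :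
    ∀ s ∈ Tj, s • u = u := by
  obtain ⟨n, hn, hl⟩ := h.CQ u hu
  have h1 : t • n = n := by
    have := hl t ht
    rw [smul_sub, hut] at this
    exact sub_right_injective this
  intro s hs
  have h2 := h.Zc s hs n (h.cen t ht htQ n hn h1)
  have h3 := hl s hs
  rw [smul_sub, h2] at h3
  exact sub_left_injective h3

theorem unique {u : U} {i : ι} {x y : U} (hx : x ∈ c i) (hy : y ∈ c i) (hux : u - x ∈ C i) (huy : u - y ∈ C i) :
    x = y := by
  have h1 : x - y ∈ C i := by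
    have := (C i).sub_mem huy hux
    simpa using this
  exact sub_eq_zero.1 (h.inf i _ ((c i).sub_mem hx hy) h1)

/-- **The `ψ`-trick**: contradiction. -/
theorem false [Finite ι] : False := by
  classical
  have := Fintype.ofFinite ι
  choose! p hp hpC using h.cov
  -- the components are additive and `T`-equivariant
  have padd : ∀ n ∈ N, ∀ n' ∈ N, ∀ i, p (n + n') i = p n i + p n' i := by
    intro n hn n' hn' i
    refine h.unique (u := n + n') (hp _ (N.add_mem hn hn') i) ((c i).add_mem (hp n hn i) (hp n' hn' i))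
      (hpC _ (N.add_mem hn hn') i) ?_
    have := (C i).add_mem (hpC n hn i) (hpC n' hn' i)
    rwa [sub_add_sub_comm] at this
  have psub : ∀ n ∈ N, ∀ n' ∈ N, ∀ i, p (n - n') i = p n i - p n' i := by
    intro n hn n' hn' i
    refine h.unique (u := n - n') (hp _ (N.sub_mem hn hn') i) ((c i).sub_mem (hp n hn i) (hp n' hn' i))
      (hpC _ (N.sub_mem hn hn') i) ?_
    have := (C i).sub_mem (hpC n hn i) (hpC n' hn' i)
    rwa [sub_sub_sub_comm] at this
  have psmul : ∀ t ∈ Tj, ∀ n ∈ N, ∀ i, p (t • n) (t • i) = t • p n i := by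
    intro t ht n hn i
    refine h.unique (u := t • n) (hp _ (h.NT t ht n hn) _) (h.ct t i _ (hp n hn i)) (hpC _ (h.NT t ht n hn) _) ?_
    have := h.Ct t i _ (hpC n hn i)
    rwa [smul_sub] at this
  have pQ : ∀ n ∈ N, ∀ g ∈ Q, act g (p n) = p n := by
    intro n hn g hg
    rw [act_eq_iff]
    intro i
    rw [← psmul g (h.QT hg) n hn i, h.NQ g hg n hn]
  -- sums
  have hsum : ∀ f : ι → U, (∀ i, f i ∈ c i) → ∀ i, (∑ m, f m) - f i ∈ C i := by
    intro f hf i
    have h1 : (∑ m, f m) - f i = ∑ m ∈ Finset.univ.erase i, f m := by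
      rw [← Finset.add_sum_erase Finset.univ f (Finset.mem_univ i)]
      abel
    rw [h1]
    exact (C i).sum_mem fun m hm => h.cm i m (Finset.ne_of_mem_erase hm) (hf m)
  have hsum_inj : ∀ f g : ι → U, (∀ i, f i ∈ c i) → (∀ i, g i ∈ c i) → (∑ m, f m) = ∑ m, g m → f = g := by
    intro f g hf hg he
    funext i
    exact h.unique (hf i) (hg i) (hsum f hf i) (he ▸ hsum g hg i)
  have hsum_act : ∀ (t : T) (f : ι → U), t • (∑ m, f m) = ∑ m, act t f m := by
    intro t f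
    rw [Finset.smul_sum]
    refine Fintype.sum_equiv (MulAction.toPerm t) _ _ fun i => ?_
    simp [act]
  have hact : ∀ (t : T) (f : ι → U), (∀ i, f i ∈ c i) → ∀ i, act t f i ∈ c i := by
    intro t f hf i
    have := h.ct t (t⁻¹ • i) _ (hf (t⁻¹ • i))
    rwa [smul_inv_smul] at this
  have hcore := fun n (hn : n ∈ N) => core (f := p n) h.QT h.Qn h.ct h.sq h.four h.cyc (fun f hf hfQ t ht htQ hft s hs => by
    have h1 : ∀ g ∈ Q, g • (∑ m, f m) = ∑ m, f m := fun g hg => by rw [hsum_act, hfQ g hg]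
    have h2 : t • (∑ m, f m) = ∑ m, f m := by rw [hsum_act, hft]
    have h3 := h.CL h1 ht htQ h2 s hs
    rw [hsum_act] at h3
    exact hsum_inj _ _ (hact s f hf) hf h3) (hp n hn) (pQ n hn)
  -- `ψ` kills `[N, Tj]`
  have hkill : ∀ n ∈ N, ∀ t ∈ Tj, ∀ i, p (t • n - n) i = 0 := by
    intro n hn t ht i
    rw [psub _ (h.NT t ht n hn) _ hn]
    have h1 := psmul t ht n hn (t⁻¹ • i)
    rw [smul_inv_smul] at h1
    have h2 : act t (p n) i = p n i := by rw [hcore n hn t ht]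
    rw [h1, sub_eq_zero]
    exact h2
  obtain ⟨z, hz, i, hzi⟩ := h.nZ
  obtain ⟨n, hn, hnZ⟩ := SetLike.not_le_iff_exists.1 h.NZ
  obtain ⟨t, ht, htz⟩ := h.full n hn hnZ z hz
  have h1 := hkill n hn t ht i
  rw [htz] at h1
  have h2 := hpC z (h.ZN hz) i
  rw [h1, sub_zero] at h2
  exact hzi h2

end Fr

end Cfsg.Agent.Omega.CaseLQ.Psi
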