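import Cfsg.Agent.Omega.CaseLQ.PartIC

/-!
# CaseL, weird `Y`: an `E` in the extremal class outside `O₂(Y)` (step (α) of #24536 (ii))

* `Sit.toC` : `Sit` (`H ≤ C(Λ)`) gives `SitC`;
* `SitC.exists_E` : all members `≤ T` of the class `MaxMin U H` centralise `N`, and one of them is not in `O₂(Y)`.
-/

set_option autoImplicit false
set_option linter.unusedSectionVars false

namespace Cfsg.Agent.Omega.CaseLQ

open Subgroup Cfsg Cfsg.Agent.ZN Cfsg.Agent.ZN.ChoiceBase Cfsg.Agent.ZN.ChoiceSit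
open Cfsg.Agent.Omega.FFThm (OffM ElemM NoOverM)
open Cfsg.Agent.Omega.NO3S.RedC (MaxMin exists_maxMin)
open Cfsg.Agent.Omega.NO3b.EZero (cl cj_le_cl le_cl cl_le le_normalizer_cl cent_symm cj_cent)
open Cfsg.Agent.Omega.NO3S.NotFF (le_normalizer_of_forall)

universe u

variable {G : Type u} [Group G] [Finite G] {H U T Q N Z Λ P Y E : Subgroup G}

/-- `H ≤ C(Λ)` : (CNT) is void. -/
theorem Sit.toC (s : Sit H U T Q N Z Λ P Y) (hY : Syl T Y) : SitC H U T Q N Z Λ P Y where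
  Uc := s.Uc
  Us := s.Us
  HU := s.HU
  TH := s.TH
  T2 := s.T2
  QT := s.QT
  TZ := s.TZ
  UT := s.UT
  NU := s.NU
  QN := s.QN
  ZN := s.ZN
  Zne := s.Zne
  card := s.card
  PH := s.PH
  TP := s.TP
  PN := s.PN
  PQ := s.PQ
  PC := s.PC
  YH := s.YH
  TY := s.TY
  sylY := hY
  oY := s.oY
  mv := s.mv
  PL := s.PH.trans s.HL
  fix := s.fix
  cnt := fun F hF hFY => by
    have h1 : F ≤ centralizer (Y : Set G) := hF.trans (cent_symm (s.YH.trans s.HL))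
    rw [inf_eq_left.2 h1] at hFY
    subst hFY
    rw [card_bot]
    obtain ⟨z, hz, hz1, hfix⟩ := NO3S.OneLine.exists_fixed s.T2 (s.ZU.trans s.UT) s.TZ
      (fun h0 => s.Zne (le_bot_iff.1 h0) : ¬ Z ≤ (⊥ : Subgroup G))
    rw [mem_bot] at hz1
    have hzT : z ∈ Z ⊓ centralizer (T : Set G) := mem_inf.2 ⟨hz, mem_centralizer_iff.2 fun t ht => by
      have h1 := mem_bot.1 (hfix t ht)
      have e1 : t * z = (t * z * t⁻¹ * z⁻¹) * z * t := by group
      rw [e1, h1, one_mul]⟩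
    have hne : Nontrivial ↥(Z ⊓ centralizer (T : Set G)) := ⟨⟨⟨z, hzT⟩, 1, fun h0 => hz1 (congrArg Subtype.val h0)⟩⟩
    exact Finite.one_lt_card
  noN := s.noN
  lineN := s.lineN
  irrN := s.irrN
  oneY := s.oneY

/-- **Step (α).** -/
theorem SitC.exists_E (s : SitC H U T Q N Z Λ P Y) (hT : Syl T H) (hoff : ∃ A ≤ H, OffM U A)
    (gen : ∀ A ≤ T, A ≤ centralizer (N : Set G) → P ≤ normalizer (A : Set G) → Y ≤ normalizer (A : Set G) →
      A ≤ centralizer (U : Set G)) :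
    (∀ E, MaxMin U H E → E ≤ T → E ≤ centralizer (N : Set G)) ∧ ∃ E, MaxMin U H E ∧ E ≤ T ∧ ¬ E ≤ o2 Y := by
  have h0 : ∀ E, MaxMin U H E → E ≤ T → E ≤ centralizer (N : Set G) := fun E m hE => by
    by_contra hne
    exact s.false_of hE m hne
  refine ⟨h0, ?_⟩
  by_contra hcon
  push Not at hcon
  obtain ⟨E₀, m₀⟩ := exists_maxMin s.HU hoff
  obtain ⟨R, hR, hER⟩ := exists_syl m₀.pg m₀.le
  obtain ⟨x, hx, hxR⟩ := syl_conj hR hT
  have m₁ : MaxMin U H (cj x E₀) := m₀.cj hx s.HU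
  have h₁ : cj x E₀ ≤ T := hxR ▸ cj_mono x hER
  let 𝒜 : Set (Subgroup G) := {E | MaxMin U H E ∧ E ≤ T}
  have hcs : ∀ (g : G), (∀ E ∈ 𝒜, cj g E ∈ 𝒜) → g ∈ normalizer ((sSup 𝒜 : Subgroup G) : Set G) := by
    intro g h
    refine mem_normalizer_of_cj_le ?_
    rw [cj_le_iff]
    exact sSup_le fun E hE => cj_le_iff.1 (le_sSup (h E hE))
  have hmem : cj x E₀ ∈ 𝒜 := ⟨m₁, h₁⟩
  refine m₁.ne ((le_sSup hmem).trans (gen (sSup 𝒜) (sSup_le fun E hE => hE.2)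
    (sSup_le fun E hE => h0 E hE.1 hE.2) (fun p hp => hcs p fun E hE => ⟨hE.1.cj (s.PH hp) s.HU, ?_⟩)
    (fun y hy => hcs y fun E hE => ⟨hE.1.cj (s.YH hy) s.HU, ?_⟩)))
  · have h1 := cj_mono p (le_inf hE.2 (h0 E hE.1 hE.2))
    rw [cj_eq_of_mem_normalizer (s.PC hp)] at h1
    exact h1.trans inf_le_left
  · have h1 := cj_mono y (hcon E hE.1 hE.2)
    rw [cj_eq_of_mem_normalizer (MinSimple.VModule.le_normalizer_o2 Y hy)] at h1
    exact h1.trans s.oY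

end Cfsg.Agent.Omega.CaseLQ
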