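import Cfsg.Agent.Omega.CaseLQ.PsiYB
import Cfsg.Agent.Omega.CaseLQ.YBXs
import Cfsg.Agent.Omega.CaseLQ.GlueC

/-!
# NoW and NoW+, `q ≥ 3`: step (ii) without `Y ≤ C(Λ)`, and the abstract end (helper952 #24536, helper509 #25180)

* `psi_false_mv` : `PsiYB.psi_false` with `Y ≤ C(Λ)`, `Λ ≤ U`, `Ω₁Z(T) ≤ Λ Z_j` replaced by: `Y` moves `C_{Z_j}(T)`;
* `mv_of_cent` : the latter from the former;
* **`now_false`** : `SitC` over `Bg` and the data of `Y` give `False`.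
-/

set_option autoImplicit false
set_option linter.unusedSectionVars false

namespace Cfsg.Agent.Omega.CaseLQ.PsiYC

open Subgroup Cfsg Cfsg.Agent.ZN Cfsg.Agent.ZN.ChoiceBase
open Cfsg.Agent.ZN.ChoiceSit (Syl)
open Cfsg.Agent.Omega.OM
open Cfsg.Agent.Omega.OM.GLev (GE)
open Cfsg.Agent.Omega.NO3S.EThree.Frame (Bg Fg)
open Cfsg.Agent.Omega.NO3S.RedC (MaxMin)
open Cfsg.Agent.Omega.NO3S.CaseLW.YBX (Xc mem_Xc Concl)
open Cfsg.Agent.Omega.FFThm (OffM ElemM NoOverM StmtM)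
open Cfsg.Agent.MinSimple.MinParabolic (IsMinPar)
open Cfsg.Agent.Omega.CaseLQ.Psi
open Cfsg.Agent.Omega.CaseLQ.PsiYB (Fam bfam YS frN_of_yb)
open Cfsg.Agent.Omega.CaseLQ.YBXs (ConclS exists_ybx_st)

universe u w

variable {G : Type u} [Group G] [Finite G]

/-- the blocks of `Y` on `C_U(⟨Fam⟩)`; for some `l` the vectors of `N l` fixed by `T` are fixed by `Y` -/
theorem exists_conclS {U H T Y : Subgroup G} (s : YS U H T Y) (hFF : StmtM.{u})
    (hex : ∃ E, E ≤ T ∧ MaxMin U H E ∧ ¬ E ≤ o2 Y) :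
    ∃ (ι : Type) (_ : Finite ι) (Ni c : ι → Subgroup G), ConclS T Y U (Fam U H T) Ni c := by
  obtain ⟨ge, -⟩ := s.exists_concl hFF hex
  obtain ⟨E, hET, hE, hEY⟩ := hex
  have hEF : E ∈ Fam U H T := ⟨hET, Or.inl hE⟩
  have hfam := bfam (U := U) (H := H) (T := T) (s.TY.trans s.YH)
  have hne : ¬ E ≤ centralizer (zl T Y : Set G) := fun h => hEY ((le_inf hET h).trans s.cap)
  obtain ⟨-, con⟩ := hFF G T Y s.syl s.min s.c2
    ⟨E, hET.trans s.TY, NO3S.OneLine.BFam.offM hfam s.U_mul s.VU hEF hne⟩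
  exact exists_ybx_st ge s.UT con ⟨E, hEF, hEY⟩ s.mv

/-- `Y` moves `C_{Z_j}(T)`, if it centralises `Λ` and moves `Ω₁Z(T) ≤ Λ Z_j` -/
theorem mv_of_cent {T Y Λ Z : Subgroup G} (TY : T ≤ Y) (mv : ¬ Y ≤ centralizer (zc T : Set G))
    (YΛ : Y ≤ centralizer (Λ : Set G)) (zT : zc T ≤ Λ ⊔ Z) (ΛZ : ∀ a ∈ Λ, ∀ b ∈ Z, a * b = b * a) :
    ¬ Y ≤ centralizer ((Z ⊓ centralizer (T : Set G) : Subgroup G) : Set G) := by
  intro hcon
  apply mv
  intro y hy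
  rw [mem_centralizer_iff]
  intro z hz
  have hn : Λ ≤ normalizer (Z : Set G) := fun a ha => mem_normalizer_of_cj_le (by
    rintro _ ⟨b, hb, rfl⟩
    have e : a * b * a⁻¹ = b := by rw [ΛZ a ha b hb]; group
    show a * b * a⁻¹ ∈ Z
    rw [e]; exact hb)
  have h1 : z ∈ Λ ⊔ Z := zT hz
  rw [← SetLike.mem_coe, Subgroup.coe_mul_of_left_le_normalizer_right _ _ hn] at h1
  obtain ⟨a, ha, b, hb, rfl⟩ := h1
  have haY : ∀ y ∈ Y, a * y = y * a := fun y hy => mem_centralizer_iff.1 (YΛ hy) a ha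
  have hzT : ∀ t ∈ T, t * (a * b) = a * b * t := fun t ht => (ChoiceBase.mem_zc.1 hz).2.2 t ht
  have hbT : b ∈ Z ⊓ centralizer (T : Set G) := by
    refine ⟨hb, mem_centralizer_iff.2 fun t ht => ?_⟩
    have h2 := hzT t ht
    have h3 := haY t (TY ht)
    have h4 : a * (t * b) = a * (b * t) := by
      rw [← mul_assoc, h3, mul_assoc, h2, mul_assoc]
    exact mul_left_cancel h4
  have h5 := mem_centralizer_iff.1 (hcon hy) b hbT
  show a * b * y = y * (a * b)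
  rw [mul_assoc, h5, ← mul_assoc, haY y hy, mul_assoc]

section bg

variable {S : Sylow 2 G} {P B ZJ : Subgroup G} {ι : Type} {L W Z C : ι → Subgroup G} {q : ℕ}
  (h : Bg S P B ZJ L W Z C q)
include h

/-- **NoW and NoW+, `q ≥ 3`, step (ii)**: if all maximal offenders of least rank `≤ T` centralise `W j`, one of them is not
in `O₂(Y)` and `Y` moves `C_{Z_j}(T)`: contradiction. -/
theorem psi_false_mv {j : ι} (hq : 3 ≤ q) {U H T Y : Subgroup G} (s : YS U H T Y) (hFF : StmtM.{u}) (BT : B ≤ T)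
    (TS : T ≤ (S : Subgroup G)) (WU : W j ≤ U) (CQ : U ⊓ centralizer (o2 P : Set G) ≤ zl (S : Subgroup G) P)
    (cen : ∀ E ≤ T, MaxMin U H E → E ≤ centralizer (W j : Set G))
    (hex : ∃ E, E ≤ T ∧ MaxMin U H E ∧ ¬ E ≤ o2 Y)
    (mvZ : ¬ Y ≤ centralizer ((Z j ⊓ centralizer (T : Set G) : Subgroup G) : Set G)) : False := by
  obtain ⟨κ, _, Ni, c, hc, l, hl⟩ := exists_conclS s hFF hex
  have WX : W j ≤ Xc U (Fam U H T) := by
    intro w hw
    refine mem_Xc.2 ⟨WU hw, fun A hA a ha => ?_⟩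
    rcases hA.2 with h1 | h1
    · exact ((mem_centralizer_iff.1 (cen A hA.1 h1 ha)) w hw).symm
    · exact ((mem_centralizer_iff.1 (h1 ha)) w (WU hw)).symm
  have nZ : ∃ i, ¬ Z j ≤ Ni i := by
    refine ⟨l, fun hZ => mvZ fun y hy => mem_centralizer_iff.2 fun z hz => ?_⟩
    have h1 := hl z (hZ hz.1) (fun t ht => mem_centralizer_singleton_iff.2 (mem_centralizer_iff.1 hz.2 t ht)) hy
    exact (mem_centralizer_singleton_iff.1 h1).symm
  exact (frN_of_yb h hq BT TS hc.yb WX ((inf_le_inf_right _ (NO3S.CaseLW.YBX.Xc_le _ _)).trans CQ) nZ).false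

/-- **NoW and NoW+, `q ≥ 3`, abstract end.** -/
theorem now_false {j : ι} (hq : 3 ≤ q) {H U T Λ Pj Y : Subgroup G}
    (s : SitC H U T (o2 P) (W j) (Z j) Λ Pj Y) (hFF : StmtM.{u}) (BT : B ≤ T) (TS : T ≤ (S : Subgroup G))
    (hT : Syl T H) (hoff : ∃ A ≤ H, OffM U A)
    (gen : ∀ A ≤ T, A ≤ centralizer (W j : Set G) → Pj ≤ normalizer (A : Set G) → Y ≤ normalizer (A : Set G) →
      A ≤ centralizer (U : Set G))
    (min : IsMinPar T Y) (c2 : Y ⊓ centralizer (o2 Y : Set G) ≤ o2 Y) (mv : ¬ Y ≤ centralizer (zc T : Set G))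
    (VU : zl T Y ≤ U) (CQ : U ⊓ centralizer (o2 P : Set G) ≤ zl (S : Subgroup G) P)
    (mvZ : ¬ Y ≤ centralizer ((Z j ⊓ centralizer (T : Set G) : Subgroup G) : Set G)) : False := by
  obtain ⟨h1, E, hE, hET, hEY⟩ := s.exists_E hT hoff gen
  exact psi_false_mv h hq ⟨s.Uc, s.Us, s.HU, s.UT, s.sylY, min, c2, mv, s.YH, VU⟩ hFF BT TS s.NU CQ
    (fun E hE m => h1 E m hE) ⟨E, hET, hE, hEY⟩ mvZ

end bg

end Cfsg.Agent.Omega.CaseLQ.PsiYC
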