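import Cfsg.Agent.Omega.CaseLQ.Inst
import Cfsg.Agent.Omega.CaseLQ.PsiYC
import Cfsg.Agent.Omega.FF.GlobEnd

/-!
# NoW and NoW+ (helper952 #24536, helper509 #25180), `q ≥ 3`, over `MulL`

* `noW_core` : in coordinates; **`noW_core'`** : over any frame `MulL`.
-/

set_option autoImplicit false

namespace Cfsg.Agent.Omega.CaseLQ

open Subgroup Cfsg Cfsg.Agent.ZN Cfsg.Agent.ZN.ChoiceBase
open Cfsg.Agent.ZN.ChoiceSit (Syl)
open Cfsg.Agent.MinSimple.MinParabolic (IsMinPar)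
open Cfsg.Agent.Omega.FFThm (NatKM StmtM)
open Cfsg.Agent.Omega.FrameFF (cv)
open Cfsg.Agent.Omega.NO3S.ThmB (Nb)
open Cfsg.Agent.Omega.Node.MulX (MulL)

universe u

variable {G : Type u} [Group G] [Finite G] {S : Sylow 2 G} {P B ZJ : Subgroup G} {k : ℕ}
  {L W Z C A : Fin k → Subgroup G} {q : ℕ}

theorem noW_core {F : Type} [Field F] [Finite F] [CharP F 2]
    {N : NatKM F (S : Subgroup G) P (zl (S : Subgroup G) P) (cv (S : Subgroup G) P) k}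
    (h : MulL S P B ZJ L W Z C A q) (hn : Nb N) {j : Fin k} (b : BlkJ N j (W j) (Z j) (C j)) (hq : 3 ≤ q)
    {T Y D Λ : Subgroup G} (d : WData S P B ZJ Z C j T Y D Λ) : False := by
  have s := sitC_of h hn b FF.Glob.ffthmM d
  exact PsiYC.now_false h.bg hq s.sit FF.Glob.ffthmM d.BT d.TS s.hT s.hoff s.gen d.min d.c2 s.mv s.VU s.CQ d.mvZ

/-- **NoW and NoW+.** -/
theorem noW_core' (h : MulL S P B ZJ L W Z C A q) (hq : 3 ≤ q) {j : Fin k} {T Y D Λ : Subgroup G}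
    (BT : B ≤ T) (TS : T ≤ (S : Subgroup G)) (TZ : T ≤ normalizer (Z j : Set G)) (DZ : D ≤ ZJ) (D0 : D ≠ ⊥)
    (DC : D ≤ ⨆ l : {l : Fin k // l ≠ j}, Z l) (hT : Syl T (centralizer (D : Set G))) (YD : Y ≤ centralizer (D : Set G))
    (syl : Syl T Y) (min : IsMinPar T Y) (c2 : Y ⊓ centralizer (o2 Y : Set G) ≤ o2 Y) (nQ : ¬ o2 P ≤ o2 Y)
    (ΛC : Λ ≤ ⨆ l : {l : Fin k // l ≠ j}, Z l) (ΛT : T ≤ centralizer (Λ : Set G)) (zT : zc T ≤ Z j ⊔ Λ)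
    (mvZ : ¬ Y ≤ centralizer ((Z j ⊓ centralizer (T : Set G) : Subgroup G) : Set G))
    (cnt : ∀ F ≤ Λ, F ⊓ centralizer (Y : Set G) = ⊥ → Nat.card F < Nat.card ↥(Z j ⊓ centralizer (T : Set G))) :
    False := by
  have hk : 2 ≤ k := by
    obtain ⟨i, hi⟩ := h.bg.two j
    have h1 : (i : ℕ) ≠ j := fun h0 => hi (Fin.ext h0)
    have h2 := i.2
    have h3 := j.2
    omega
  obtain ⟨F, _, _, _, N, L', W', Z', C', A', -, h', hn, b, σ, hσ⟩ := exists_crd h hk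
  have hC : (⨆ l : {l : Fin k // l ≠ j}, Z l) ≤ C' (σ j) := by
    refine iSup_le fun l => ?_
    rw [hσ l]
    exact (h'.bg.fr.blk (σ l)).ZV.trans (h'.bg.fr.WjC (σ j) (σ l) fun e => l.2 (σ.injective e.symm))
  rw [hσ j] at TZ zT mvZ cnt
  exact noW_core h' hn (b (σ j)) hq
    { BT := BT, TS := TS, TZ := TZ, DZ := DZ, D0 := D0, DC := DC.trans hC, hT := hT, YD := YD, syl := syl, min := min,
      c2 := c2, nQ := nQ, ΛC := ΛC.trans hC, ΛT := ΛT, zT := zT, mvZ := mvZ, cnt := cnt }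

end Cfsg.Agent.Omega.CaseLQ
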