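import Cfsg.Agent.Omega.CaseLQ.Pj
import Cfsg.Agent.Omega.Node.MulX

/-!
# Coordinates for `MulL`

`exists_crd` : a frame `MulL S P B ZJ L' W' Z' C' A' q` with the same `(B, ZJ)` whose blocks are the coordinate blocks of
a `NatKM` (`BlkJ`), and `Z i = Z' (σ i)`.
-/

set_option autoImplicit false

namespace Cfsg.Agent.Omega.CaseLQ

open Subgroup Cfsg Cfsg.Agent.ZN Cfsg.Agent.ZN.ChoiceBase
open Cfsg.Agent.Omega.FFThm
open Cfsg.Agent.Omega.FrameFF (cv)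
open Cfsg.Agent.Omega.OM.Lev.Nat
open Cfsg.Agent.Omega.Node.MulX
open Cfsg.Agent.Omega.NO3S.Level (nxt)
open Cfsg.Agent.Omega.NO3S.ThmB (Nb)

universe u

variable {G : Type u} [Group G] [Finite G] {S : Sylow 2 G} {P B ZJ : Subgroup G} {k : ℕ}
  {L W Z C A : Fin k → Subgroup G} {q : ℕ}

theorem exists_crd (h : MulL S P B ZJ L W Z C A q) (hk : 2 ≤ k) :
    ∃ (F : Type) (_ : Field F) (_ : Finite F) (_ : CharP F 2)
      (N : NatKM F (S : Subgroup G) P (zl (S : Subgroup G) P) (cv (S : Subgroup G) P) k)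
      (L' W' Z' C' A' : Fin k → Subgroup G), Nat.card F = q ∧ MulL S P B ZJ L' W' Z' C' A' q ∧ Nb N ∧
        (∀ j, BlkJ N j (W' j) (Z' j) (C' j)) ∧ ∃ σ : Equiv.Perm (Fin k), ∀ i, Z i = Z' (σ i) := by
  obtain ⟨F, _, _, _, hF, ⟨N⟩⟩ := h.nat
  obtain ⟨M, L', Z', A', hM, hfr, hbg, -, -, -, hZ', -⟩ :=
    OM.Lev.Main.bg_K h.cl.hypN h.cl.levQ le_rfl (Node.MulG.exists_BO_caseL h.cl) hk N h.eqB
  rw [hF] at hfr hbg
  rw [h.cl.zc_eq, ← h.eZ] at hfr
  rw [← h.eZ] at hbg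
  have hfr' := hfr
  have hm : MulL S P B ZJ L' (Wn M) Z' (Cn M) A' q :=
    ⟨h.cl, h.eZ, h.eB, hbg, hfr, F, inferInstance, inferInstance, inferInstance, hF, ⟨N⟩⟩
  have he : M.nat.e = N.e := by rw [hM]
  have hn : Nb N := NO3S.ThmB.Inst.nb h.cl.ctx.char2 h.cl.pss.par N
  have hb : ∀ j, BlkJ N j (Wn M j) (Z' j) (Cn M j) := fun j =>
    { mW := fun v => by rw [mem_Wn, he]
      mZ := fun v => by rw [hZ', he]
      mC := fun v => by rw [mem_Cn, he]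
      mD := fun v hv h0 => hfr.C0 v hv fun i => by
        rw [mem_Cn, he, h0]
        exact ⟨hv, rfl⟩ }
  have hidx : ∀ i, ∃ m, Z i = Z' m := by
    intro i
    obtain ⟨Z'', hFB, m, rfl, -⟩ := hm.uni (h.fbx i)
    refine ⟨m, ?_⟩
    ext z
    rw [(h.fr.blk i).mem_Z_iff, hFB.mem_Z_iff]
  choose σ hσ using hidx
  have hinj : Function.Injective σ := fun a b e => h.bg.Z_inj (by rw [hσ a, hσ b, e])
  exact ⟨F, inferInstance, inferInstance, inferInstance, N, L', Wn M, Z', Cn M, A', hF, hm, hn, hb,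
    Equiv.ofBijective σ (Finite.injective_iff_bijective.1 hinj), hσ⟩

end Cfsg.Agent.Omega.CaseLQ
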