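import Cfsg.Agent.Omega.CaseLQ.PartI

/-!
# NoW, `q = 2`, part (ii), `r = 2` (helper602 #25080 (b)): members which are transvection groups

`Tv U t d` : `t` acts on `U` as a transvection with centre `d`.

* `Tv.comm_of` : two transvections in a 2-group without over-offenders: each commutes with the centre of the other;
* `cos_of` : a maximal offender of least rank which contains a transvection `t` is `⟨t⟩` modulo `C(U)`;
* `exists_tv` : then all maximal offenders of least rank are transvection groups.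
-/

set_option autoImplicit false
set_option linter.unusedSectionVars false

namespace Cfsg.Agent.Omega.CaseLQ.TvTwo

open Subgroup Cfsg Cfsg.Agent.ZN Cfsg.Agent.ZN.ChoiceBase
open Cfsg.Agent.Omega.FFThm (OffM ElemM NoOverM)
open Cfsg.Agent.Omega.NO3S.RedC (MaxMin)
open Cfsg.Agent.Omega.NO3S.Level (MinOff off_of_fM)
open Cfsg.Agent.Omega.NO3b.K0 (conj_mem')
open Cfsg.Agent.Omega.NO3S.Fld (kmod mem_kmod relIndex_mul_card relIndex_le_of_map relIndex_mul_of two_le_relIndex)
open Cfsg.Agent.Omega.NOThreeL.VF (fM fM_le fM_cj fM_of_le le_fM_iff fM_le_iff fM_mul elemM_mono)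

universe u

variable {G : Type u} [Group G] {U : Subgroup G} {s t x y d : G}

/-- `t` acts on `U` as a transvection with centre `d` -/
structure Tv (U : Subgroup G) (t d : G) : Prop where
  nm : t ∈ normalizer (U : Set G)
  mem : d ∈ U
  com : ∀ w ∈ U, t * w * t⁻¹ * w⁻¹ = 1 ∨ t * w * t⁻¹ * w⁻¹ = d
  ne : t ∉ centralizer (U : Set G)

theorem one_iff {t w : G} : t * w * t⁻¹ * w⁻¹ = 1 ↔ t * w = w * t := by
  rw [mul_inv_eq_one, mul_inv_eq_iff_eq_mul]

theorem eq_iff {t w d : G} : t * w * t⁻¹ * w⁻¹ = d ↔ t * w * t⁻¹ = d * w := by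
  rw [mul_inv_eq_iff_eq_mul]

namespace Tv

theorem exists_w (h : Tv U t d) : ∃ w ∈ U, t * w * t⁻¹ * w⁻¹ = d ∧ t * w ≠ w * t := by
  by_contra hcon
  push Not at hcon
  apply h.ne
  rw [mem_centralizer_iff]
  intro w hw
  rcases h.com w hw with h1 | h1
  · exact (one_iff.1 h1).symm
  · exact (hcon w hw h1).symm

theorem d_ne (h : Tv U t d) : d ≠ 1 := by
  rintro rfl
  obtain ⟨w, hw, h1, h2⟩ := h.exists_w
  exact h2 (one_iff.1 h1)

theorem fix_d (Us : ∀ u ∈ U, u ^ 2 = 1) (h : Tv U t d) : t * d = d * t := by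
  rcases h.com d h.mem with h1 | h1
  · exact one_iff.1 h1
  · exfalso
    have h2 := eq_iff.1 h1
    rw [← pow_two, Us d h.mem] at h2
    apply h.d_ne
    have e : d = t⁻¹ * (t * d * t⁻¹) * t := by group
    rw [e, h2]; group

theorem cj (h : Tv U t d) {g : G} (hg : g ∈ normalizer (U : Set G)) : Tv U (g * t * g⁻¹) (g * d * g⁻¹) where
  nm := mul_mem (mul_mem hg h.nm) (inv_mem hg)
  mem := (mem_normalizer_iff.1 hg d).1 h.mem
  com := fun w hw => by
    have h1 : g⁻¹ * w * g ∈ U := by
      have := (mem_normalizer_iff.1 (inv_mem hg) w).1 hw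
      rwa [inv_inv] at this
    have e : g * t * g⁻¹ * w * (g * t * g⁻¹)⁻¹ * w⁻¹ = g * (t * (g⁻¹ * w * g) * t⁻¹ * (g⁻¹ * w * g)⁻¹) * g⁻¹ := by
      group
    rcases h.com _ h1 with h2 | h2
    · left; rw [e, h2]; group
    · right; rw [e, h2]
  ne := fun hc => h.ne (by
    rw [mem_centralizer_iff] at hc ⊢
    intro w hw
    have h1 := hc (g * w * g⁻¹) ((mem_normalizer_iff.1 hg w).1 hw)
    have e1 : g * w * g⁻¹ * (g * t * g⁻¹) = g * (w * t) * g⁻¹ := by group
    have e2 : g * t * g⁻¹ * (g * w * g⁻¹) = g * (t * w) * g⁻¹ := by group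
    rw [e1, e2] at h1
    exact mul_left_cancel (mul_right_cancel h1))

theorem unique {d' : G} (h : Tv U t d) (h' : Tv U t d') : d = d' := by
  obtain ⟨w, hw, h1, h2⟩ := h.exists_w
  rcases h'.com w hw with h3 | h3
  · exact absurd (one_iff.1 h3) h2
  · exact h1.symm.trans h3

/-- two transvections each moving the centre of the other do not lie in a 2-group -/
theorem not_two {R : Subgroup G} (hR : IsPGroup 2 R) (Uc : ∀ a ∈ U, ∀ b ∈ U, a * b = b * a) (Us : ∀ u ∈ U, u ^ 2 = 1)
    (hs : s ∈ R) (ht : t ∈ R) (h : Tv U s x) (h' : Tv U t y) (h1 : t * x * t⁻¹ = y * x) (h2 : s * y * s⁻¹ = x * y) :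
    False := by
  have xx : x * x = 1 := by rw [← pow_two]; exact Us x h.mem
  have yy : y * y = 1 := by rw [← pow_two]; exact Us y h'.mem
  have xy : x * y = y * x := Uc x h.mem y h'.mem
  have sx : s * x * s⁻¹ = x := by rw [h.fix_d Us]; group
  have ty : t * y * t⁻¹ = y := by rw [h'.fix_d Us]; group
  set g := s * t with hg
  have g1 : g * x * g⁻¹ = y := by
    have e : g * x * g⁻¹ = s * (t * x * t⁻¹) * s⁻¹ := by rw [hg]; group
    have e2 : s * (y * x) * s⁻¹ = (s * y * s⁻¹) * (s * x * s⁻¹) := by group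
    rw [e, h1, e2, h2, sx, xy, mul_assoc, xx, mul_one]
  have g2 : g * y * g⁻¹ = x * y := by
    have e : g * y * g⁻¹ = s * (t * y * t⁻¹) * s⁻¹ := by rw [hg]; group
    rw [e, ty, h2]
  have g3 : g * (x * y) * g⁻¹ = x := by
    have e : g * (x * y) * g⁻¹ = (g * x * g⁻¹) * (g * y * g⁻¹) := by group
    rw [e, g1, g2, xy, ← mul_assoc, yy, one_mul]
  have k3 : g ^ 3 * x * (g ^ 3)⁻¹ = x := by
    have e : g ^ 3 * x * (g ^ 3)⁻¹ = g * (g * (g * x * g⁻¹) * g⁻¹) * g⁻¹ := by
      rw [pow_succ, pow_two]; group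
    rw [e, g1, g2, g3]
  obtain ⟨n, hn⟩ := hR ⟨g, mul_mem hs ht⟩
  have hn' : g ^ 2 ^ n = 1 := by simpa using congrArg Subtype.val hn
  have hc3 : g ^ 3 ∈ centralizer ({x} : Set G) := by
    rw [mem_centralizer_singleton_iff]; exact mul_inv_eq_iff_eq_mul.1 k3
  have hc : g ∈ centralizer ({x} : Set G) := by
    have hcop : Nat.Coprime 3 (2 ^ n) := Nat.Coprime.pow_right n (by decide)
    have h4 : g ^ (2 ^ n) ∈ centralizer ({x} : Set G) := by rw [hn']; exact one_mem _
    have h5 : g ^ (Nat.gcd 3 (2 ^ n) : ℤ) ∈ centralizer ({x} : Set G) := by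
      rw [Nat.gcd_eq_gcd_ab, zpow_add, zpow_mul, zpow_mul]
      refine mul_mem (zpow_mem ?_ _) (zpow_mem ?_ _)
      · rw [zpow_natCast]; exact hc3
      · rw [zpow_natCast]; exact h4
    rw [hcop] at h5
    simpa using h5
  have h6 := mem_centralizer_singleton_iff.1 hc
  have h7 : x = y := by
    rw [← g1, h6]; group
  rw [← h7, xx] at h1
  apply h.d_ne
  have e : x = t⁻¹ * (t * x * t⁻¹) * t := by group
  rw [e, h1]; group

variable [Finite G]

/-- index at most two -/
theorem mem_of_two {K A : Subgroup G} (h : K.relIndex A ≤ 2) {a b : G} (ha : a ∈ A) (hb : b ∈ A) (haK : a ∉ K)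
    (hbK : b ∉ K) : a * b ∈ K := by
  have h2 := two_le_relIndex ha haK
  have h3 : (K.subgroupOf A).index = 2 := le_antisymm h h2
  have h4 := (mul_mem_iff_of_index_two h3 (a := ⟨a, ha⟩) (b := ⟨b, hb⟩)).2
    ⟨fun h5 => absurd h5 haK, fun h5 => absurd h5 hbK⟩
  exact h4

/-- **Two transvections in a 2-group, no over-offenders**: each commutes with the centre of the other. -/
theorem comm_of {R : Subgroup G} (hR : IsPGroup 2 R) (Uc : ∀ a ∈ U, ∀ b ∈ U, a * b = b * a) (Us : ∀ u ∈ U, u ^ 2 = 1)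
    (no : NoOverM U R) (hs : s ∈ R) (ht : t ∈ R) (h : Tv U s x) (h' : Tv U t y) : t * x = x * t := by
  by_contra hcon
  have h1 : t * x * t⁻¹ = y * x := by
    rcases h'.com x h.mem with h3 | h3
    · exact absurd (one_iff.1 h3) hcon
    · exact eq_iff.1 h3
  rcases h.com y h'.mem with h2 | h2
  swap
  · exact not_two hR Uc Us hs ht h h' h1 (eq_iff.1 h2)
  have hsy := one_iff.1 h2
  -- the transvection `s' = t s t⁻¹` has the same axis
  set s' := t * s * t⁻¹ with hs'
  have k' : Tv U s' (y * x) := by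
    have := h.cj h'.nm
    rwa [h1] at this
  have s'R : s' ∈ R := mul_mem (mul_mem ht hs) (inv_mem ht)
  have ax : ∀ w ∈ U, s * w = w * s → s' * w = w * s' := by
    intro w hw hsw
    -- `t⁻¹ w t` is `w` or `y w`
    have h3 : t⁻¹ * w * t ∈ U := by
      have := (mem_normalizer_iff.1 (inv_mem h'.nm) w).1 hw
      rwa [inv_inv] at this
    have h4 : s * (t⁻¹ * w * t) = (t⁻¹ * w * t) * s := by
      rcases h'.com _ h3 with h5 | h5
      · have h6 := one_iff.1 h5
        have e : t⁻¹ * w * t = w := by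
          have e1 : t * (t⁻¹ * w * t) = w * t := by group
          rw [e1] at h6
          have e2 : w * t = t⁻¹ * w * t * t := h6
          exact (mul_right_cancel h6).symm
        rw [e]; exact hsw
      · have h6 := eq_iff.1 h5
        have e1 : t * (t⁻¹ * w * t) * t⁻¹ = w := by group
        rw [e1] at h6
        have e : t⁻¹ * w * t = y⁻¹ * w := eq_inv_mul_of_mul_eq h6.symm
        have hy : s * y⁻¹ = y⁻¹ * s := by
          have := (show Commute s y from hsy).inv_right
          exact this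
        rw [e, ← mul_assoc, hy, mul_assoc, hsw, mul_assoc]
    have e1 : s' * w = t * (s * (t⁻¹ * w * t)) * t⁻¹ := by rw [hs']; group
    have e2 : w * s' = t * ((t⁻¹ * w * t) * s) * t⁻¹ := by rw [hs']; group
    rw [e1, e2, h4]
  set X := closure ({s, s'} : Set G) with hX
  have sX : s ∈ X := subset_closure (by simp)
  have s'X : s' ∈ X := subset_closure (by simp)
  have XR : X ≤ R := by
    rw [hX, closure_le]
    rintro g (rfl | rfl)
    · exact hs
    · exact s'R
  have XU : X ≤ normalizer (U : Set G) := by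
    rw [hX, closure_le]
    rintro g (rfl | rfl)
    · exact h.nm
    · exact k'.nm
  have cX : ∀ w ∈ U, s * w = w * s → w ∈ U ⊓ centralizer (X : Set G) := by
    intro w hw hsw
    refine ⟨hw, ?_⟩
    have h3 : X ≤ centralizer ({w} : Set G) := by
      rw [hX, closure_le]
      rintro g (rfl | rfl)
      · exact mem_centralizer_singleton_iff.2 hsw
      · exact mem_centralizer_singleton_iff.2 (ax w hw hsw)
    exact mem_centralizer_iff.2 fun g hg => mem_centralizer_singleton_iff.1 (h3 hg)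
  have hsx := h.fix_d Us
  have AN : X ≤ normalizer ((U ⊓ centralizer (X : Set G) : Subgroup G) : Set G) := by
    intro g hg
    rw [mem_normalizer_iff]
    intro w
    constructor
    · rintro ⟨h3, h4⟩
      have h5 := mem_centralizer_iff.1 h4 g hg
      have e : g * w * g⁻¹ = w := by rw [h5]; group
      rw [e]; exact ⟨h3, h4⟩
    · rintro ⟨h3, h4⟩
      have h5 := mem_centralizer_iff.1 h4 g hg
      have e : g * (g * w * g⁻¹) = g * w := by
        have e1 : g * w * g⁻¹ * g = g * w := by group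
        exact h5.trans e1
      have e2 : g * w * g⁻¹ = w := mul_left_cancel e
      rw [e2] at h3 h4; exact ⟨h3, h4⟩
  have hk : X ≤ kmod X U (U ⊓ centralizer (X : Set G)) XU AN := by
    conv_lhs => rw [hX]
    rw [closure_le]
    rintro g (rfl | rfl)
    · refine mem_kmod.2 ⟨sX, fun w hw => ?_⟩
      rcases h.com w hw with h3 | h3
      · rw [h3]; exact one_mem _
      · rw [h3]; exact cX x h.mem hsx
    · refine mem_kmod.2 ⟨s'X, fun w hw => ?_⟩
      rcases k'.com w hw with h3 | h3
      · rw [h3]; exact one_mem _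
      · rw [h3]
        refine cX _ k'.mem ?_
        have c1 : Commute s y := hsy
        have c2 : Commute s x := hsx
        exact c1.mul_right c2
  have hE : ElemM U X := elemM_of_quad Us Uc fun a ha u hu => (mem_kmod.1 (hk ha)).2 u hu
  have k1 : (centralizer (X : Set G)).relIndex U ≤ 2 := by
    have hc2 : Nat.card ↥(zpowers x) ≤ 2 := by
      rw [Nat.card_zpowers]
      exact Nat.le_of_dvd (by norm_num) (orderOf_dvd_of_pow_eq_one (Us x h.mem))
    refine le_trans ?_ hc2
    rw [← relIndex_bot_left (zpowers x)]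
    refine relIndex_le_of_map (fun w => s * w * s⁻¹ * w⁻¹) (fun w hw => ?_) ?_
    · rcases h.com w hw with h3 | h3
      · simp only [h3]; exact one_mem _
      · simp only [h3]; exact mem_zpowers x
    · intro w hw w' hw' hww
      rw [mem_bot, inv_mul_eq_one] at hww
      refine (cX _ (mul_mem (inv_mem hw) hw') ?_).2
      rw [← one_iff]
      have e1 : s * (w⁻¹ * w') * s⁻¹ * (w⁻¹ * w')⁻¹ = (s * w * s⁻¹)⁻¹ * (s * w' * s⁻¹) * w'⁻¹ * w := by group
      have e2 : s * w * s⁻¹ = (s * w * s⁻¹ * w⁻¹) * w := by group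
      have e3 : s * w' * s⁻¹ = (s * w' * s⁻¹ * w'⁻¹) * w' := by group
      rw [e1, e2, e3, hww]
      generalize s * w' * s⁻¹ * w'⁻¹ = q
      group
  have k2 : (centralizer (U : Set G)).relIndex X ≤ 2 := (FFThm.relIndex_le_iff.1 (no X XR hE)).trans k1
  have k3 : s * s' ∈ centralizer (U : Set G) := mem_of_two k2 sX s'X h.ne k'.ne
  obtain ⟨w, hw, hw1, hw2⟩ := h.exists_w
  have hw' := eq_iff.1 hw1
  have k4 : s' * w * s'⁻¹ = y * x * w := by
    rcases k'.com w hw with h3 | h3
    · exfalso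
      -- `s'` commutes with `w`, so does `s`
      have h4 := mem_centralizer_iff.1 k3 w hw
      have h5 := one_iff.1 h3
      apply hw2
      have e : w * (s * s') = w * s * s' := by group
      have e2 : s * s' * w = s * w * s' := by rw [mul_assoc, h5]; group
      rw [e, e2] at h4
      exact (mul_right_cancel h4).symm
    · exact eq_iff.1 h3
  have k5 := mem_centralizer_iff.1 k3 w hw
  have k6 : s * s' * w * (s * s')⁻¹ = w := by rw [← k5]; group
  have k7 : s * s' * w * (s * s')⁻¹ = s * (s' * w * s'⁻¹) * s⁻¹ := by group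
  rw [k7, k4] at k6
  have k8 : s * (y * x * w) * s⁻¹ = (s * y * s⁻¹) * (s * x * s⁻¹) * (s * w * s⁻¹) := by group
  have sy' : s * y * s⁻¹ = y := by rw [hsy]; group
  have sx' : s * x * s⁻¹ = x := by rw [hsx]; group
  rw [k8, sy', sx', hw'] at k6
  have xx : x * x = 1 := by rw [← pow_two]; exact Us x h.mem
  have k9 : y * x * (x * w) = y * w := by
    have e : y * x * (x * w) = y * (x * x) * w := by group
    rw [e, xx, mul_one]
  rw [k9] at k6
  exact h'.d_ne (by simpa using k6)

end Tv

variable [Finite G] {H E A : Subgroup G}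

/-- **A maximal offender of least rank which contains a transvection `t` is `⟨t⟩` modulo `C(U)`.** -/
theorem cos_of (Us : ∀ u ∈ U, u ^ 2 = 1) (HU : H ≤ normalizer (U : Set G))
    (mo : MinOff U H E) (ht : t ∈ E) (h : Tv U t d) :
    ∀ g ∈ E, g ∈ centralizer (U : Set G) ∨ t⁻¹ * g ∈ centralizer (U : Set G) := by
  have htU := h.com
  have htne := h.ne
  have hdd : d * d = 1 := by rw [← pow_two]; exact Us d h.mem
  have hUn : E ≤ normalizer (U : Set G) := mo.le.trans HU
  have hCn : ∀ g ∈ E, ∀ z ∈ centralizer (U : Set G), g⁻¹ * z * g ∈ centralizer (U : Set G) := by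
    intro g hg z hz
    rw [mem_centralizer_iff]
    intro w hw
    have h1 : g * w * g⁻¹ ∈ U := conj_mem' hUn hg hw
    have h2 := mem_centralizer_iff.1 hz _ h1
    have e1 : w * (g⁻¹ * z * g) = g⁻¹ * (g * w * g⁻¹ * z) * g := by group
    rw [e1, h2]
    group
  let E₁ : Subgroup G :=
    { carrier := {g | g ∈ E ∧ (g ∈ centralizer (U : Set G) ∨ t⁻¹ * g ∈ centralizer (U : Set G))}
      one_mem' := ⟨one_mem _, Or.inl (one_mem _)⟩
      mul_mem' := by
        rintro a b ⟨ha, ha'⟩ ⟨hb, hb'⟩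
        refine ⟨mul_mem ha hb, ?_⟩
        rcases ha' with ha' | ha' <;> rcases hb' with hb' | hb'
        · exact Or.inl (mul_mem ha' hb')
        · right
          have h1 := hCn t ht a ha'
          have e1 : t⁻¹ * (a * b) = (t⁻¹ * a * t) * (t⁻¹ * b) := by group
          rw [e1]
          exact mul_mem h1 hb'
        · right
          have e1 : t⁻¹ * (a * b) = t⁻¹ * a * b := by group
          rw [e1]
          exact mul_mem ha' hb'
        · left
          have h1 := mo.off.sq t ht
          have h2 := hCn t ht _ ha'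
          have e1 : a * b = t ^ 2 * (t⁻¹ * (t⁻¹ * a) * t) * (t⁻¹ * b) := by rw [pow_two]; group
          rw [e1]
          exact mul_mem (mul_mem h1 h2) hb'
      inv_mem' := by
        rintro a ⟨ha, ha'⟩
        refine ⟨inv_mem ha, ?_⟩
        rcases ha' with ha' | ha'
        · exact Or.inl (inv_mem ha')
        · right
          have h1 := mo.off.sq t ht
          have h2 := hCn t⁻¹ (inv_mem ht) _ (inv_mem ha')
          have e1 : t⁻¹ * a⁻¹ = (t ^ 2)⁻¹ * (t * (t⁻¹ * a)⁻¹ * t⁻¹) := by rw [pow_two]; group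
          rw [e1]
          refine mul_mem (inv_mem h1) ?_
          have e2 : t * (t⁻¹ * a)⁻¹ * t⁻¹ = t⁻¹⁻¹ * (t⁻¹ * a)⁻¹ * t⁻¹ := by group
          rw [e2]
          exact h2 }
  have hE₁E : E₁ ≤ E := fun g hg => hg.1
  have htE₁ : t ∈ E₁ := ⟨ht, Or.inr (by rw [inv_mul_cancel]; exact one_mem _)⟩
  have hcz : ∀ w ∈ U, t * w * t⁻¹ * w⁻¹ = 1 → w ∈ centralizer (E₁ : Set G) := by
    intro w hw h1
    refine mem_centralizer_iff.2 fun g hg => ?_
    have htw : t * w = w * t := one_iff.1 h1
    rcases hg.2 with h2 | h2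
    · exact (mem_centralizer_iff.1 h2 w hw).symm
    · have h3 := mem_centralizer_iff.1 h2 w hw
      have e1 : g * w = t * (t⁻¹ * g * w) := by group
      have e2 : t * (w * (t⁻¹ * g)) = t * w * (t⁻¹ * g) := by group
      rw [e1, ← h3, e2, htw]
      group
  have k1 : (centralizer (E₁ : Set G)).relIndex U ≤ 2 := by
    have hc2 : Nat.card ↥(zpowers d) ≤ 2 := by
      rw [Nat.card_zpowers]
      exact Nat.le_of_dvd (by norm_num) (orderOf_dvd_of_pow_eq_one (by rw [pow_two]; exact hdd))
    refine le_trans ?_ hc2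
    rw [← relIndex_bot_left (zpowers d)]
    refine relIndex_le_of_map (fun w => t * w * t⁻¹ * w⁻¹) (fun w hw => ?_) ?_
    · rcases htU w hw with h1 | h1
      · simp only [h1]; exact one_mem _
      · simp only [h1]; exact mem_zpowers d
    · intro w hw w' hw' hww
      rw [mem_bot, inv_mul_eq_one] at hww
      refine hcz _ (mul_mem (inv_mem hw) hw') ?_
      have e1 : t * (w⁻¹ * w') * t⁻¹ * (w⁻¹ * w')⁻¹ = (t * w * t⁻¹)⁻¹ * (t * w' * t⁻¹) * w'⁻¹ * w := by group
      have e2 : t * w * t⁻¹ = (t * w * t⁻¹ * w⁻¹) * w := by group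
      have e3 : t * w' * t⁻¹ = (t * w' * t⁻¹ * w'⁻¹) * w' := by group
      rw [e1, e2, e3, hww]
      generalize t * w' * t⁻¹ * w'⁻¹ = q
      group
  have k2 : 2 ≤ (centralizer (U : Set G)).relIndex E₁ := two_le_relIndex htE₁ htne
  have hoff₁ : OffM U E₁ :=
    ⟨⟨fun a ha => mo.off.sq a (hE₁E ha), fun a ha b hb => mo.off.comm a (hE₁E ha) b (hE₁E hb)⟩,
      fun h0 => htne (h0 htE₁), FFThm.relIndex_le_iff.2 (k1.trans k2)⟩
  have k3 := mo.min E₁ (hE₁E.trans mo.le) (mo.pg.to_le hE₁E) hoff₁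
  have hEE : E ≤ E₁ := by
    have hle : E ⊓ centralizer (U : Set G) ≤ E₁ := fun g hg => ⟨hg.1, Or.inl hg.2⟩
    have k4 := relIndex_mul_of (H := centralizer (U : Set G)) hle hE₁E
    have p0 : 0 < (centralizer (U : Set G)).relIndex E₁ := by omega
    have k5 : E₁.relIndex E ≤ 1 := by
      refine Nat.le_of_mul_le_mul_left (c := (centralizer (U : Set G)).relIndex E₁) ?_ p0
      rw [k4, mul_one]
      exact k3
    have p1 : 0 < E₁.relIndex E := Nat.pos_of_ne_zero index_ne_zero_of_finite
    exact relIndex_eq_one.1 (by omega)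
  exact fun g hg => (hEE hg).2

/-- without over-offenders the members are minimal offenders -/
theorem minOff_of (Uc : U ≤ centralizer (U : Set G)) (no : NoOverM U H) (m : MaxMin U H E) : MinOff U H E where
  le := m.le
  pg := m.pg
  off := ⟨m.elem, m.ne, FFThm.relIndex_le_iff.2 (m.off Uc le_rfl)⟩
  min := fun D hD hD2 hDo => m.min D hD hD2 hDo.toElemM hDo.ne ((fM_le_iff.2 (no E m.le m.elem)).trans (le_fM_iff.2 hDo.le))

/-- **All members are transvection groups.** -/
theorem exists_tv (Uc : U ≤ centralizer (U : Set G)) (Us : ∀ u ∈ U, u ^ 2 = 1) (HU : H ≤ normalizer (U : Set G))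
    (no : NoOverM U H) (m : MaxMin U H E) (ht : t ∈ E) (h : Tv U t d) (mA : MaxMin U H A) :
    ∃ s ∈ A, ∃ x, Tv U s x ∧ ∀ g ∈ A, g ∈ centralizer (U : Set G) ∨ s⁻¹ * g ∈ centralizer (U : Set G) := by
  have mo := minOff_of Uc no m
  have moA := minOff_of Uc no mA
  have hcos := cos_of Us HU mo ht h
  have k0 : (centralizer (U : Set G)).relIndex E ≤ 2 := by
    have h1 : Nat.card ↥(zpowers (1 : G)) = 1 := by simp
    -- `a ↦ [a, w]`
    obtain ⟨w, hw, hw1, hw2⟩ := h.exists_w
    have hc2 : Nat.card ↥(zpowers d) ≤ 2 := by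
      rw [Nat.card_zpowers]
      exact Nat.le_of_dvd (by norm_num) (orderOf_dvd_of_pow_eq_one (Us d h.mem))
    refine le_trans ?_ hc2
    rw [← relIndex_bot_left (zpowers d)]
    classical
    refine relIndex_le_of_map (fun g => if g ∈ centralizer (U : Set G) then 1 else d) (fun g _ => ?_) ?_
    · by_cases h3 : g ∈ centralizer (U : Set G)
      · simp only [if_pos h3]; exact one_mem _
      · simp only [if_neg h3]; exact mem_zpowers d
    · intro a ha b hb hab
      rw [mem_bot, inv_mul_eq_one] at hab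
      by_cases h3 : a ∈ centralizer (U : Set G) <;> by_cases h4 : b ∈ centralizer (U : Set G)
      · exact mul_mem (inv_mem h3) h4
      · simp only [if_pos h3, if_neg h4] at hab
        exact absurd hab.symm h.d_ne
      · simp only [if_neg h3, if_pos h4] at hab
        exact absurd hab h.d_ne
      · have h5 := (hcos a ha).resolve_left h3
        have h6 := (hcos b hb).resolve_left h4
        have e : a⁻¹ * b = (t⁻¹ * a)⁻¹ * (t⁻¹ * b) := by group
        rw [e]
        exact mul_mem (inv_mem h5) h6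
  have k1 : (centralizer (U : Set G)).relIndex A ≤ 2 := (moA.min E m.le m.pg mo.off).trans k0
  have k2 : (centralizer (A : Set G)).relIndex U ≤ 2 := (FFThm.relIndex_le_iff.1 moA.off.le).trans k1
  obtain ⟨s, hs, hsne⟩ := SetLike.not_le_iff_exists.1 mA.ne
  have hsw : ∃ w ∈ U, s * w ≠ w * s := by
    by_contra hcon
    push Not at hcon
    exact hsne (mem_centralizer_iff.2 fun w hw => (hcon w hw).symm)
  obtain ⟨w, hw, hsw⟩ := hsw
  have hwA : w ∉ centralizer (A : Set G) := fun h1 => hsw (mem_centralizer_iff.1 h1 s hs)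
  have sN : s ∈ normalizer (U : Set G) := HU (mA.le hs)
  refine ⟨s, hs, s * w * s⁻¹ * w⁻¹, ⟨sN, mul_mem ((mem_normalizer_iff.1 sN w).1 hw) (inv_mem hw), fun v hv => ?_, hsne⟩,
    fun g hg => ?_⟩
  · by_cases h1 : v ∈ centralizer (A : Set G)
    · left
      exact one_iff.2 (mem_centralizer_iff.1 h1 s hs)
    · right
      have h2 := Tv.mem_of_two k2 (inv_mem hw) hv (fun h3 => hwA (by simpa using inv_mem h3)) h1
      have h3 := mem_centralizer_iff.1 h2 s hs
      have e1 : v = w * (w⁻¹ * v) := by group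
      have e2 : s * (w * (w⁻¹ * v)) * s⁻¹ = s * w * (s⁻¹ * (s * (w⁻¹ * v))) * s⁻¹ := by group
      have e3 : s * v * s⁻¹ = (s * w * s⁻¹) * (w⁻¹ * v) := by
        have e4 : s * v * s⁻¹ = (s * w * s⁻¹) * (s * (w⁻¹ * v) * s⁻¹) := by group
        rw [e4, h3]; group
      rw [e3]
      group
  · by_cases h1 : g ∈ centralizer (U : Set G)
    · exact Or.inl h1
    · right
      exact Tv.mem_of_two k1 (inv_mem hs) hg (fun h3 => hsne (by simpa using inv_mem h3)) h1

end Cfsg.Agent.Omega.CaseLQ.TvTwo
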