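import Cfsg.Agent.Omega.NO3S.CaseLW.YBX
import Cfsg.Agent.Omega.CaseLQ.TvTwo

/-!
# `YB` on `C_X(⟨AA⟩)` when the lines have order `2` (helper602 #25080 (b))

natural modules over `F₂` and the symmetric type.

* `Conc2 T H X AA N c e` : `Concl T H X AA N c` (helper373's `YBX`), `c i = {1, e i}`, every member `A ≰ O₂(H)` has a
  commutator `[a, v] = e i`, `v ∈ ⟨Ω₁Z(T)^H⟩`;
* `nat_two`, `sym_two` : `Conc2` exists;
* `nat_tv`, `sym_tv` : every member `A ≰ O₂(H)` with `X = V C_X(A)` contains a transvection.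
-/

set_option autoImplicit false
set_option linter.unusedSectionVars false

namespace Cfsg.Agent.Omega.CaseLQ.TvTwo

open Subgroup Cfsg Cfsg.Agent.ZN Cfsg.Agent.ZN.ChoiceBase Cfsg.Agent.ZN.ChoiceSit
open Cfsg.Agent.Omega.NatPair (ap ap_zero' ap_one' ap_one ap_mul ext2 ap_inv_ap ap_inj)
open Cfsg.Agent.Lib.SL2Mat
open Cfsg.Agent.Omega.SQ1.FFOne (MinH)
open Cfsg.Agent.Omega.SQ1.FFSym (Gd u E)
open Cfsg.Agent.Omega.NO3S.OneLine (NatC natC_of zc_elem)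
open Cfsg.Agent.Omega.NO3S.OneLine.NatC (acts_mul acts_inv acts_one acts_unique)
open Cfsg.Agent.Omega.OM.Lev.Nat (Wn mem_Wn Xn mem_Xn ap_z exists_up)
open Cfsg.Agent.Omega.OM.GNat (sl2_all exists_root cent_N)
open Cfsg.Agent.Omega.OM.GLev
open Cfsg.Agent.Omega.OM.Lev.Low
open Cfsg.Agent.Omega.FFThm (NatK NatKM SymKM ActsSL ActsSym OffM)
open Cfsg.Agent.Omega.SQ1.Bau (elem_comm elem_sq)
open Cfsg.Agent.Omega.FrameFF (cv)
open Cfsg.Agent.Omega.NO3S.CaseLW.YBX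

universe u

variable {G : Type u} [Group G] [Finite G] {T H X : Subgroup G} {AA : Set (Subgroup G)}

/-- `Concl`, all lines of order two -/
structure Conc2 (T H X : Subgroup G) (AA : Set (Subgroup G)) {Λ : Type} (N c : Λ → Subgroup G) (e : Λ → G) : Prop
    extends Concl T H X AA N c where
  mem : ∀ i, e i ∈ c i
  all : ∀ i, ∀ x ∈ c i, x = 1 ∨ x = e i
  act : ∀ A ∈ AA, ¬ A ≤ o2 H → ∃ a ∈ A, ∃ v ∈ zl T H, ∃ i, a * v * a⁻¹ * v⁻¹ = e i

/-! ### Natural type -/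

section nat

variable {F : Type} [Field F] [Finite F] [CharP F 2] {k : ℕ}

/-- `[a, w] = e j ≠ 1` for the root element of the `j`-th summand -/
theorem root_comm (h : GE T H X AA) (N : NatKM F T H (zl T H) (cv T H) k) (hk : 0 < k) {j : Fin k} {a w : G}
    (ha : a ∈ T) (hac : ActsSL N.e (zl T H) (cv T H) a (Pi.mulSingle j (up 1))) (hw : w ∈ zl T H)
    (hew : N.e w j 1 = 1) : N.e (a * w * a⁻¹ * w⁻¹) j 0 = 1 := by
  classical
  set M := natC_of h.hm hk N.toNatK with hM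
  have haw := M.Vn a (h.TH ha) w hw
  have h4 : N.e (a * w * a⁻¹ * w⁻¹) = N.e (a * w * a⁻¹) - N.e w := M.map_div haw hw
  rw [h4, Pi.sub_apply, hac.1 w hw j, Pi.mulSingle_eq_same, Pi.sub_apply, ap_zero', up_00, up_01, hew]
  ring

/-- the root element centralises the vectors without `(j, 1)`-coordinate -/
theorem root_cent (h : GE T H X AA) (N : NatKM F T H (zl T H) (cv T H) k) (hk : 0 < k) {A : Subgroup G} (hA : A ∈ AA)
    {j : Fin k} {a v : G} (ha : a ∈ A) (hac : ActsSL N.e (zl T H) (cv T H) a (Pi.mulSingle j (up 1)))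
    (hv : v ∈ zl T H) (hev : N.e v j 1 = 0) : a * v = v * a := by
  classical
  set M := natC_of h.hm hk N.toNatK with hM
  have haT := h.fam.le A hA ha
  have hc : v ∈ centralizer ({a} : Set G) := by
    refine Nat.mem_of_comp M (fun d hd => mem_centralizer_singleton_iff.2 (hac.2 d hd).symm) hv fun i u hu eu => ?_
    rw [mem_centralizer_singleton_iff]
    by_cases hi : i = j
    · subst hi
      refine (Xc_comm (Nat.line_le h N hk hu.1 fun m => ?_) ((le_sSup hA : A ≤ sSup AA) ha)).symm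
      by_cases hm : m = i
      · subst hm
        have h3 : N.e u m = N.e v m := eu
        rw [h3]
        exact hev
      · have h3 : N.e u m = 0 := hu.2 m hm
        rw [h3]; rfl
    · exact (cent_N M h.hm (h.TH haT) hac.1 hac.2 (Pi.mulSingle_eq_of_ne hi _) hu.1 hu.2).symm
  exact (mem_centralizer_singleton_iff.1 hc).symm

theorem nat_tv (h : GE T H X AA) (N : NatKM F T H (zl T H) (cv T H) k) (hk : 0 < k) (hF : ∀ x : F, x = 0 ∨ x = 1)
    {A : Subgroup G} (hA : A ∈ AA) (hAQ : ¬ A ≤ o2 H)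
    (hs : ∀ u ∈ X, ∃ v ∈ zl T H, ∃ c ∈ X, (∀ a ∈ A, a * c = c * a) ∧ u = v * c) : ∃ t ∈ A, ∃ d, Tv X t d := by
  classical
  set M := natC_of h.hm hk N.toNatK with hM
  obtain ⟨j, hroot⟩ := exists_root h N hk hA hAQ
  obtain ⟨a, ha, hac⟩ := hroot 1
  have haT := h.fam.le A hA ha
  have haN : a ∈ normalizer (X : Set G) := h.norm (h.TH haT)
  obtain ⟨w0, hw0, e0⟩ := exists_vec M j ![0, 1]
  have e0' : N.e w0 j 1 = 1 := by
    have h3 : N.e w0 j = ![0, 1] := e0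
    rw [h3]; simp
  have h1 := root_comm h N hk haT hac hw0.1 e0'
  have hne : a * w0 * a⁻¹ * w0⁻¹ ≠ 1 := by
    intro h2
    rw [h2] at h1
    have h8 : N.e (1 : G) = 0 := M.map_one
    rw [h8] at h1
    simp at h1
  refine ⟨a, ha, a * w0 * a⁻¹ * w0⁻¹, haN, mul_mem ((mem_normalizer_iff.1 haN w0).1 (h.VX hw0.1))
    (inv_mem (h.VX hw0.1)), fun u hu => ?_, fun hc => hne (one_iff.2 (mem_centralizer_iff.1 hc w0 (h.VX hw0.1)).symm)⟩
  obtain ⟨v, hv, c, hc, hac', rfl⟩ := hs u hu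
  have e3 : a * (v * c) * a⁻¹ * (v * c)⁻¹ = a * v * a⁻¹ * v⁻¹ := by
    have e4 : a * (v * c) * a⁻¹ * (v * c)⁻¹ = a * v * (c * a⁻¹ * c⁻¹) * v⁻¹ := by group
    have e5 : c * a⁻¹ * c⁻¹ = a⁻¹ := by
      have h2 := hac' a⁻¹ (inv_mem ha)
      rw [← h2]; group
    rw [e4, e5]
  rw [e3]
  rcases hF (N.e v j 1) with h2 | h2
  · left
    exact one_iff.2 (root_cent h N hk hA ha hac hv h2)
  · right
    -- `w0⁻¹ v` is centralised
    have h3 : N.e (w0⁻¹ * v) j 1 = 0 := by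
      have h4 : N.e (w0⁻¹ * v) = N.e w0⁻¹ + N.e v := M.nat.mul _ (inv_mem hw0.1) _ hv
      have h5 : N.e w0⁻¹ = - N.e w0 := M.map_inv hw0.1
      rw [h4, h5, Pi.add_apply, Pi.add_apply, Pi.neg_apply, Pi.neg_apply, e0', h2, neg_add_cancel]
    have h6 := root_cent h N hk hA ha hac (mul_mem (inv_mem hw0.1) hv) h3
    have e6 : a * v * a⁻¹ * v⁻¹ = a * w0 * (a⁻¹ * (a * (w0⁻¹ * v))) * a⁻¹ * v⁻¹ := by group
    rw [e6, h6]
    group

/-- **`YB` on `C_X(⟨AA⟩)`, natural type over `F₂`.** -/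
theorem nat_two (h : GE T H X AA) (N : NatKM F T H (zl T H) (cv T H) k) (hk : 0 < k) (hF : ∀ x : F, x = 0 ∨ x = 1)
    (hex : ∃ A ∈ AA, ¬ A ≤ o2 H) (hZ : ¬ H ≤ centralizer (zc T : Set G)) :
    ∃ (Ni c : Fin k → Subgroup G) (e : Fin k → G), Conc2 T H X AA Ni c e := by
  classical
  set M := natC_of h.hm hk N.toNatK with hM
  obtain ⟨A, hA, hAQ⟩ := hex
  obtain ⟨j, hroot⟩ := exists_root h N hk hA hAQ
  obtain ⟨L, hL, hsup, hgen⟩ := Nat.ld_of_root h N hk hA hroot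
  have hc := hL.co_two hF
  have yb := hL.yb_aux hc fun i s hs t ht hsm htm => cyc_line h.hm N hk hs hsm ht htm
  -- the elements `e i`
  have hex : ∀ i, ∃ e, e ∈ closure {x | ∃ b ∈ sSup AA, ∃ w ∈ Wn M i, x = b * w * b⁻¹ * w⁻¹} ∧
      ∀ x ∈ closure {x | ∃ b ∈ sSup AA, ∃ w ∈ Wn M i, x = b * w * b⁻¹ * w⁻¹}, x = 1 ∨ x = e := by
    intro i
    obtain ⟨e, he, he1⟩ : ∃ e ∈ closure {x | ∃ b ∈ sSup AA, ∃ w ∈ Wn M i, x = b * w * b⁻¹ * w⁻¹}, e ≠ 1 := by
      by_contra hcon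
      push Not at hcon
      apply yb.ne i
      rw [eq_bot_iff]
      intro x hx
      exact mem_bot.2 (hcon x hx)
    have hcoo : ∀ x ∈ closure {x | ∃ b ∈ sSup AA, ∃ w ∈ Wn M i, x = b * w * b⁻¹ * w⁻¹}, x ≠ 1 → M.nat.e x i 0 = 1 := by
      intro x hx hx1
      rcases hF (M.nat.e x i 0) with h1 | h1
      · exact absurd (hc.dis i x hx (Li_D (hc.le i hx) h1)) hx1
      · exact h1
    refine ⟨e, he, fun x hx => ?_⟩
    by_cases hx1 : x = 1
    · exact Or.inl hx1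
    · right
      have h1 : x⁻¹ * e ∈ closure {x | ∃ b ∈ sSup AA, ∃ w ∈ Wn M i, x = b * w * b⁻¹ * w⁻¹} := mul_mem (inv_mem hx) he
      have h2 : x⁻¹ * e = 1 := by
        by_contra h3
        have h4 := hcoo _ h1 h3
        rw [M.nat.mul _ (inv_mem (hc.le i hx).1) _ (hc.le i he).1, M.map_inv (hc.le i hx).1, Pi.add_apply, Pi.add_apply,
          Pi.neg_apply, Pi.neg_apply, hcoo x hx hx1, hcoo e he he1, neg_add_cancel] at h4
        exact zero_ne_one h4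
      exact (inv_mul_eq_one.1 h2)
  choose e he hall using hex
  have h2 : ∃ i, ¬ zc T ≤ Ni M (Xc X AA) L j i := by
    refine ⟨j, fun hcon => hZ (hsup.trans (sup_le ?_ ?_))⟩
    · exact NO3S.Level.le_centralizer_zc T
    · intro l hl
      rw [mem_centralizer_iff]
      intro z hz
      have h1 := (mem_Ni.1 (hcon hz)).2 1 (one_mem _) (MvI.one j) l hl
      simp only [inv_one, one_mul, mul_one] at h1
      exact h1.symm
  have h3 : ∀ x ∈ Xc X AA, (∀ y ∈ H, cj y (sSup AA) ≤ centralizer ({x} : Set G)) → ∀ i, x ∈ Ni M (Xc X AA) L j i := by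
    intro x hx hxc i
    refine mem_Ni.2 ⟨hx, fun t ht _ l hl => ?_⟩
    have h1 := hgen (centralizer ({t⁻¹ * x * t} : Set G)) fun y hy => ?_
    · exact mem_centralizer_singleton_iff.1 (h1 hl)
    · rintro _ ⟨b, hb, rfl⟩
      rw [mem_centralizer_singleton_iff]
      have h2 := mem_centralizer_singleton_iff.1 (hxc (t * y) (mul_mem (h.TH ht) hy) ⟨b, hb, rfl⟩)
      have h2' : t * y * b * (t * y)⁻¹ * x = x * (t * y * b * (t * y)⁻¹) := h2
      have h4 := congrArg (fun z => t⁻¹ * z * t) h2'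
      show y * b * y⁻¹ * (t⁻¹ * x * t) = t⁻¹ * x * t * (y * b * y⁻¹)
      simpa [mul_assoc] using h4
  refine ⟨_, _, e, ⟨yb, h2, fun x hx hxc => h3 x (Xc_of hx hxc) (le_of hxc), fun A hA v hv z _ a haA => ?_⟩, he, hall,
    fun A hA hAQ => ?_⟩
  · have ha : a ∈ sSup AA := (le_sSup hA : A ≤ sSup AA) haA
    have hJV : ∀ a ∈ sSup AA, ∀ v ∈ zl T H, a * v * a⁻¹ ∈ zl T H := fun a ha v hv => M.Vn a (hL.TH (hL.BT ha)) v hv
    have hD : cv T H ≤ Nat.comS (zl T H) (sSup AA) (YB.Cp (fun i => closure {x | ∃ b ∈ sSup AA, ∃ w ∈ Wn M i,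
        x = b * w * b⁻¹ * w⁻¹}) Set.univ) (fun x hx y hy => M.Vcomm hx hy) hJV := fun d hd =>
      ⟨M.DV hd, fun a ha => by rw [Xc_comm (hL.DZ hd) ha, mul_inv_cancel_right, mul_inv_cancel]; exact one_mem _⟩
    exact (Nat.mem_of_comp M hD hv fun i u hu _ => ⟨hu.1, fun a ha =>
      YB.le_Cp (Set.mem_univ i) (subset_closure ⟨a, ha, u, hu, rfl⟩)⟩).2 a ha
  · obtain ⟨i, hroot'⟩ := exists_root h N hk hA hAQ
    obtain ⟨a, ha, hac⟩ := hroot' 1
    have haT := h.fam.le A hA ha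
    obtain ⟨w0, hw0, e0⟩ := exists_vec M i ![0, 1]
    have e0' : N.e w0 i 1 = 1 := by
      have h3 : N.e w0 i = ![0, 1] := e0
      rw [h3]; simp
    have h1 := root_comm h N hk haT hac hw0.1 e0'
    refine ⟨a, ha, w0, hw0.1, i, ?_⟩
    refine (hall i _ (subset_closure ⟨a, (le_sSup hA : A ≤ sSup AA) ha, w0, hw0, rfl⟩)).resolve_left fun h2 => ?_
    rw [h2] at h1
    have h8 : N.e (1 : G) = 0 := M.map_one
    rw [h8] at h1
    simp at h1

end nat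

/-! ### Symmetric type -/

section sym

open Cfsg.Agent.Omega.OM.Lev.SIn
open Cfsg.Agent.Omega.SQ1.BauS (Sim)
open Cfsg.Agent.Omega.OM.Lev.SymIn (SyL)

variable {k m : ℕ}

/-- the module data -/
theorem syl_of (h : GE T H X AA) (N : SymKM T H (zl T H) (cv T H) k m) (hk : 0 < k) (hm : 1 ≤ m)
    (hex : ∃ A ∈ AA, ¬ A ≤ o2 H) :
    SyL T H (o2 H) (zl T H) (sSup AA) (cv T H) AA (0 : Fin (2 ^ m + 1)) N.e :=
  OM.Lev.Sym.syL_gen (Jg := sSup AA) h.hm hk hm N SQ1.FFOf.cv_le SQ1.FFOf.cv_norm h.fam.le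
    (fun A hA hAQ => h.offM hA hAQ) hex (sSup_le h.fam.le) (OM.GSym.T_norm_AA h) (fun A hA => le_sSup hA) le_sup_left

/-- a transposition in a member `A ≰ O₂(H)` -/
theorem exists_swap (h : GE T H X AA) (N : SymKM T H (zl T H) (cv T H) k m) (hk : 0 < k) (hm : 1 ≤ m)
    {A : Subgroup G} (hA : A ∈ AA) (hAQ : ¬ A ≤ o2 H) :
    ∃ (j : Fin k) (x y : Fin (2 ^ m + 1)), x ≠ y ∧ ∃ b ∈ A, Gd H (zl T H) (cv T H) N.e (Pi.mulSingle j (Equiv.swap x y)) b ∧
      ∃ v ∈ zl T H, b * v * b⁻¹ * v⁻¹ = u H (zl T H) (cv T H) N.e j x y := by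
  classical
  have hs := syl_of h N hk hm ⟨A, hA, hAQ⟩
  obtain ⟨j, x, y, hxy, b, hb, hbg⟩ : ∃ (j : Fin k) (x y : Fin (2 ^ m + 1)), x ≠ y ∧ ∃ b ∈ A,
      Gd H (zl T H) (cv T H) N.e (Pi.mulSingle j (Equiv.swap x y)) b := by
    by_contra hcon
    push Not at hcon
    apply hAQ
    intro a ha
    obtain ⟨τ, hτ, hτ'⟩ := hs.offD A hA a ha
    have h1 : τ = 1 := by
      funext i
      ext x
      by_contra hx
      have hx' : τ i x ≠ x := fun e => hx (by rw [e]; rfl)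
      obtain ⟨-, b, hb, hb'⟩ := hτ' i x hx'
      exact hcon i x (τ i x) hx'.symm b hb hb'
    subst h1
    refine hs.cT a (h.fam.le A hA ha) fun v hv => ?_
    have h2 := hs.gd_sim hτ hs.gd_one v hv
    calc a * v = (a * v * a⁻¹) * a := by group
      _ = v * a := by rw [h2]; group
  refine ⟨j, x, y, hxy, b, hb, hbg, ?_⟩
  have hx0 : x ≠ 0 := by
    rintro rfl
    have h4 := N.fix0 b (h.fam.le A hA hb) _ _ hbg.act j
    rw [Pi.mulSingle_eq_same, Equiv.swap_apply_left] at h4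
    exact hxy h4.symm
  have hy0 : y ≠ 0 := by
    rintro rfl
    have h4 := N.fix0 b (h.fam.le A hA hb) _ _ hbg.act j
    rw [Pi.mulSingle_eq_same, Equiv.swap_apply_right] at h4
    exact hxy h4
  obtain ⟨v, hv, hev⟩ := hs.exists_pair j x 0
  refine ⟨v, hv, ?_⟩
  rcases hs.swap_comm hbg v hv with h2 | h2
  · exfalso
    have h1 := hbg.act v hv j y
    rw [h2, Pi.mulSingle_eq_same, Equiv.swap_apply_right, Equiv.Perm.one_apply, hev] at h1
    simp only [Pi.add_apply] at h1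
    rw [SQ1.FFSym.E_self,
      SQ1.FFSym.E_ne (fun h5 => hx0 h5.2), SQ1.FFSym.E_ne (fun h5 => hxy h5.2.symm),
      SQ1.FFSym.E_ne (fun h5 => hy0 h5.2)] at h1
    simp at h1
  · rw [h2, mul_inv_cancel_right]

theorem sym_tv (h : GE T H X AA) (N : SymKM T H (zl T H) (cv T H) k m) (hk : 0 < k) (hm : 1 ≤ m)
    {A : Subgroup G} (hA : A ∈ AA) (hAQ : ¬ A ≤ o2 H)
    (hs : ∀ u ∈ X, ∃ v ∈ zl T H, ∃ c ∈ X, (∀ a ∈ A, a * c = c * a) ∧ u = v * c) : ∃ t ∈ A, ∃ d, Tv X t d := by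
  classical
  have hS := syl_of h N hk hm ⟨A, hA, hAQ⟩
  obtain ⟨j, x, y, hxy, b, hb, hbg, v0, hv0, hbv⟩ := exists_swap h N hk hm hA hAQ
  have hbT := h.fam.le A hA hb
  refine ⟨b, hb, u H (zl T H) (cv T H) N.e j x y, h.norm (h.TH hbT), h.VX (hS.u_mem j x y), fun w hw => ?_, fun hc => ?_⟩
  · obtain ⟨v, hv, c, hc, hac', rfl⟩ := hs w hw
    have e3 : b * (v * c) * b⁻¹ * (v * c)⁻¹ = b * v * b⁻¹ * v⁻¹ := by
      have e4 : b * (v * c) * b⁻¹ * (v * c)⁻¹ = b * v * (c * b⁻¹ * c⁻¹) * v⁻¹ := by group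
      have e5 : c * b⁻¹ * c⁻¹ = b⁻¹ := by
        have h2 := hac' b⁻¹ (inv_mem hb)
        rw [← h2]; group
      rw [e4, e5]
    rw [e3]
    rcases hS.swap_comm hbg v hv with h2 | h2
    · left; rw [h2, mul_inv_cancel]
    · right; rw [h2, mul_inv_cancel_right]
  · apply hS.u_ne (j := j) hxy
    rw [← hbv]
    exact one_iff.2 (mem_centralizer_iff.1 hc v0 (h.VX hv0)).symm

/-- **`YB` on `C_X(⟨AA⟩)`, symmetric type.** -/
theorem sym_two (h : GE T H X AA) (hXT : X ≤ T) (N : SymKM T H (zl T H) (cv T H) k m) (hk : 0 < k) (hm : 1 ≤ m)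
    (hex : ∃ A ∈ AA, ¬ A ≤ o2 H) (hZ : ¬ H ≤ centralizer (zc T : Set G)) :
    ∃ (ι : Type) (_ : Finite ι) (Ni c : ι → Subgroup G) (e : ι → G), Conc2 T H X AA Ni c e := by
  have h0 := syl_of h N hk hm hex
  obtain ⟨ι, J, Ux, Y, t, r, c⟩ := h0.exists_ch
  obtain ⟨j, x, y, hTr⟩ := h0.exists_tr
  obtain ⟨i, -⟩ := c.ex j x y hTr
  have hin := Sym.in_of h hXT i (c.main h0 Cfsg.Agent.Omega.SQ1.SymCyc.exists_pow)
  have hp := c.permR h0
  obtain ⟨K, hK, hKc⟩ := hin.exists_blks hp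
  refine ⟨ι, hin.finite_index, _, _, fun i => u H (zl T H) (cv T H) N.e (J i) (Ux i) (Y i),
    ⟨YSym.yb hin hK hKc, ⟨i, fun hle => hZ ?_⟩, fun x hx hxc l => ?_,
    fun A hA v hv z _ a ha => Sym.comm_J hin ((le_sSup hA : A ≤ sSup AA) ha) hv⟩, fun i => mem_zpowers _,
    fun i x hx => OM.Lev.SIn.Blk.mem_zp hin hx, fun A hA hAQ => ?_⟩
  · exact ((hK i).sup_T hin le_sup_left le_sup_right : H ≤ T ⊔ K i).trans
      (sup_le (NO3S.Level.le_centralizer_zc T) (le_centralizer_iff.1 hle))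
  · have hxX := Xc_of hx hxc
    have hxj := le_of hxc
    obtain ⟨y, hy, hym⟩ := (hK l).mv
    have h1 : K l ≤ centralizer ({x} : Set G) := by
      refine (hK l).gen_left hin hy hym (hin.t_bau l) (hin.t_not_QQ l) (fun b hb => ?_) ?_
      · exact mem_centralizer_singleton_iff.2 ((mem_BB.1 hb).2 x hxX).symm
      · exact hxj y ((hK l).LH hin hy) ⟨_, hin.tJ l, rfl⟩
    exact mem_centralizer_iff.2 fun z hz => mem_centralizer_singleton_iff.1 (h1 hz)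
  · obtain ⟨j, x, y, hxy, b, hb, hbg, v0, hv0, hbv⟩ := exists_swap h N hk hm hA hAQ
    obtain ⟨l, hl⟩ := c.ex j x y ⟨hxy, b, (le_sSup hA : A ≤ sSup AA) hb, hbg⟩
    exact ⟨b, hb, v0, hv0, l, hbv.trans hl.symm⟩

end sym

end Cfsg.Agent.Omega.CaseLQ.TvTwo
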