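import Cfsg.Agent.Omega.CaseLQ.KSh
import Cfsg.Agent.Omega.NO3S.WY.Tor.Lit

/-!
# The passive family (#25080 (c))

* `not_act` : all best offenders `A ≤ T` on `U` centralise `V_j`: no `W_F ≤ S` (`F` for `V = ⟨Z^GX⟩`) is outside `O₂(P)`;
* `exists_famT` : `FamT S P Y V 𝓕`;
* `exists_fam` : `KSh` and `FamT`.
-/

set_option autoImplicit false
set_option linter.unusedSectionVars false

namespace Cfsg.Agent.Omega.CaseLQ

open Subgroup Cfsg Cfsg.Agent.ZN Cfsg.Agent.ZN.ChoiceBase Cfsg.Agent.Omega.MinPar Cfsg.Agent.Omega.Frame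
open Cfsg.Agent.Omega.NO3S.Level
open Cfsg.Agent.Omega.NO3S.RedC
open Cfsg.Agent.Omega.NO3S.WY
open Cfsg.Agent.Omega.NO1.BestOff (Best)
open Cfsg.Agent.Omega.FFThm (OffM ElemM)
open scoped Pointwise

universe u

variable {G : Type u} [Group G] [Finite G] {S : Sylow 2 G} {P T Y R H U Vj : Subgroup G}

/-- all `W_F ≤ S` lie in `O₂(P)` -/
theorem W_le_of_hloc (m : LMd S P T Y R H U)
    (hloc : ∀ A : Subgroup G, A ≤ T → Best U A → A ≤ centralizer (Vj : Set G))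
    (hN : ∀ A : Subgroup G, A ≤ (S : Subgroup G) → ¬ A ≤ o2 P →
      ∃ s ∈ (S : Subgroup G), ¬ cj s A ≤ centralizer (Vj : Set G)) {F : Subgroup G}
    (hF : NOne.Flat.Hyp (ZN.zl (S : Subgroup G) (GX (S : Subgroup G) P Y)) F)
    (hWS : NOne.Flat.WW (ZN.zl (S : Subgroup G) (GX (S : Subgroup G) P Y)) F ≤ (S : Subgroup G)) :
    NOne.Flat.WW (ZN.zl (S : Subgroup G) (GX (S : Subgroup G) P Y)) F ≤ o2 P := by
  have h := m.wq
  have hV : Md S P Y (ZN.zl (S : Subgroup G) (GX (S : Subgroup G) P Y)) := h.md_zl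
  by_contra hP
  obtain ⟨s, hs, hne⟩ := hN _ hWS hP
  have hsV : s ∈ normalizer (ZN.zl (S : Subgroup G) (GX (S : Subgroup G) P Y) : Set G) := hV.norm (h.S_le hs)
  have hWs : NOne.Flat.WW (ZN.zl (S : Subgroup G) (GX (S : Subgroup G) P Y)) (MulAut.conj s • F) ≤
      (S : Subgroup G) := by
    rw [WW_cj hsV]
    have := cj_mono s hWS
    rwa [cj_eq_of_mem_normalizer (le_normalizer hs : s ∈ normalizer ((S : Subgroup G) : Set G))] at this
  have hFs := hyp_cj hF hsV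
  rw [← WW_cj hsV] at hne
  exact hne (hloc _ ((h.W_B hV hFs hWs).trans m.BT) (bestW hFs (m.U_E' hV hFs hWs)))

/-- **the passive family** -/
theorem exists_famT (m : LMd S P T Y R H U)
    (hloc : ∀ A : Subgroup G, A ≤ T → Best U A → A ≤ centralizer (Vj : Set G))
    (hN : ∀ A : Subgroup G, A ≤ (S : Subgroup G) → ¬ A ≤ o2 P →
      ∃ s ∈ (S : Subgroup G), ¬ cj s A ≤ centralizer (Vj : Set G)) :
    ∃ (V : Subgroup G) (𝓕 : Set (Subgroup G)), FamT S P Y V 𝓕 := by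
  have h := m.wq
  rcases h.cut with hp | ⟨hn, ⟨F, hw⟩ | ⟨F, hw⟩⟩
  · exact ⟨_, _, famT_of_pasM h h.md_zl hp⟩
  · exact absurd (W_le_of_hloc m hloc hN hw.hyp hw.WS) hw.mv
  · exact ⟨_, _, famT_of_pasW h h.md_zl hw⟩

/-- **`K♯ ≤ O₂(P)` and the passive family** -/
theorem exists_fam (m : LMd S P T Y R H U)
    (hloc : ∀ A : Subgroup G, A ≤ T → Best U A → A ≤ centralizer (Vj : Set G))
    (hN : ∀ A : Subgroup G, A ≤ (S : Subgroup G) → ¬ A ≤ o2 P →
      ∃ s ∈ (S : Subgroup G), ¬ cj s A ≤ centralizer (Vj : Set G)) :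
    (∃ (K : Subgroup G) (𝒜 : Set (Subgroup G)), KSh S P Y U K 𝒜) ∧
      ∃ (V : Subgroup G) (𝓕 : Set (Subgroup G)), FamT S P Y V 𝓕 :=
  ⟨exists_KSh m hloc hN, exists_famT m hloc hN⟩

end Cfsg.Agent.Omega.CaseLQ
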