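import Cfsg.Agent.Omega.CaseLQ.PsiT

/-!
# NoW, `q = 2`, part (ii), version 2 (helper602 #25080), over subgroups of a group

`FrG U B Q V z Lam N c`: `B` acts by conjugation on the abelian group `U`; `c i` = root lines, `N i = C_U(K i)` for the
blocks `K i` of `Y` (as in `OM/Lev/Low/Data.lean`, `YB`); `V = V_j`, `z = z_j`, `Lam = ⟨z_l : l ≠ j⟩`.

* `FrG.z_mem : z ∈ ⨆ i, c i`;
* `FrG.fix` : `b ∈ B` centralising all `c i` centralises `V`;
* `FrG.inf_N : (⨆ i, c i) ⊓ ⨅ i, N i = ⊥`, `FrG.inf_Lam : (⨆ i, c i) ⊓ Lam = ⊥`,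
  `FrG.inf_Q : (⨆ i, c i) ⊓ centralizer Q ≤ V ⊔ Lam`;
* `FrG.two_false` : the lines `c i` do not all have order `2`.
-/

set_option autoImplicit false
set_option linter.unusedSectionVars false
set_option linter.style.haveILetI false

namespace Cfsg.Agent.Omega.CaseLQ.PsiT

open Subgroup

/-- `cj g H` of `ZN.ChoiceBase`, literally. -/
local notation "cj" g:max H:max => Subgroup.map (MulEquiv.toMonoidHom (MulAut.conj g)) H

universe u w

variable {G : Type u} [Group G] {ι : Type w}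

/-! ### transfer to additive groups -/

/-- an abelian subgroup as an abelian group -/
@[reducible] def instU {U : Subgroup G} (hU : ∀ x ∈ U, ∀ y ∈ U, x * y = y * x) : CommGroup ↥U :=
  { (inferInstance : Group ↥U) with mul_comm := fun x y => Subtype.ext (hU _ x.2 _ y.2) }

/-- the conjugation action on an abelian subgroup, additively -/
@[reducible] def actU {U T : Subgroup G} (hU : ∀ x ∈ U, ∀ y ∈ U, x * y = y * x) (hT : T ≤ normalizer (U : Set G)) :
    letI := instU hU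
    DistribMulAction ↥T (Additive ↥U) :=
  letI := instU hU
  { smul := fun t u => Additive.ofMul (⟨(t : G) * (Additive.toMul u : ↥U) * (t : G)⁻¹,
      (mem_normalizer_iff.1 (hT t.2) _).1 (Additive.toMul u : ↥U).2⟩ : ↥U)
    one_smul := fun u => by
      apply Additive.toMul.injective
      apply Subtype.ext
      change ((1 : ↥T) : G) * (Additive.toMul u : ↥U) * ((1 : ↥T) : G)⁻¹ = (Additive.toMul u : ↥U)
      simp
    mul_smul := fun s t u => by
      apply Additive.toMul.injective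
      apply Subtype.ext
      change ((s * t : ↥T) : G) * (Additive.toMul u : ↥U) * ((s * t : ↥T) : G)⁻¹ =
        (s : G) * ((t : G) * (Additive.toMul u : ↥U) * (t : G)⁻¹) * (s : G)⁻¹
      rw [Subgroup.coe_mul]
      group
    smul_zero := fun t => by
      apply Additive.toMul.injective
      apply Subtype.ext
      change (t : G) * ((1 : ↥U) : G) * (t : G)⁻¹ = ((1 : ↥U) : G)
      simp
    smul_add := fun t u v => by
      apply Additive.toMul.injective
      apply Subtype.ext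
      change (t : G) * ((Additive.toMul u * Additive.toMul v : ↥U) : G) * (t : G)⁻¹ =
        ((t : G) * (Additive.toMul u : ↥U) * (t : G)⁻¹) * ((t : G) * (Additive.toMul v : ↥U) * (t : G)⁻¹)
      rw [Subgroup.coe_mul]
      group }

/-- the image of a subgroup in `Additive U` -/
def AA (U X : Subgroup G) : AddSubgroup (Additive ↥U) := (X.subgroupOf U).toAddSubgroup

theorem mem_AA {U X : Subgroup G} {u : Additive ↥U} : u ∈ AA U X ↔ ((Additive.toMul u : ↥U) : G) ∈ X := Iff.rfl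

theorem cj_one' (H : Subgroup G) : cj (1 : G) H = H := by
  ext x
  simp

theorem cj_cj' (g h : G) (H : Subgroup G) : cj g (cj h H) = cj (g * h) H := by
  rw [Subgroup.map_map]
  congr 1
  ext x
  simp [mul_assoc]

theorem mem_sup_of_comm {U X Y : Subgroup G} (hU : ∀ x ∈ U, ∀ y ∈ U, x * y = y * x) (hX : X ≤ U) (hY : Y ≤ U) :
    ∀ u ∈ X ⊔ Y, ∃ x ∈ X, ∃ y ∈ Y, x * y = u := by
  let P : Subgroup G :=
    { carrier := {u | ∃ x ∈ X, ∃ y ∈ Y, x * y = u}
      one_mem' := ⟨1, one_mem _, 1, one_mem _, mul_one 1⟩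
      mul_mem' := by
        rintro _ _ ⟨x, hx, y, hy, rfl⟩ ⟨x', hx', y', hy', rfl⟩
        refine ⟨x * x', mul_mem hx hx', y * y', mul_mem hy hy', ?_⟩
        have h1 := hU y (hY hy) x' (hX hx')
        calc x * x' * (y * y') = x * (x' * y) * y' := by group
          _ = x * (y * x') * y' := by rw [h1]
          _ = _ := by group
      inv_mem' := by
        rintro _ ⟨x, hx, y, hy, rfl⟩
        refine ⟨x⁻¹, inv_mem hx, y⁻¹, inv_mem hy, ?_⟩
        rw [mul_inv_rev]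
        exact hU _ (inv_mem (hX hx)) _ (inv_mem (hY hy)) }
  have h1 : X ⊔ Y ≤ P := sup_le (fun x hx => ⟨x, hx, 1, one_mem _, mul_one x⟩)
    (fun y hy => ⟨1, one_mem _, y, hy, one_mul y⟩)
  intro u hu
  exact h1 hu

/-- **The frame of (ii), version 2**, `q = 2`. -/
structure FrG (U B Q V : Subgroup G) (z : G) (Lam : Subgroup G) (N c : ι → Subgroup G) : Prop where
  comm : ∀ x ∈ U, ∀ y ∈ U, x * y = y * x
  BU : B ≤ normalizer (U : Set G)
  QB : Q ≤ B
  perm : ∀ t ∈ B, ∀ i, ∃ m, cj t (N i) = N m ∧ cj t (c i) = c m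
  cU : ∀ i, c i ≤ U
  ne : ∀ i, c i ≠ ⊥
  inf : ∀ i, c i ⊓ N i = ⊥
  cm : ∀ i m, m ≠ i → c m ≤ N i
  VU : V ≤ U
  BV : B ≤ normalizer (V : Set G)
  VQ : V ≤ centralizer (Q : Set G)
  cov : ∀ i, ∀ v ∈ V, ∃ a ∈ c i, a * v ∈ N i
  zV : z ∈ V
  mv : ∀ v ∈ V, v ≠ 1 → v = z ∨ ∃ b ∈ B, b * v * b⁻¹ * v⁻¹ = z
  tr : ∃ v ∈ V, ∃ b ∈ B, b * v * b⁻¹ * v⁻¹ = z ∧
    ∀ u ∈ U, u ∈ centralizer (Q : Set G) → b * u * b⁻¹ * u⁻¹ = 1 ∨ b * u * b⁻¹ * u⁻¹ = z
  nz : ∃ i, z ∉ N i
  LamN : ∀ i, ∀ x ∈ Lam, x ∈ U → x ∈ N i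

namespace FrG

variable {U B Q V : Subgroup G} {z : G} {Lam : Subgroup G} {N c : ι → Subgroup G} (h : FrG U B Q V z Lam N c)
include h

theorem inj {i m : ι} (he : c i = c m) : i = m := by
  by_contra hne
  apply h.ne i
  rw [eq_bot_iff, ← h.inf m, he]
  refine le_inf le_rfl ?_
  rw [← he]
  exact h.cm m i hne

theorem exists_perm : ∃ σ : G → ι → ι, ∀ t ∈ B, ∀ i, cj t (N i) = N (σ t i) ∧ cj t (c i) = c (σ t i) := by
  classical
  have h1 : ∀ (t : G) (i : ι), ∃ m, t ∈ B → cj t (N i) = N m ∧ cj t (c i) = c m := by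
    intro t i
    by_cases ht : t ∈ B
    · obtain ⟨m, hm⟩ := h.perm t ht i
      exact ⟨m, fun _ => hm⟩
    · exact ⟨i, fun h => absurd h ht⟩
  choose σ hσ using h1
  exact ⟨σ, fun t ht i => hσ t i ht⟩

theorem exists_act : ∃ act : MulAction ↥B ι, ∀ (t : ↥B) (i : ι), N (act.smul t i) = cj (t : G) (N i) ∧
    c (act.smul t i) = cj (t : G) (c i) := by
  obtain ⟨σ, hσ⟩ := h.exists_perm
  let act : MulAction ↥B ι :=
    { smul := fun t i => σ t i
      one_smul := fun i => by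
        refine h.inj ?_
        change c (σ ((1 : ↥B) : G) i) = _
        rw [← (hσ _ (1 : ↥B).2 i).2]
        rw [Subgroup.coe_one, cj_one']
      mul_smul := fun s t i => by
        refine h.inj ?_
        change c (σ ((s * t : ↥B) : G) i) = c (σ s (σ t i))
        rw [← (hσ _ (s * t).2 i).2, ← (hσ _ s.2 _).2, ← (hσ _ t.2 _).2, cj_cj']
        rfl }
  exact ⟨act, fun t i => ⟨((hσ _ t.2 i).1).symm, ((hσ _ t.2 i).2).symm⟩⟩

/-- the additive frame -/
theorem toFr (act : MulAction ↥B ι) (hact : ∀ (t : ↥B) (i : ι), N (act.smul t i) = cj (t : G) (N i) ∧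
    c (act.smul t i) = cj (t : G) (c i)) :
    letI := instU h.comm
    letI := actU h.comm h.BU
    Fr (T := ↥B) (fun i => AA U (c i)) (fun i => AA U (N i)) (Q.subgroupOf B) (AA U V)
      (Additive.ofMul (⟨z, h.VU h.zV⟩ : ↥U)) := by
  letI := instU h.comm
  letI := actU h.comm h.BU
  have smul_coe : ∀ (t : ↥B) (u : Additive ↥U),
      ((Additive.toMul (t • u) : ↥U) : G) = (t : G) * (Additive.toMul u : ↥U) * (t : G)⁻¹ := fun _ _ => rfl
  have sub_coe : ∀ u v : Additive ↥U, ((Additive.toMul (u - v) : ↥U) : G) =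
      (Additive.toMul u : ↥U) * ((Additive.toMul v : ↥U) : G)⁻¹ := by
    intro u v
    rw [toMul_sub, div_eq_mul_inv]
    rfl
  have ext' : ∀ {u v : Additive ↥U}, ((Additive.toMul u : ↥U) : G) = (Additive.toMul v : ↥U) → u = v := by
    intro u v huv
    exact Additive.toMul.injective (Subtype.ext huv)
  have σe : ∀ (t : ↥B) (i : ι), N (t • i) = cj (t : G) (N i) ∧ c (t • i) = cj (t : G) (c i) := hact
  refine
    { ct := fun t i x hx => ?_
      Ct := fun t i x hx => ?_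
      ne := fun i => ?_
      inf := fun i x hx hx' => ?_
      cm := fun i m hm x hx => h.cm i m hm hx
      NT := fun t n hn => ?_
      NQ := fun g hg n hn => ?_
      cov := fun n hn i => ?_
      zN := h.zV
      mv := fun n hn hn0 => ?_
      tr := ?_
      nz := h.nz }
  · rw [mem_AA, smul_coe, (σe t i).2]
    exact ⟨_, hx, rfl⟩
  · rw [mem_AA, smul_coe, (σe t i).1]
    exact ⟨_, hx, rfl⟩
  · have h1 : ∃ x ∈ c i, x ≠ 1 := by
      by_contra hcon
      push Not at hcon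
      exact h.ne i (by rw [eq_bot_iff]; intro x hx; exact mem_bot.2 (hcon x hx))
    obtain ⟨x, hx, hx1⟩ := h1
    refine ⟨Additive.ofMul (⟨x, h.cU i hx⟩ : ↥U), hx, fun h0 => hx1 ?_⟩
    exact congrArg (fun u : Additive ↥U => ((Additive.toMul u : ↥U) : G)) h0
  · apply ext'
    have h1 : ((Additive.toMul x : ↥U) : G) ∈ c i ⊓ N i := ⟨hx, hx'⟩
    rw [h.inf i] at h1
    exact mem_bot.1 h1
  · rw [mem_AA, smul_coe]
    exact (mem_normalizer_iff.1 (h.BV t.2) _).1 hn
  · apply ext'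
    rw [smul_coe]
    have h1 : (g : G) * (Additive.toMul n : ↥U) = (Additive.toMul n : ↥U) * g := h.VQ hn g hg
    rw [h1]; group
  · obtain ⟨a, ha, haN⟩ := h.cov i _ hn
    refine ⟨Additive.ofMul (⟨a⁻¹, inv_mem (h.cU i ha)⟩ : ↥U), inv_mem ha, ?_⟩
    rw [mem_AA, sub_coe]
    change ((Additive.toMul n : ↥U) : G) * a⁻¹⁻¹ ∈ _
    rw [inv_inv, h.comm _ (Additive.toMul n : ↥U).2 a (h.cU i ha)]
    exact haN
  · rcases h.mv _ hn fun h1 => hn0 (ext' h1) with h1 | ⟨b, hb, h1⟩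
    · exact Or.inl (ext' h1)
    · refine Or.inr ⟨⟨b, hb⟩, ext' ?_⟩
      rw [sub_coe, smul_coe]
      exact h1
  · obtain ⟨v, hv, b, hb, h1, h2⟩ := h.tr
    refine ⟨Additive.ofMul (⟨v, h.VU hv⟩ : ↥U), hv, ⟨b, hb⟩, ext' ?_, fun u hu => ?_⟩
    · rw [sub_coe, smul_coe]
      exact h1
    · have h3 : ((Additive.toMul u : ↥U) : G) ∈ centralizer (Q : Set G) := by
        intro g hg
        have h2 := congrArg (fun u : Additive ↥U => ((Additive.toMul u : ↥U) : G)) (hu ⟨g, h.QB hg⟩ hg)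
        simp only [smul_coe] at h2
        change g * (Additive.toMul u : ↥U) = (Additive.toMul u : ↥U) * g
        change g * (Additive.toMul u : ↥U) * g⁻¹ = (Additive.toMul u : ↥U) at h2
        exact mul_inv_eq_iff_eq_mul.1 h2
      rcases h2 _ (Additive.toMul u : ↥U).2 h3 with h4 | h4
      · left; apply ext'; rw [sub_coe, smul_coe]; exact h4
      · right; apply ext'; rw [sub_coe, smul_coe]; exact h4

theorem coe_sum_mem {S : Finset ι} (f : ι → Additive ↥U) (hf : ∀ i, f i ∈ AA U (c i)) :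
    letI := instU h.comm
    ((Additive.toMul (∑ i ∈ S, f i) : ↥U) : G) ∈ ⨆ i, c i := by
  letI := instU h.comm
  have h1 : (∑ i ∈ S, f i) ∈ AA U (⨆ i, c i) := (AA U (⨆ i, c i)).sum_mem fun i _ =>
    mem_AA.2 ((le_iSup c i) (mem_AA.1 (hf i)))
  exact mem_AA.1 h1

/-- **(A1)** -/
theorem z_mem [Finite ι] : z ∈ ⨆ i, c i := by
  classical
  have := Fintype.ofFinite ι
  obtain ⟨act, hact⟩ := h.exists_act
  letI := instU h.comm
  letI := actU h.comm h.BU
  obtain ⟨f, hf, hz⟩ := (h.toFr act hact).z_mem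
  have h1 := h.coe_sum_mem (S := Finset.univ) f hf
  rw [← hz] at h1
  exact h1

/-- **(A2)** -/
theorem fix {b : G} (hb : b ∈ B) (hc : ∀ i, ∀ x ∈ c i, b * x = x * b) : ∀ v ∈ V, b * v = v * b := by
  obtain ⟨act, hact⟩ := h.exists_act
  letI := instU h.comm
  letI := actU h.comm h.BU
  have h1 := (h.toFr act hact).fix (t := (⟨b, hb⟩ : ↥B)) (fun i x hx => by
    apply Additive.toMul.injective
    apply Subtype.ext
    have h1 : b * ((Additive.toMul x : ↥U) : G) = ((Additive.toMul x : ↥U) : G) * b := hc i _ hx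
    change b * ((Additive.toMul x : ↥U) : G) * b⁻¹ = ((Additive.toMul x : ↥U) : G)
    rw [h1]; group)
  intro n hn
  have h2 := h1 (Additive.ofMul (⟨n, h.VU hn⟩ : ↥U)) hn
  have h3 := congrArg (fun u : Additive ↥U => ((Additive.toMul u : ↥U) : G)) h2
  change b * n * b⁻¹ = n at h3
  exact mul_inv_eq_iff_eq_mul.1 h3

theorem iSup_le_U : (⨆ i, c i) ≤ U := iSup_le h.cU

/-- the elements of `⨆ c_i` -/
theorem exists_sum [Fintype ι] {x : G} (hx : x ∈ ⨆ i, c i) :
    letI := instU h.comm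
    ∃ f : ι → Additive ↥U, (∀ i, f i ∈ AA U (c i)) ∧ x = ((Additive.toMul (∑ i, f i) : ↥U) : G) := by
  classical
  letI := instU h.comm
  let P : Subgroup G :=
    { carrier := {x | ∃ f : ι → Additive ↥U, (∀ i, f i ∈ AA U (c i)) ∧ x = ((Additive.toMul (∑ i, f i) : ↥U) : G)}
      one_mem' := ⟨0, fun i => (AA U (c i)).zero_mem, by simp⟩
      mul_mem' := by
        rintro _ _ ⟨f, hf, rfl⟩ ⟨f', hf', rfl⟩
        refine ⟨f + f', fun i => (AA U (c i)).add_mem (hf i) (hf' i), ?_⟩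
        simp only [Pi.add_apply, Finset.sum_add_distrib]
        rfl
      inv_mem' := by
        rintro _ ⟨f, hf, rfl⟩
        refine ⟨-f, fun i => (AA U (c i)).neg_mem (hf i), ?_⟩
        simp only [Pi.neg_apply, Finset.sum_neg_distrib]
        rfl }
  have h1 : (⨆ i, c i) ≤ P := by
    refine iSup_le fun i x hx => ?_
    refine ⟨fun m => if m = i then Additive.ofMul (⟨x, h.cU i hx⟩ : ↥U) else 0, fun m => ?_, ?_⟩
    · by_cases hm : m = i
      · subst hm; simp only [if_true]; exact hx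
      · simp only [if_neg hm]; exact (AA U (c m)).zero_mem
    · simp
  exact h1 hx

/-- **(A3)** -/
theorem inf_N [Finite ι] : (⨆ i, c i) ⊓ ⨅ i, N i = ⊥ := by
  classical
  have := Fintype.ofFinite ι
  obtain ⟨act, hact⟩ := h.exists_act
  letI := instU h.comm
  letI := actU h.comm h.BU
  rw [eq_bot_iff]
  rintro x ⟨hx, hxK⟩
  obtain ⟨f, hf, rfl⟩ := h.exists_sum hx
  have h1 := (h.toFr act hact).sum_zero hf fun i => mem_AA.2 ((mem_iInf.1 hxK) i)
  rw [mem_bot]
  have h2 : (∑ i, f i) = 0 := Finset.sum_eq_zero fun i _ => h1 i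
  rw [h2]
  rfl

/-- **(A3)** -/
theorem inf_Lam [Finite ι] : (⨆ i, c i) ⊓ Lam = ⊥ := by
  rw [eq_bot_iff, ← h.inf_N]
  rintro x ⟨hx, hxL⟩
  exact ⟨hx, mem_iInf.2 fun i => h.LamN i x hxL (h.iSup_le_U hx)⟩

theorem cj_iSup {b : G} (hb : b ∈ B) : cj b (⨆ i, c i) ≤ ⨆ i, c i := by
  rw [Subgroup.map_iSup]
  refine iSup_le fun i => ?_
  obtain ⟨m, -, hm⟩ := h.perm b hb i
  rw [hm]
  exact le_iSup c m

theorem inf_Q [Finite ι]
    (hL1 : ∀ u ∈ U, u ∈ centralizer (Q : Set G) → ∀ b ∈ B, b ∈ centralizer (V : Set G) → b * u * b⁻¹ * u⁻¹ ∈ Lam)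
    (hL2 : ∀ u ∈ U, u ∈ centralizer (Q : Set G) → (∀ b ∈ B, b ∈ centralizer (V : Set G) → b * u = u * b) → u ∈ V ⊔ Lam) :
    (⨆ i, c i) ⊓ centralizer (Q : Set G) ≤ V ⊔ Lam := by
  rintro u ⟨hu, huQ⟩
  refine hL2 u (h.iSup_le_U hu) huQ fun b hb hbN => ?_
  have h1 := hL1 u (h.iSup_le_U hu) huQ b hb hbN
  have h2 : b * u * b⁻¹ * u⁻¹ ∈ (⨆ i, c i) ⊓ Lam := by
    exact Subgroup.mem_inf.2 ⟨mul_mem (h.cj_iSup hb ⟨u, hu, rfl⟩) (inv_mem hu), h1⟩
  rw [h.inf_Lam, mem_bot] at h2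
  have h3 : b * u * b⁻¹ = u := mul_inv_eq_one.1 h2
  exact mul_inv_eq_iff_eq_mul.1 h3

/-- **(B)** all lines of order `2`: contradiction. `OO` = the set of centres of the members of `EE` in `Q_j`, `P = P_j`. -/
theorem two_false [Finite ι] {P : Subgroup G} {e : ι → G} (OO : Set G)
    (he : ∀ i, e i ∈ c i) (hce : ∀ i, ∀ x ∈ c i, x = 1 ∨ x = e i)
    (hCB : ∀ u ∈ U, u ∈ centralizer (B : Set G) → u ∈ Lam ∨ u * z⁻¹ ∈ Lam)
    (hBP : B ≤ P) (hPU : P ≤ normalizer (U : Set G)) (hPL : Lam ≤ centralizer (P : Set G))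
    (hKL : ∀ u ∈ U, u ∈ centralizer (B : Set G) → (∀ i, u ∈ N i) → u ∈ Lam)
    (hO : ∀ i, e i ∈ OO) (hOU : OO.Finite) (hPO : ∀ p ∈ P, ∀ x ∈ OO, p * x * p⁻¹ ∈ OO)
    (tr : ∀ x ∈ OO, ∀ y ∈ OO, ∃ p ∈ P, p * x * p⁻¹ = y)
    (dich : ∀ x ∈ OO, (∃ i, x = e i) ∨ ∀ i, x ∈ N i)
    (hmv : ∃ p ∈ P, p * z * p⁻¹ ≠ z) : False := by
  classical
  have := Fintype.ofFinite ι
  obtain ⟨i0, hi0⟩ := h.nz
  have : Nonempty ι := ⟨i0⟩
  have he1 : ∀ i, e i ≠ 1 := by
    intro i h1
    apply h.ne i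
    rw [eq_bot_iff]
    intro x hx
    rcases hce i x hx with h2 | h2
    · exact mem_bot.2 h2
    · exact mem_bot.2 (h2.trans h1)
  have heU : ∀ i, e i ∈ U := fun i => h.cU i (he i)
  -- `z = ∑ e_i`
  let e' : ι → Additive ↥U := fun i => Additive.ofMul (⟨e i, heU i⟩ : ↥U)
  have hsum : letI := instU h.comm; Additive.ofMul (⟨z, h.VU h.zV⟩ : ↥U) = ∑ i, e' i := by
    obtain ⟨act, hact⟩ := h.exists_act
    letI := instU h.comm
    letI := actU h.comm h.BU
    refine (h.toFr act hact).eq_sum (e := e') (fun i => he i) (fun i h0 => he1 i ?_) (fun i x hx => ?_) fun u hu => ?_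
    · exact congrArg (fun u : Additive ↥U => ((Additive.toMul u : ↥U) : G)) h0
    · rcases hce i _ hx with h1 | h1
      · left; exact Additive.toMul.injective (Subtype.ext h1)
      · right; exact Additive.toMul.injective (Subtype.ext h1)
    · have h1 : ((Additive.toMul u : ↥U) : G) ∈ centralizer (B : Set G) := by
        intro g hg
        have h2 := congrArg (fun u : Additive ↥U => ((Additive.toMul u : ↥U) : G)) (hu ⟨g, hg⟩)
        change g * (Additive.toMul u : ↥U) * g⁻¹ = (Additive.toMul u : ↥U) at h2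
        exact mul_inv_eq_iff_eq_mul.1 h2
      rcases hCB _ (Additive.toMul u : ↥U).2 h1 with h2 | h2
      · left
        intro i
        exact h.LamN i _ h2 (Additive.toMul u : ↥U).2
      · right
        intro i
        rw [mem_AA, toMul_sub, div_eq_mul_inv]
        exact h.LamN i _ h2 (mul_mem (Additive.toMul u : ↥U).2 (inv_mem (h.VU h.zV)))
  letI := instU h.comm
  letI := actU h.comm hPU
  let O' : Finset (Additive ↥U) := (hOU.toFinset).subtype (fun x => x ∈ U) |>.map ⟨Additive.ofMul, Additive.ofMul.injective⟩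
  have memO : ∀ u : Additive ↥U, u ∈ O' ↔ ((Additive.toMul u : ↥U) : G) ∈ OO := by
    intro u
    simp only [O', Finset.mem_map, Finset.mem_subtype, Set.Finite.mem_toFinset, Function.Embedding.coeFn_mk]
    constructor
    · rintro ⟨a, ha, rfl⟩
      exact ha
    · intro hu
      exact ⟨Additive.toMul u, hu, rfl⟩
  have hfix := fix_sum (P := ↥P) (C := fun i => AA U (N i)) (e := e') O'
    (fun i hi => by
      have h1 : e i ∈ c i ⊓ N i := ⟨he i, hi⟩
      rw [h.inf i] at h1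
      exact he1 i (mem_bot.1 h1))
    (fun i m hm => h.cm i m hm (he m))
    (fun i => (memO _).2 (hO i))
    (fun p x hx => (memO _).2 (hPO p p.2 _ ((memO x).1 hx)))
    (fun x hx y hy => by
      obtain ⟨p, hp, hpxy⟩ := tr _ ((memO x).1 hx) _ ((memO y).1 hy)
      exact ⟨⟨p, hp⟩, Additive.toMul.injective (Subtype.ext hpxy)⟩)
    (fun x hx => by
      rcases dich _ ((memO x).1 hx) with ⟨i, hi⟩ | hi
      · exact Or.inl ⟨i, Additive.toMul.injective (Subtype.ext hi)⟩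
      · exact Or.inr hi)
    (B.subgroupOf P)
    (fun b hb x hx i => by
      obtain ⟨m, hm, -⟩ := h.perm ((b : G)⁻¹) (inv_mem hb) i
      rw [mem_AA]
      change (b : G) * (Additive.toMul x : ↥U) * (b : G)⁻¹ ∈ N i
      have h1 : ((Additive.toMul x : ↥U) : G) ∈ cj ((b : G)⁻¹) (N i) := by
        rw [hm]
        exact hx m
      obtain ⟨y, hy, hyx⟩ := h1
      have h2 : (b : G)⁻¹ * y * (b : G)⁻¹⁻¹ = ((Additive.toMul x : ↥U) : G) := hyx
      rw [← h2]
      have h3 : (b : G) * ((b : G)⁻¹ * y * (b : G)⁻¹⁻¹) * (b : G)⁻¹ = y := by group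
      rw [h3]
      exact hy)
    (fun u hu huC p => by
      have h1 : ((Additive.toMul u : ↥U) : G) ∈ centralizer (B : Set G) := by
        intro g hg
        have h2 := congrArg (fun u : Additive ↥U => ((Additive.toMul u : ↥U) : G)) (hu ⟨g, hBP hg⟩ hg)
        change g * (Additive.toMul u : ↥U) * g⁻¹ = (Additive.toMul u : ↥U) at h2
        exact mul_inv_eq_iff_eq_mul.1 h2
      have h2 := hPL (hKL _ (Additive.toMul u : ↥U).2 h1 huC) p p.2
      apply Additive.toMul.injective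
      apply Subtype.ext
      change (p : G) * (Additive.toMul u : ↥U) * (p : G)⁻¹ = (Additive.toMul u : ↥U)
      rw [h2]; group)
  obtain ⟨p, hp, hpz⟩ := hmv
  apply hpz
  have h1 := hfix ⟨p, hp⟩
  rw [← hsum] at h1
  exact congrArg (fun u : Additive ↥U => ((Additive.toMul u : ↥U) : G)) h1

end FrG

end Cfsg.Agent.Omega.CaseLQ.PsiT
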