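import Cfsg.Agent.Omega.CaseLQ.OneY
import Cfsg.Agent.Omega.CaseLQ.KSh

/-!
# The best offenders in `T` centralise the lines (#25080 (c))

`Y` a minimal parabolic of characteristic 2 over `T`, `V_Y = zl T Y ≤ U`, `U` abelian, `A ≤ T` a best offender on `U`.

* `best_or` : `A` centralises `V_Y` or it is an offender on `V_Y`;
* `cent_natL` : natural blocks: `A` centralises all `v ∈ V_Y` on the lines (`e v l 1 = 0` for all `l`), split or not;
* `cent_symL` : symmetric blocks: `A` centralises `u_xy` for all transpositions `(x y)` induced by `T`;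
* `hloc_nat` : the hypothesis `hloc` of `exists_KSh`.
-/

set_option autoImplicit false
set_option linter.unusedSectionVars false

namespace Cfsg.Agent.Omega.CaseLQ

open Subgroup Cfsg Cfsg.Agent.ZN Cfsg.Agent.ZN.ChoiceBase
open Cfsg.Agent.Omega.FFThm (OffM ElemM NatKM SymKM ActsSL ActsSym)
open Cfsg.Agent.Omega.FrameFF (cv)
open Cfsg.Agent.Omega.NO1.BestOff (Best)
open Cfsg.Agent.Omega.NO3S.WY (best_mono)
open Cfsg.Agent.Omega.SQ1.FFOne (MinH)
open Cfsg.Agent.Omega.SQ1.FFSym (Gd u)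
open Cfsg.Agent.Omega.NO3S.OneLine (natC_of sy_of disj')
open Cfsg.Agent.Lib.SL2Mat

universe w

variable {G : Type w} [Group G] [Finite G] {U V T Y A : Subgroup G}

/-- A best offender on `U` centralises `V ≤ U` or is an offender on it. -/
theorem best_or (Uc : U ≤ centralizer (U : Set G)) (VU : V ≤ U) (hB : Best U A) :
    A ≤ centralizer (V : Set G) ∨ OffM V A := by
  by_cases h : A ≤ centralizer (V : Set G)
  · exact Or.inl h
  · exact Or.inr ((best_mono hB VU Uc).offM le_rfl h)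

/-- **natural blocks** : the best offenders in `T` centralise the full preimage of the lines. -/
theorem cent_natL {F : Type} [Field F] [Finite F] [CharP F 2] {k : ℕ} (hm : MinH Y T)
    (N : NatKM F T Y (zl T Y) (cv T Y) k) (hk : 0 < k) (Uc : U ≤ centralizer (U : Set G)) (VU : zl T Y ≤ U)
    (hA : A ≤ T) (hB : Best U A) {v : G} (hv : v ∈ zl T Y) (hl : ∀ i, N.e v i 1 = 0) {a : G} (ha : a ∈ A) :
    a * v = v * a := by
  rcases best_or Uc VU hB with h | h
  · exact (mem_centralizer_iff.1 (h ha) v hv).symm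
  · obtain ⟨I, h1, h2⟩ := N.offM A hA h
    exact (natC_of hm hk N.toNatK).cent_line hm hA h.le h1 h2 hv hl ha

/-- **symmetric blocks** : the best offenders in `T` centralise the `u_xy` of the transpositions in `T`. -/
theorem cent_symL {k m : ℕ} (hm : MinH Y T) (N : SymKM T Y (zl T Y) (cv T Y) k m) (hk : 0 < k) (h2m : 2 ≤ m)
    (Uc : U ≤ centralizer (U : Set G)) (VU : zl T Y ≤ U) (hA : A ≤ T) (hB : Best U A) {i : Fin k}
    {x y : Fin (2 ^ m + 1)} (hxy : x ≠ y)
    (ht : ∃ t ∈ T, Gd Y (zl T Y) (cv T Y) N.e (Pi.mulSingle i (Equiv.swap x y)) t) {a : G} (ha : a ∈ A) :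
    a * u Y (zl T Y) (cv T Y) N.e i x y = u Y (zl T Y) (cv T Y) N.e i x y * a := by
  have h := sy_of hm N.toSymK hk (by omega) SQ1.FFOf.cv_le SQ1.FFOf.cv_norm
  have hTH := hm.syl.1
  rcases best_or Uc VU hB with hc | hoff
  · exact (mem_centralizer_iff.1 (hc ha) _ (h.u_mem i x y)).symm
  obtain ⟨hD, h2⟩ := N.offM A hA hoff
  obtain ⟨τ, hτ, hτ'⟩ := h2 a ha
  have h1 := h.u_conj (hTH (hA ha)) hτ i x y
  rw [Equiv.Perm.one_apply] at h1
  -- `τ` preserves `{x, y}`
  have hkey : ∀ x y : Fin (2 ^ m + 1), x ≠ y →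
      (∃ t ∈ T, Gd Y (zl T Y) (cv T Y) N.e (Pi.mulSingle i (Equiv.swap x y)) t) → τ i x = x ∨ τ i x = y := by
    rintro x y hxy ⟨t, ht, htg⟩
    by_cases hx : τ i x = x
    · exact Or.inl hx
    · right
      obtain ⟨-, b, hb, hb'⟩ := hτ' i x hx
      exact (disj' h hm.syl.2.1 hxy (Ne.symm hx) ht (hA hb) htg ⟨hTH (hA hb), hD b hb, hb'⟩).symm
  have h3 := hkey x y hxy ht
  have h4 := hkey y x hxy.symm (by rwa [Equiv.swap_comm])
  have h5 : u Y (zl T Y) (cv T Y) N.e i (τ i x) (τ i y) = u Y (zl T Y) (cv T Y) N.e i x y := by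
    rcases h3 with h3 | h3
    · rcases h4 with h4 | h4
      · rw [h3, h4]
      · exfalso
        exact hxy ((τ i).injective (h3.trans h4.symm))
    · rcases h4 with h4 | h4
      · exfalso
        exact hxy ((τ i).injective (h3.trans h4.symm))
      · rw [h3, h4, h.u_symm]
  rw [h5] at h1
  calc a * u Y (zl T Y) (cv T Y) N.e i x y = (a * u Y (zl T Y) (cv T Y) N.e i x y * a⁻¹) * a := by group
    _ = _ := by rw [h1]

/-- **`hloc` of `exists_KSh`, natural blocks.** -/
theorem hloc_nat {F : Type} [Field F] [Finite F] [CharP F 2] {k : ℕ} (hm : MinH Y T)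
    (N : NatKM F T Y (zl T Y) (cv T Y) k) (hk : 0 < k) (Uc : U ≤ centralizer (U : Set G)) (VU : zl T Y ≤ U)
    {ι : Sort*} {c : ι → Subgroup G} (hc : ∀ i, ∀ v ∈ c i, v ∈ zl T Y ∧ ∀ l, N.e v l 1 = 0) {Λ Vj : Subgroup G}
    (hV : Vj ≤ (⨆ i, c i) ⊔ Λ) (hΛ : T ≤ centralizer (Λ : Set G)) (A : Subgroup G) (hA : A ≤ T) (hB : Best U A) :
    A ≤ centralizer (Vj : Set G) :=
  cent_of_lines hV (fun i => fun a ha => mem_centralizer_iff.2 fun v hv =>
    (cent_natL hm N hk Uc VU hA hB (hc i v hv).1 (hc i v hv).2 ha).symm) (hA.trans hΛ)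

end Cfsg.Agent.Omega.CaseLQ
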