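import Cfsg.Agent.Omega.CaseLQ.PsiYB
import Cfsg.Agent.Omega.CaseLQ.PsiTG
import Cfsg.Agent.Omega.CaseLQ.Rt
import Cfsg.Agent.Omega.Node.MulX

/-!
# NoW, `q = 2`: the frame `PsiT.FrG` (helper602) from `Bg` and `YB`; the best offenders centralise `V_j`

* `frG_of_yb` : the frame of (ii), version 2 (#25080), over `X = C_U(⟨Fam⟩)`;
* `exists_ybxL` : helper373's `YBX.Nat.exists_ybx`, the lines `c i` lie in `{v ∈ V_Y | e v l 1 = 0}`;
* `hloc_of` : natural blocks: **every best offender `A ≤ B` on `U` centralises `W j`** (the hypothesis `hloc` of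
  `exists_KSh`, `exists_famT`).
-/

set_option autoImplicit false
set_option linter.unusedSectionVars false

namespace Cfsg.Agent.Omega.CaseLQ.TwoFr

open Subgroup Cfsg Cfsg.Agent.ZN Cfsg.Agent.ZN.ChoiceBase
open Cfsg.Agent.ZN.ChoiceSit (Syl)
open Cfsg.Agent.Omega.OM
open Cfsg.Agent.Omega.OM.GLev (GE)
open Cfsg.Agent.Omega.OM.Lev.Low (YB Mv Li mem_Li Co)
open Cfsg.Agent.Omega.NO3S.EThree.Frame (Bg Fg)
open Cfsg.Agent.Omega.NO3S.OneLine (BFam NatC natC_of)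
open Cfsg.Agent.Omega.NO3S.RedC (MaxMin)
open Cfsg.Agent.Omega.NO3S.CaseLW.YBX (Xc mem_Xc Xc_le Concl)
open Cfsg.Agent.Omega.FFThm (OffM ElemM NoOverM StmtM NatKM)
open Cfsg.Agent.Omega.FrameFF (cv)
open Cfsg.Agent.Omega.NO1.BestOff (Best)
open Cfsg.Agent.Omega.CaseLQ Cfsg.Agent.Omega.CaseLQ.Psi Cfsg.Agent.Omega.CaseLQ.PsiYB

universe u w

variable {G : Type u} [Group G] [Finite G]

section bg

variable {S : Sylow 2 G} {P B ZJ : Subgroup G} {ι : Type} {L W Z C : ι → Subgroup G}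
  (h : Bg S P B ZJ L W Z C 2)
include h

/-- `q = 2` : `Z j = {1, z}` -/
theorem eq_z {j : ι} {z : G} (hz : z ∈ Z j) (z1 : z ≠ 1) {x : G} (hx : x ∈ Z j) : x = 1 ∨ x = z := by
  by_contra hcon
  push Not at hcon
  have h2 : Nat.card (Z j) = 2 := h.fr.cardZ j
  have h3 : ({1, z, x} : Set G) ⊆ (Z j : Set G) := by
    rintro y (rfl | rfl | rfl)
    · exact one_mem _
    · exact hz
    · exact hx
  have h4 : ({1, z, x} : Set G).ncard = 3 := by
    rw [Set.ncard_eq_three]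
    exact ⟨1, z, x, z1.symm, fun e => hcon.1 e.symm, fun e => hcon.2 e.symm, rfl⟩
  have h5 := Set.ncard_le_ncard h3 (Set.toFinite _)
  rw [h4] at h5
  have h6 : (Z j : Set G).ncard = Nat.card (Z j) := rfl
  omega

/-- **The frame of (ii), version 2, from `Bg` and `YB`.** -/
theorem frG_of_yb {κ : Type w} {j : ι} {X Lam : Subgroup G} {Ni c : κ → Subgroup G} (yb : YB B X Ni c) (WX : W j ≤ X)
    (CQ : X ⊓ centralizer (o2 P : Set G) ≤ zl (S : Subgroup G) P) {z : G} (hz : z ∈ Z j) (z1 : z ≠ 1)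
    (nz : ∃ i, z ∉ Ni i) (LN : ∀ i, ∀ x ∈ Lam, x ∈ X → x ∈ Ni i) :
    PsiT.FrG X B (o2 P) (W j) z Lam Ni c where
  comm := yb.ab
  BU := yb.norm
  QB := h.fr.QB
  perm := fun t ht i => yb.perm t ht i
  cU := yb.cX
  ne := yb.ne
  inf := yb.triv
  cm := fun i m hm => yb.comm m i hm
  VU := WX
  BV := by
    intro t ht
    rw [mem_normalizer_iff_cj]
    refine Subgroup.eq_of_le_of_card_ge ?_ (card_cj _ _).ge
    rintro _ ⟨w, hw, rfl⟩
    exact (h.fr.blk j).BV ht hw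
  VQ := fun w hw => mem_centralizer_iff.2 fun x hx => h.fr.cQ hx (h.fr.WV j hw)
  cov := fun i w hw => yb.fix i w (WX hw)
  zV := (h.fr.blk j).ZV hz
  mv := fun v hv hv1 => by
    by_cases hvZ : v ∈ Z j
    · exact Or.inl ((eq_z h hz z1 hvZ).resolve_left hv1)
    · obtain ⟨b, hb, -, hbe⟩ := h.root j v hv hvZ z hz
      exact Or.inr ⟨b, hb, hbe⟩
  tr := by
    obtain ⟨v, hv, hvZ⟩ := exists_v h j
    obtain ⟨b, hb, hbC, hbe⟩ := h.root j v hv hvZ z hz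
    refine ⟨v, hv, b, hb, hbe, fun u hu huQ => ?_⟩
    obtain ⟨w, hw, c, hc, rfl⟩ := h.fr.WC j u (CQ ⟨hu, huQ⟩)
    have h1 : c * b = b * c := mem_centralizer_iff.1 hbC c hc
    have e : b * (w * c) * b⁻¹ * (w * c)⁻¹ = b * w * b⁻¹ * w⁻¹ := by
      have e1 : b * (w * c) * b⁻¹ * (w * c)⁻¹ = b * w * (c * b⁻¹ * c⁻¹) * w⁻¹ := by group
      have e2 : c * b⁻¹ * c⁻¹ = b⁻¹ := by
        have e3 : c * b⁻¹ * c⁻¹ = (c * b * c⁻¹)⁻¹ := by group
        rw [e3, h1, mul_inv_cancel_right]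
      rw [e1, e2]
    rw [e]
    exact eq_z h hz z1 ((h.fr.blk j).com b hb w hw)
  nz := nz
  LamN := LN

end bg

/-! ### the lines -/

section nat

variable {F : Type} [Field F] [Finite F] [CharP F 2] {T H X : Subgroup G} {AA : Set (Subgroup G)} {k : ℕ}

open Cfsg.Agent.Omega.NO3S.CaseLW.YBX Cfsg.Agent.Omega.NO3S.CaseLW.YBX.Nat Cfsg.Agent.Omega.OM.Lev.Low
  Cfsg.Agent.Omega.OM.GNat Cfsg.Agent.Omega.OM.GLev Cfsg.Agent.Omega.OM.Lev.Nat in
/-- **`YBX.Nat.exists_ybx` with the position of the lines.** -/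
theorem exists_ybxL (h : GE T H X AA) (N : NatKM F T H (zl T H) (cv T H) k) (hk : 0 < k)
    (hex : ∃ A ∈ AA, ¬ A ≤ o2 H) (hZ : ¬ H ≤ centralizer (zc T : Set G)) :
    ∃ Ni c : Fin k → Subgroup G, YB T (Xc X AA) Ni c ∧ (∃ l, ¬ zc T ≤ Ni l) ∧
      (∀ x ∈ X, (∀ A ∈ AA, ∀ y ∈ H, ∀ a ∈ A, y * a * y⁻¹ * x = x * (y * a * y⁻¹)) → ∀ l, x ∈ Ni l) ∧
      ∀ i, ∀ v ∈ c i, v ∈ zl T H ∧ ∀ l, N.e v l 1 = 0 := by
  classical
  set M := natC_of h.hm hk N.toNatK with hM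
  obtain ⟨A, hA, hAQ⟩ := hex
  obtain ⟨j, hroot⟩ := exists_root h N hk hA hAQ
  obtain ⟨L, hL, hsup, hgen⟩ := ld_of_root h N hk hA hroot
  have main : ∀ c : Fin k → Subgroup G, Co M c → YB T (Xc X AA) (Ni M (Xc X AA) L j) c := fun c hc =>
    hL.yb_aux hc fun i s hs t ht hsm htm => cyc_line h.hm N hk hs hsm ht htm
  have h2 : ∃ i, ¬ zc T ≤ Ni M (Xc X AA) L j i := by
    refine ⟨j, fun hcon => hZ (hsup.trans (sup_le ?_ ?_))⟩
    · exact NO3S.Level.le_centralizer_zc T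
    · intro l hl
      rw [mem_centralizer_iff]
      intro z hz
      have h1 := (mem_Ni.1 (hcon hz)).2 1 (one_mem _) (MvI.one j) l hl
      simp only [inv_one, one_mul, mul_one] at h1
      exact h1.symm
  have h3 : ∀ x ∈ Xc X AA, (∀ y ∈ H, cj y (sSup AA) ≤ centralizer ({x} : Set G)) → ∀ i, x ∈ Ni M (Xc X AA) L j i := by
    intro x hx hxc i
    refine mem_Ni.2 ⟨hx, fun t ht _ l hl => ?_⟩
    have h1 := hgen (centralizer ({t⁻¹ * x * t} : Set G)) fun y hy => ?_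
    · exact mem_centralizer_singleton_iff.1 (h1 hl)
    · rintro _ ⟨b, hb, rfl⟩
      rw [mem_centralizer_singleton_iff]
      have h2 := mem_centralizer_singleton_iff.1 (hxc (t * y) (mul_mem (h.TH ht) hy) ⟨b, hb, rfl⟩)
      have h2' : t * y * b * (t * y)⁻¹ * x = x * (t * y * b * (t * y)⁻¹) := h2
      have h4 := congrArg (fun z => t⁻¹ * z * t) h2'
      show y * b * y⁻¹ * (t⁻¹ * x * t) = t⁻¹ * x * t * (y * b * y⁻¹)
      simpa [mul_assoc] using h4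
  have hline : ∀ c : Fin k → Subgroup G, Co M c → ∀ i, ∀ v ∈ c i, v ∈ zl T H ∧ ∀ l, N.e v l 1 = 0 := by
    intro c hc i v hv
    obtain ⟨hvV, h0, h1⟩ := mem_Li.1 (hc.le i hv)
    refine ⟨hvV, fun l => ?_⟩
    by_cases hl : l = i
    · subst hl; exact h1
    · have h4 : N.e v l = 0 := h0 l hl
      rw [h4]; rfl
  by_cases hF : ∀ x : F, x = 0 ∨ x = 1
  · have hc := hL.co_two hF
    exact ⟨_, _, main _ hc, h2, fun x hx hxc => h3 x (Xc_of hx hxc) (le_of hxc), hline _ hc⟩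
  · push Not at hF
    obtain ⟨x, hx0, hx1⟩ := hF
    have hc := hL.co_tor hx0 hx1
    exact ⟨_, _, main _ hc, h2, fun x hx hxc => h3 x (Xc_of hx hxc) (le_of hxc), hline _ hc⟩

end nat

/-! ### `hloc` -/

section hloc

variable {S : Sylow 2 G} {P B ZJ : Subgroup G} {ι : Type} {L W Z C : ι → Subgroup G}
  (h : Bg S P B ZJ L W Z C 2)
include h

/-- **natural blocks: every best offender `A ≤ B` on `U` centralises `W j`.** -/
theorem hloc_of {j : ι} {U H Y Λ : Subgroup G} (s : YS U H B Y) (noV : NoOverM (zl B Y) Y) {F : Type} [Field F]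
    [Finite F] [CharP F 2] {k : ℕ} (N : NatKM F B Y (zl B Y) (cv B Y) k) (hk : 0 < k) (WU : W j ≤ U)
    (CQ : U ⊓ centralizer (o2 P : Set G) ≤ zl (S : Subgroup G) P)
    (cen : ∀ E ≤ B, MaxMin U H E → E ≤ centralizer (W j : Set G))
    (hex : ∃ E, E ≤ B ∧ MaxMin U H E ∧ ¬ E ≤ o2 Y) (YΛ : Y ≤ centralizer (Λ : Set G)) (ΛU : Λ ≤ U)
    (zT : zc B ≤ Λ ⊔ Z j) : ∀ A : Subgroup G, A ≤ B → Best U A → A ≤ centralizer (W j : Set G) := by
  obtain ⟨E, hEB, hE, hEY⟩ := hex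
  have hfam := bfam (U := U) (H := H) (T := B) (s.TY.trans s.YH)
  have hEF : E ∈ Fam U H B := ⟨hEB, Or.inl hE⟩
  have ge : GE B Y U (Fam U H B) :=
    { hm := s.hm
      fam := hfam
      elem := Cfsg.Agent.PLocal.ThompsonJ.isElementaryAbelian_iff.2 ⟨s.U_mul, s.Us⟩
      norm := s.YH.trans s.HU
      VX := s.VU
      QC := s.cap
      noOver := noV }
  obtain ⟨Ni, c, yb, hex', hcen, hline⟩ := exists_ybxL ge N hk ⟨E, hEF, hEY⟩ s.mv
  have WX : W j ≤ Xc U (Fam U H B) := by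
    intro w hw
    refine mem_Xc.2 ⟨WU hw, fun A hA a ha => ?_⟩
    rcases hA.2 with h1 | h1
    · exact ((mem_centralizer_iff.1 (cen A hA.1 h1 ha)) w hw).symm
    · exact ((mem_centralizer_iff.1 (h1 ha)) w (WU hw)).symm
  have hΛ : ∀ l, Λ ≤ Ni l := fun l x hx => hcen x (ΛU hx) (fun A hA y hy a ha => by
    have h1 : y * a * y⁻¹ ∈ Y := mul_mem (mul_mem hy (s.TY (hA.1 ha))) (inv_mem hy)
    exact ((mem_centralizer_iff.1 (YΛ h1)) x hx).symm) l
  obtain ⟨z, hz, z1⟩ : ∃ z ∈ Z j, z ≠ 1 := by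
    by_contra hcon
    push Not at hcon
    exact h.Z_ne j (eq_bot_iff.2 fun x hx => mem_bot.2 (hcon x hx))
  have nz : ∃ i, z ∉ Ni i := by
    obtain ⟨l, hl⟩ := hex'
    refine ⟨l, fun hzl => hl (zT.trans (sup_le (hΛ l) fun x hx => ?_))⟩
    rcases eq_z h hz z1 hx with rfl | rfl
    · exact one_mem _
    · exact hzl
  have fr := frG_of_yb h yb WX ((inf_le_inf_right _ (Xc_le _ _)).trans CQ) hz z1 nz
    (Lam := Λ) fun l x hx _ => hΛ l hx
  intro A hA hB a ha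
  rw [mem_centralizer_iff]
  intro v hv
  exact (fr.fix (hA ha) (fun i x hx => cent_natL s.hm N hk s.Uc s.VU hA hB (hline i x hx).1 (hline i x hx).2 ha)
    v hv).symm

end hloc

end Cfsg.Agent.Omega.CaseLQ.TwoFr
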