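import Cfsg.Agent.Omega.CaseLQ.FiveLoc
import Cfsg.Agent.Omega.CaseLQ.TwoFr
import Cfsg.Agent.Omega.CaseLQ.FamOf

/-!
# One `S₅`, the weird parabolics: the frame `PsiT.FrG`, `K♯`, the passive family (#25080 (a), (c))

`FS S P p Y`, `U = UU S P p Y`, `H = HH S P p Y`, `T = Std.T S p`.

* `exists_tj` : some `t ∈ T` acts as `(2 3)` on the letters; `comm_tj` : `[V_P, t] = {1, a}`;
* `FS.frG_of_yb` : helper602's frame from `YB`;
* `FS.ys`, `FS.ge` : helper952's `YS`, `GE` for `Fam U H T`;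
* `FS.exists_fr` : natural blocks of `Y`: the frame, with the position of the lines;
* **`FS.hloc`**, **`FS.exists_fam`** : natural blocks: `KSh S P Y U K 𝒜`, `FamT S P Y V 𝓕`.
-/

set_option autoImplicit false
set_option linter.unusedSectionVars false

namespace Cfsg.Agent.Omega.CaseLQ.FiveI

open Subgroup Cfsg Cfsg.Agent.ZN Cfsg.Agent.ZN.ChoiceBase
open Cfsg.Agent.ZN.ChoiceSit (Syl)
open Cfsg.Agent.Omega.FFThm (OffM ElemM NoOverM StmtM NatKM)
open Cfsg.Agent.Omega.FrameFF (cv)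
open Cfsg.Agent.Omega.NTwo
open Cfsg.Agent.Omega.OM
open Cfsg.Agent.Omega.OM.GLev (GE)
open Cfsg.Agent.Omega.OM.Lev.Low (YB)
open Cfsg.Agent.Omega.NO3S.RedC (MaxMin DX GX)
open Cfsg.Agent.Omega.NO3S.CaseLW.YBX (Xc mem_Xc Xc_le)
open Cfsg.Agent.Omega.NO3S.WY
open Cfsg.Agent.Omega.NO3S.Sym.Light (FiveL)
open Cfsg.Agent.Omega.NO1.BestOff (Best)
open Cfsg.Agent.Omega.CaseLQ.PsiYB

universe u w

variable {G : Type u} [Group G] [Finite G] {S : Sylow 2 G} {P : Subgroup G} {p : Fin 5 → G} {Y : Subgroup G}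

/-- some `t ∈ T` acts as `(2 3)` -/
theorem exists_tj (h : FiveL S P p) : ∃ t ∈ Std.T (S : Subgroup G) p, ∀ i, t * p i * t⁻¹ = p (Equiv.swap 2 3 i) := by
  obtain ⟨t, ht, h1⟩ := NO3S.MFive.Inst.std_all h.std NO3S.MFive.Inst.swap23_mem
  refine ⟨t, Std.mem_T.2 ⟨ht, ?_⟩, h1⟩
  rw [nn, cm, h1, h1]
  rfl

/-- `[V_P, t] ≤ {1, a}` -/
theorem comm_tj (h : FiveL S P p) {t : G} (ht : ∀ i, t * p i * t⁻¹ = p (Equiv.swap 2 3 i)) {v : G}
    (hv : v ∈ zl (S : Subgroup G) P) : t * v * t⁻¹ * v⁻¹ = 1 ∨ t * v * t⁻¹ * v⁻¹ = aa p := by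
  have hp : ∀ i, t * p i * t⁻¹ * (p i)⁻¹ = 1 ∨ t * p i * t⁻¹ * (p i)⁻¹ = aa p := by
    intro i
    rw [ht, h.std.pinv]
    fin_cases i
    · left; exact h.std.sq 0
    · left; exact h.std.sq 1
    · right; exact h.std.comm 3 2
    · right; rfl
    · left; exact h.std.sq 4
  have hpi : ∀ i, p i ∈ zl (S : Subgroup G) P := h.p_mem
  have hci : ∀ i j, t * (p i * p j) * t⁻¹ * (p i * p j)⁻¹ =
      (t * p i * t⁻¹ * (p i)⁻¹) * (t * p j * t⁻¹ * (p j)⁻¹) := by
    intro i j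
    rw [cm, ht, ht, mul_inv_rev, h.std.pinv, h.std.pinv]
    set a := p (Equiv.swap 2 3 i)
    set b := p (Equiv.swap 2 3 j)
    have e1 : p j * p i = p i * p j := h.std.comm _ _
    have e2 : b * p i = p i * b := h.std.comm _ _
    calc a * b * (p j * p i) = a * b * (p i * p j) := by rw [e1]
      _ = a * (b * p i) * p j := by group
      _ = a * (p i * b) * p j := by rw [e2]
      _ = a * p i * (b * p j) := by group
  rcases h.elts hv with rfl | ⟨i, rfl⟩ | ⟨i, j, -, rfl⟩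
  · left; simp
  · exact hp i
  · rw [hci]
    rcases hp i with e1 | e1 <;> rcases hp j with e2 | e2 <;> rw [e1, e2]
    · left; simp
    · right; simp
    · right; simp
    · left; exact h.std.asq

namespace FS

variable (f : FS S P p Y)
include f

/-- **The frame of (ii), version 2.** -/
theorem frG_of_yb {κ : Type w} {X Lam : Subgroup G} {Ni c : κ → Subgroup G}
    (yb : YB (Std.T (S : Subgroup G) p) X Ni c) (WX : Vt p ≤ X)
    (CQ : X ⊓ centralizer (o2 P : Set G) ≤ zl (S : Subgroup G) P)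
    (nz : ∃ i, aa p ∉ Ni i) (LN : ∀ i, ∀ x ∈ Lam, x ∈ X → x ∈ Ni i) :
    PsiT.FrG X (Std.T (S : Subgroup G) p) (o2 P) (Vt p) (aa p) Lam Ni c where
  comm := yb.ab
  BU := yb.norm
  QB := f.wy.QT
  perm := fun t ht i => yb.perm t ht i
  cU := yb.cX
  ne := yb.ne
  inf := yb.triv
  cm := fun i m hm => yb.comm m i hm
  VU := WX
  BV := T_norm_Vt f.five
  VQ := le_centralizer_iff.1 f.QVt
  cov := fun i w hw => yb.fix i w (WX hw)
  zV := aa_Vt f.five
  mv := fun v hv hv1 => by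
    obtain ⟨t, ht, hσ⟩ := exists_tj f.five
    have htc : t ∉ centralizer (Vt p : Set G) := fun hc => by
      have e1 := comm_iff.2 (mem_centralizer_iff.1 hc _
        ((mem_Vt f.five.std.toFv).2 (Or.inr (Or.inr (Or.inl rfl))))).symm
      rw [cm, hσ, hσ] at e1
      have e2 : p 3 * p 4 = p 2 * p 4 := e1
      exact absurd (f.five.std.inj (mul_right_cancel e2)) (by decide)
    rcases (mem_Vt f.five.std.toFv).1 hv with rfl | rfl | rfl | rfl
    · exact absurd rfl hv1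
    · exact Or.inl rfl
    · exact Or.inr ⟨t, ht, comm_t f.five ht htc⟩
    · refine Or.inr ⟨t, ht, ?_⟩
      rw [((act_t f.five ht).resolve_left htc).2, inv_eq_of_mul_eq_one_left (pair_sq f.five.std.toFv 3 4)]
      calc p 2 * p 4 * (p 3 * p 4) = p 2 * p 4 * (p 4 * p 3) := by rw [f.five.std.comm 3 4]
        _ = p 2 * (p 4 * p 4) * p 3 := by group
        _ = aa p := by rw [f.five.std.sq, mul_one]
  tr := by
    obtain ⟨t, ht, hσ⟩ := exists_tj f.five
    have htc : t ∉ centralizer (Vt p : Set G) := fun hc => by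
      have e1 := comm_iff.2 (mem_centralizer_iff.1 hc _
        ((mem_Vt f.five.std.toFv).2 (Or.inr (Or.inr (Or.inl rfl))))).symm
      rw [cm, hσ, hσ] at e1
      have e2 : p 3 * p 4 = p 2 * p 4 := e1
      exact absurd (f.five.std.inj (mul_right_cancel e2)) (by decide)
    exact ⟨p 2 * p 4, (mem_Vt f.five.std.toFv).2 (Or.inr (Or.inr (Or.inl rfl))), t, ht, comm_t f.five ht htc,
      fun u hu huQ => comm_tj f.five hσ (CQ ⟨hu, huQ⟩)⟩
  nz := nz
  LamN := LN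

theorem zc_U : zc (Std.T (S : Subgroup G) p) ≤ UU (S : Subgroup G) P p Y := MinSimple.VModule.zc_le_zl _ _

theorem VU' : zl (Std.T (S : Subgroup G) p) Y ≤ UU (S : Subgroup G) P p Y :=
  ZN.zl_le f.zc_U (le_sup_right.trans f.H_U)

/-- **[Y]** -/
theorem ys : YS (UU (S : Subgroup G) P p Y) (HH (S : Subgroup G) P p Y) (Std.T (S : Subgroup G) p) Y where
  Uc := f.loc.Uc
  Us := f.loc.Us
  HU := f.H_U
  UT := f.loc.UT
  syl := f.wy.syl
  min := f.wy.min
  c2 := f.wy.c2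
  mv := f.wy.mv
  YH := le_sup_right
  VU := f.VU'

theorem ge (noV : NoOverM (zl (Std.T (S : Subgroup G) p) Y) Y) :
    GE (Std.T (S : Subgroup G) p) Y (UU (S : Subgroup G) P p Y)
      (Fam (UU (S : Subgroup G) P p Y) (HH (S : Subgroup G) P p Y) (Std.T (S : Subgroup G) p)) where
  hm := f.ys.hm
  fam := bfam (f.ys.TY.trans f.ys.YH)
  elem := Cfsg.Agent.PLocal.ThompsonJ.isElementaryAbelian_iff.2 ⟨f.ys.U_mul, f.ys.Us⟩
  norm := f.ys.YH.trans f.ys.HU
  VX := f.ys.VU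
  QC := f.ys.cap
  noOver := noV

theorem WX : Vt p ≤ Xc (UU (S : Subgroup G) P p Y)
    (Fam (UU (S : Subgroup G) P p Y) (HH (S : Subgroup G) P p Y) (Std.T (S : Subgroup G) p)) := by
  intro w hw
  refine mem_Xc.2 ⟨f.Vt_le_U hw, fun A hA a ha => ?_⟩
  rcases hA.2 with h1 | h1
  · exact ((mem_centralizer_iff.1 (f.exists_E.1 A h1 hA.1 ha)) w hw).symm
  · exact ((mem_centralizer_iff.1 (h1 ha)) w (f.Vt_le_U hw)).symm

theorem zT : zc (Std.T (S : Subgroup G) p) ≤ zpowers (nn p) ⊔ zpowers (aa p) := by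
  intro x hx
  rcases f.five.std.mem_zcT.1 hx with rfl | rfl | rfl | rfl
  · exact one_mem _
  · exact mem_sup_left (mem_zpowers _)
  · exact mem_sup_right (mem_zpowers _)
  · rw [← f.five.std.na]
    exact mul_mem (mem_sup_left (mem_zpowers _)) (mem_sup_right (mem_zpowers _))

/-- the frame from the blocks of `Y` -/
theorem fr_of {κ : Type w} {Ni c : κ → Subgroup G}
    (yb : YB (Std.T (S : Subgroup G) p) (Xc (UU (S : Subgroup G) P p Y)
      (Fam (UU (S : Subgroup G) P p Y) (HH (S : Subgroup G) P p Y) (Std.T (S : Subgroup G) p))) Ni c)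
    (hex : ∃ l, ¬ zc (Std.T (S : Subgroup G) p) ≤ Ni l)
    (hcen : ∀ x ∈ UU (S : Subgroup G) P p Y, (∀ A ∈ Fam (UU (S : Subgroup G) P p Y) (HH (S : Subgroup G) P p Y)
      (Std.T (S : Subgroup G) p), ∀ y ∈ Y, ∀ a ∈ A, y * a * y⁻¹ * x = x * (y * a * y⁻¹)) → ∀ l, x ∈ Ni l) :
    PsiT.FrG (Xc (UU (S : Subgroup G) P p Y)
      (Fam (UU (S : Subgroup G) P p Y) (HH (S : Subgroup G) P p Y) (Std.T (S : Subgroup G) p)))
      (Std.T (S : Subgroup G) p) (o2 P) (Vt p) (aa p) (zpowers (nn p)) Ni c := by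
  have hΛ : ∀ l, zpowers (nn p) ≤ Ni l := fun l => by
    rw [zpowers_le]
    refine hcen _ f.n_U (fun A hA y hy a ha => ?_) l
    have h1 : y * a * y⁻¹ ∈ Y := mul_mem (mul_mem hy (f.ys.TY (hA.1 ha))) (inv_mem hy)
    exact mem_centralizer_singleton_iff.1 (f.cen h1)
  have nz : ∃ i, aa p ∉ Ni i := by
    obtain ⟨l, hl⟩ := hex
    exact ⟨l, fun hzl => hl (f.zT.trans (sup_le (hΛ l) (zpowers_le.2 hzl)))⟩
  exact f.frG_of_yb yb f.WX ((inf_le_inf_right _ (Xc_le _ _)).trans f.loc.cUQ) nz fun l x hx _ => hΛ l hx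

section nat

variable {F : Type} [Field F] [Finite F] [CharP F 2] {k : ℕ}

/-- natural blocks -/
theorem exists_fr (noV : NoOverM (zl (Std.T (S : Subgroup G) p) Y) Y)
    (N : NatKM F (Std.T (S : Subgroup G) p) Y (zl (Std.T (S : Subgroup G) p) Y) (cv (Std.T (S : Subgroup G) p) Y) k)
    (hk : 0 < k) : ∃ Ni c : Fin k → Subgroup G,
    PsiT.FrG (Xc (UU (S : Subgroup G) P p Y)
      (Fam (UU (S : Subgroup G) P p Y) (HH (S : Subgroup G) P p Y) (Std.T (S : Subgroup G) p)))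
      (Std.T (S : Subgroup G) p) (o2 P) (Vt p) (aa p) (zpowers (nn p)) Ni c ∧
    ∀ i, ∀ v ∈ c i, v ∈ zl (Std.T (S : Subgroup G) p) Y ∧ ∀ l, N.e v l 1 = 0 := by
  obtain ⟨-, E, hE, hEB, hEY⟩ := f.exists_E
  obtain ⟨Ni, c, yb, hex', hcen, hline⟩ := TwoFr.exists_ybxL (f.ge noV) N hk ⟨E, ⟨hEB, Or.inl hE⟩, hEY⟩ f.wy.mv
  exact ⟨Ni, c, f.fr_of yb hex' hcen, hline⟩

/-- **every best offender `A ≤ T` on `U` centralises `V_τ`** -/
theorem hloc (noV : NoOverM (zl (Std.T (S : Subgroup G) p) Y) Y)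
    (N : NatKM F (Std.T (S : Subgroup G) p) Y (zl (Std.T (S : Subgroup G) p) Y) (cv (Std.T (S : Subgroup G) p) Y) k)
    (hk : 0 < k) (A : Subgroup G) (hA : A ≤ Std.T (S : Subgroup G) p) (hB : Best (UU (S : Subgroup G) P p Y) A) :
    A ≤ centralizer (Vt p : Set G) := by
  obtain ⟨Ni, c, fr, hline⟩ := f.exists_fr noV N hk
  intro a ha
  rw [mem_centralizer_iff]
  intro v hv
  exact (fr.fix (hA ha) (fun i x hx => cent_natL f.ys.hm N hk f.ys.Uc f.ys.VU hA hB (hline i x hx).1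
    (hline i x hx).2 ha) v hv).symm

/-- **`K♯ ≤ O₂(P)` and the passive family** -/
theorem exists_fam (noV : NoOverM (zl (Std.T (S : Subgroup G) p) Y) Y)
    (N : NatKM F (Std.T (S : Subgroup G) p) Y (zl (Std.T (S : Subgroup G) p) Y) (cv (Std.T (S : Subgroup G) p) Y) k)
    (hk : 0 < k) : (∃ (K : Subgroup G) (𝒜 : Set (Subgroup G)), KSh S P Y (UU (S : Subgroup G) P p Y) K 𝒜) ∧
      ∃ (V : Subgroup G) (𝓕 : Set (Subgroup G)), FamT S P Y V 𝓕 :=
  CaseLQ.exists_fam f.lmd (f.hloc noV N hk) fun _ hA hP => exists_s f.five hA hP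

end nat

end FS

end Cfsg.Agent.Omega.CaseLQ.FiveI
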