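import Cfsg.Agent.Omega.CaseLQ.PartI
import Cfsg.Agent.Omega.NO3S.OneLine.LevNat
import Cfsg.Agent.Omega.NO3S.OneLine.LevSym
import Cfsg.Agent.Omega.SQ1.FFKNat

/-!
# CaseL, weird `Y`, (i2): the hypothesis `oneY` of `PartI.lean` from the FF theorem for `Y`

`T` a Sylow 2-subgroup of the minimal parabolic `Y` of characteristic 2, `V = ⟨Ω₁(Z(T))^Y⟩ ≤ U`; `E ≤ T` a maximal
offender of least rank on `U` (`MaxMin U H E`) with `[U, E] = Z`, `Z` normalised by `T`, `E ≰ O₂(Y)`; `Q ≤ T` centralises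
`Z`, `Q ≰ O₂(Y)`.

* `OY H U T Q Z Y E` : this situation;
* `OY.oneY`, `oneY_of` : `1 ≠ [u, c] ∈ Z` for some `c ∈ Q`, `u ∈ U`.
-/

set_option autoImplicit false
set_option linter.unusedSectionVars false

namespace Cfsg.Agent.Omega.CaseLQ

open Subgroup Cfsg Cfsg.Agent.ZN Cfsg.Agent.ZN.ChoiceBase
open Cfsg.Agent.ZN.ChoiceSit (Syl)
open Cfsg.Agent.MinSimple.MinParabolic (IsMinPar)
open Cfsg.Agent.MinSimple.VModule (oddGen oddGen_le mem_oddGen)
open Cfsg.Agent.Omega.FFThm (OffM ElemM NoOverM NatK NatKM SymKM ActsSL ActsSym StmtM)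
open Cfsg.Agent.Omega.FrameFF (cv)
open Cfsg.Agent.Omega.NO3S.RedC (MaxMin)
open Cfsg.Agent.Omega.NO3S.Level (MinOff)
open Cfsg.Agent.Omega.NO3b.EZero (cl cj_le_cl le_cl cl_le le_normalizer_cl cent_symm cj_cent)
open Cfsg.Agent.Omega.NO3b.K0 (conj_mem' cj_of_le cj_self min_or)
open Cfsg.Agent.Omega.NO3S.NotFF (le_normalizer_of_forall)
open Cfsg.Agent.Omega.SQ1.Bau (mem_sup_comm card_sup_comm mem_sup_norm)
open Cfsg.Agent.Omega.SQ1.FFOne (MinH)
open Cfsg.Agent.Omega.NO3S.Fld (kmod mem_kmod norm_kmod kmod_le relIndex_mul_card relIndex_le_of_map relIndex_mul_of)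
open Cfsg.Agent.Omega.NatPair (ap ap_zero' ap_one' ap_one ap_mul ap_add ext2 ap_inv_ap ap_inj)
open Cfsg.Agent.Omega.NO3S.OneLine (NatC natC_of)
open Cfsg.Agent.Lib.SL2Mat

universe u

/-! ### Additive maps of `F²` -/

section lin

variable {F : Type*} [Field F]

/-- An additive map of `F²` which fixes the line `{(x, 0)}` pointwise, normalises `SL₂(F)` and has 2-power order
(copy of `NOThreeL/RA/FromNat.lean`). -/
theorem exists_up_of_fix [CharP F 2] (φ : (Fin 2 → F) → Fin 2 → F) (hadd : ∀ x y, φ (x + y) = φ x + φ y)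
    (hfix : ∀ x : F, φ ![x, 0] = ![x, 0])
    (hnorm : ∀ A : Matrix.SpecialLinearGroup (Fin 2) F, ∃ B : Matrix.SpecialLinearGroup (Fin 2) F,
      ∀ x, φ (ap A x) = ap B (φ x))
    (h2 : ∃ n : ℕ, ∀ x, φ^[2 ^ n] x = x) : ∃ b, ∀ x, φ x = ap (up b) x := by
  -- the second coordinate
  obtain ⟨B, hB⟩ := hnorm (up 1)
  have hup0 : ∀ (b : F) (x : Fin 2 → F), ap (up b) x 0 = x 0 + b * x 1 := by
    intro b x
    rw [ap_zero', up_00, up_01, one_mul]
  have hup1 : ∀ (b : F) (x : Fin 2 → F), ap (up b) x 1 = x 1 := by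
    intro b x
    rw [ap_one', up_10, up_11, zero_mul, one_mul, zero_add]
  have hB1 : ap B ![1, 0] = ![1, 0] := by
    have h := hB ![1, 0]
    rw [hfix] at h
    rw [← h]
    have h3 : ap (up (1 : F)) ![1, 0] = ![1, 0] := by
      apply ext2
      · rw [hup0]; simp
      · rw [hup1]
    rw [h3, hfix]
  have hB00 : ent B 0 0 = 1 := by
    have h := congrFun hB1 0
    rw [ap_zero'] at h
    simpa using h
  have h1 : ∀ x, x 1 = ent B 0 1 * φ x 1 := by
    intro x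
    have h := congrFun (hB x) 0
    have h3 : ap (up (1 : F)) x = x + ![x 1, 0] := by
      apply ext2
      · rw [hup0, one_mul]; rfl
      · rw [hup1]; simp
    rw [h3, hadd, hfix, ap_zero', hB00, one_mul] at h
    change φ x 0 + x 1 = _ at h
    exact add_left_cancel h
  have hne : ent B 0 1 ≠ 0 := by
    intro h
    have h3 := h1 ![0, 1]
    rw [h, zero_mul] at h3
    exact one_ne_zero h3
  set d := (ent B 0 1)⁻¹ with hd
  have h3 : ∀ x, φ x 1 = d * x 1 := by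
    intro x
    rw [h1 x, hd, inv_mul_cancel_left₀ hne]
  have h4 : ∀ n : ℕ, ∀ x, φ^[n] x 1 = d ^ n * x 1 := by
    intro n
    induction n with
    | zero => intro x; simp
    | succ n ih =>
      intro x
      rw [Function.iterate_succ_apply', h3, ih x, pow_succ]
      ring
  have hd1 : d = 1 := by
    obtain ⟨n, hn⟩ := h2
    have h5 := h4 (2 ^ n) ![0, 1]
    rw [hn] at h5
    have h6 : d ^ 2 ^ n = 1 := by simpa using h5.symm
    have h7 : (d - 1) ^ 2 ^ n = 0 := by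
      rw [sub_pow_char_pow, one_pow, h6, sub_self]
    have h8 := eq_zero_of_pow_eq_zero h7
    exact sub_eq_zero.mp h8
  have h5 : ∀ x, φ x 1 = x 1 := fun x => by rw [h3, hd1, one_mul]
  -- the first coordinate
  obtain ⟨C, hC⟩ := hnorm (lo 1)
  have h6 : ∀ x : F, φ ![0, x] 0 = (ent C 0 0 - 1) * x := by
    intro x
    have h := congrFun (hC ![x, 0]) 0
    have h7 : ap (lo (1 : F)) ![x, 0] = ![x, 0] + ![0, x] := by
      apply ext2
      · rw [ap_zero', lo_00, lo_01]; simp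
      · rw [ap_one', lo_10, lo_11]; simp
    rw [h7, hadd, hfix, ap_zero'] at h
    change x + φ ![0, x] 0 = ent C 0 0 * x + ent C 0 1 * 0 at h
    rw [mul_zero, add_zero] at h
    rw [sub_mul, one_mul, ← h, add_sub_cancel_left]
  refine ⟨ent C 0 0 - 1, fun x => ?_⟩
  have h7 : x = ![x 0, 0] + ![0, x 1] := by
    apply ext2
    · simp
    · simp
  apply ext2
  · rw [hup0]
    conv_lhs => rw [h7]
    rw [hadd, hfix]
    change x 0 + φ ![0, x 1] 0 = _
    rw [h6]
  · rw [hup1, h5]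

end lin

variable {G : Type u} [Group G] [Finite G] {H U T Q Z Y E V D : Subgroup G}

/-- **The situation** of (i2). -/
structure OY (H U T Q Z Y E : Subgroup G) : Prop where
  Uc : U ≤ centralizer (U : Set G)
  Us : ∀ u ∈ U, u ^ 2 = 1
  HU : H ≤ normalizer (U : Set G)
  syl : Syl T Y
  min : IsMinPar T Y
  c2 : Y ⊓ centralizer (o2 Y : Set G) ≤ o2 Y
  mv : ¬ Y ≤ centralizer (zc T : Set G)
  YH : Y ≤ H
  VU : zl T Y ≤ U
  QT : Q ≤ T
  QZ : Q ≤ centralizer (Z : Set G)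
  QY : ¬ Q ≤ o2 Y
  TZ : T ≤ normalizer (Z : Set G)
  ET : E ≤ T
  m : MaxMin U H E
  EY : ¬ E ≤ o2 Y
  com : CommIn E U Z
  mn : ∀ Z' : Subgroup G, CommIn E U Z' → Z ≤ Z'

namespace OY

variable (o : OY H U T Q Z Y E)
include o

theorem TY : T ≤ Y := o.syl.1

theorem T2 : IsPGroup 2 T := o.syl.2.1

theorem hm : MinH Y T := SQ1.FFOne.minH_of o.syl o.min o.c2

theorem YV : Y ≤ normalizer (zl T Y : Set G) := MinSimple.VModule.le_normalizer_zl T Y

theorem V_comm : ∀ v ∈ zl T Y, ∀ w ∈ zl T Y, v * w = w * v := SQ1.VOf.MinH.comm o.hm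

theorem odd_not : ¬ oddGen Y ≤ centralizer (zl T Y : Set G) := by
  intro h0
  apply o.mv
  have h1 := NO3b.EZero.oddGen_sup_syl o.syl
  rw [← h1]
  refine sup_le (h0.trans (centralizer_le SQ1.VOf.zc_le_zl)) (cent_symm ?_)
  intro z hz
  exact mem_centralizer_iff.2 fun t ht => (ChoiceBase.mem_zc.1 hz).2.2 t ht

/-- `C_T(V) ≤ O₂(Y)` -/
theorem cap : T ⊓ centralizer (zl T Y : Set G) ≤ o2 Y := by
  have hYY : Y ≤ normalizer ((Y ⊓ centralizer (zl T Y : Set G) : Subgroup G) : Set G) :=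
    NO3b.EZero.le_normalizer_inf_cent o.YV
  rcases min_or o.syl o.min (K := Y ⊓ centralizer (zl T Y : Set G)) inf_le_left hYY with h2 | h2
  · exact absurd (h2.trans inf_le_right) o.odd_not
  · exact (le_inf inf_le_left (le_inf (inf_le_left.trans o.TY) inf_le_right)).trans h2

/-- `C_T(V / C_V(O²(Y))) ≤ O₂(Y)` -/
theorem cap' {x : G} (hx : x ∈ T) (h : ∀ v ∈ zl T Y, x * v * x⁻¹ * v⁻¹ ∈ cv T Y) : x ∈ o2 Y := by
  have hD : Y ≤ normalizer (cv T Y : Set G) := le_normalizer_of_forall fun g hg d hd => SQ1.FFOf.cv_norm g hg d hd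
  rcases min_or o.syl o.min (K := kmod Y (zl T Y) (cv T Y) o.YV hD) kmod_le (norm_kmod _ _) with h2 | h2
  · refine absurd ?_ o.odd_not
    have hcl : oddGen Y = closure {x : G | x ∈ Y ∧ Odd (orderOf x)} := rfl
    rw [hcl, closure_le]
    rintro g ⟨hg, ho⟩
    have hgo : g ∈ oddGen Y := mem_oddGen hg ho
    refine mem_centralizer_iff.2 fun v hv => ?_
    have h3 := (mem_kmod.1 (h2 hgo)).2 v hv
    set d := g * v * g⁻¹ * v⁻¹ with hd
    have hgd : g * d = d * g := mem_centralizer_iff.1 h3.2 g hgo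
    have h4 : ∀ n : ℕ, g ^ n * v * (g ^ n)⁻¹ = d ^ n * v := by
      intro n
      induction n with
      | zero => simp
      | succ n ih =>
        have e1 : g ^ (n + 1) * v * (g ^ (n + 1))⁻¹ = g * (g ^ n * v * (g ^ n)⁻¹) * g⁻¹ := by
          rw [pow_succ']; group
        have e2 : g * (d ^ n * v) * g⁻¹ = (g * d ^ n * g⁻¹) * (g * v * g⁻¹) := by group
        have e3 : g * d ^ n * g⁻¹ = d ^ n := by
          have : Commute g (d ^ n) := (show Commute g d from hgd).pow_right n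
          rw [this.eq, mul_inv_cancel_right]
        have e4 : g * v * g⁻¹ = d * v := by rw [hd]; group
        rw [e1, ih, e2, e3, e4, pow_succ, ← mul_assoc]
    have h5 := h4 (orderOf g)
    rw [pow_orderOf_eq_one, one_mul, inv_one, mul_one] at h5
    have h6 : d ^ orderOf g = 1 := (mul_eq_right.1 h5.symm)
    have h7 : d ^ 2 = 1 := SQ1.VOf.MinH.sq o.hm d h3.1
    obtain ⟨r, hr⟩ := ho
    rw [hr, pow_succ, pow_mul, h7, one_pow, one_mul] at h6
    have e5 : g * v = d * v * g := by rw [hd]; group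
    rw [e5, h6, one_mul]
  · exact h2 ⟨hx, mem_kmod.2 ⟨o.TY hx, h⟩⟩

theorem ne : ¬ E ≤ centralizer (zl T Y : Set G) := fun h => o.EY ((le_inf o.ET h).trans o.cap)

theorem off : OffM (zl T Y) E where
  sq := fun a ha => centralizer_le o.VU (o.m.elem.sq a ha)
  comm := fun a ha b hb => centralizer_le o.VU (o.m.elem.comm a ha b hb)
  ne := o.ne
  le := FFThm.relIndex_le_iff.2 (o.m.off o.Uc o.VU)

theorem U_mul {x y : G} (hx : x ∈ U) (hy : y ∈ U) : x * y = y * x := mem_centralizer_iff.1 (o.Uc hy) x hx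

/-- `U = V C_U(E)` -/
theorem split (noV : NoOverM (zl T Y) Y) : ∀ u ∈ U, ∃ v ∈ zl T Y, ∃ c ∈ U ⊓ centralizer (E : Set G), u = v * c := by
  have hno := noV E (o.ET.trans o.TY) o.off.toElemM
  obtain ⟨no, mo⟩ := o.m.minOff o.HU o.VU hno o.ne
  have hcut := mo.cut o.VU hno o.ne
  set N := zl T Y with hN
  have i0 : (centralizer (U : Set G)).relIndex E = (centralizer (E : Set G)).relIndex U :=
    le_antisymm (FFThm.relIndex_le_iff.1 (no E o.m.le o.m.elem)) (o.m.off o.Uc le_rfl)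
  have i1 : (centralizer (N : Set G)).relIndex E ≤ (centralizer (E : Set G)).relIndex N :=
    FFThm.relIndex_le_iff.1 hno
  have e1 : (centralizer (N : Set G)).relIndex E = (centralizer (U : Set G)).relIndex E := by
    rw [← inf_relIndex_right, ← inf_relIndex_right (centralizer (U : Set G))]
    congr 1
    refine le_antisymm (le_inf ?_ inf_le_right) (inf_le_inf_right _ (centralizer_le o.VU))
    rw [inf_comm]
    exact hcut
  have i2 : (centralizer (E : Set G)).relIndex U ≤ (centralizer (E : Set G)).relIndex N := by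
    rw [← i0, ← e1]
    exact i1
  set K := U ⊓ centralizer (E : Set G) with hK
  have hcom' : ∀ x ∈ N, ∀ y ∈ K, x * y = y * x := fun x hx y hy => o.U_mul (o.VU hx) hy.1
  have e2 : N ⊓ K = N ⊓ centralizer (E : Set G) := by
    rw [hK, ← inf_assoc, inf_eq_left.2 o.VU]
  have c1 := card_sup_comm hcom'
  rw [e2] at c1
  have c2 := relIndex_mul_card N (centralizer (E : Set G))
  have c3 := relIndex_mul_card U (centralizer (E : Set G))
  have hsup : N ⊔ K = U := by
    refine Subgroup.eq_of_le_of_card_ge (sup_le o.VU inf_le_left) ?_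
    have p1 : 0 < Nat.card ↥(N ⊓ centralizer (E : Set G)) := Nat.card_pos
    refine Nat.le_of_mul_le_mul_right (c := Nat.card ↥(N ⊓ centralizer (E : Set G))) ?_ p1
    calc Nat.card U * Nat.card ↥(N ⊓ centralizer (E : Set G))
        = (centralizer (E : Set G)).relIndex U * (Nat.card K * Nat.card ↥(N ⊓ centralizer (E : Set G))) := by
          rw [← c3, ← hK]; ring
      _ ≤ (centralizer (E : Set G)).relIndex N * (Nat.card K * Nat.card ↥(N ⊓ centralizer (E : Set G))) :=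
          Nat.mul_le_mul_right _ i2
      _ = Nat.card N * Nat.card K := by rw [← c2]; ring
      _ = _ := c1.symm
  intro u hu
  exact mem_sup_comm hcom' (hsup ▸ hu : u ∈ N ⊔ K)

/-- `[e, vc] = [e, v]` -/
theorem comm_split {e v c : G} (he : e ∈ E) (hc : c ∈ U ⊓ centralizer (E : Set G)) :
    e * (v * c) * e⁻¹ * (v * c)⁻¹ = e * v * e⁻¹ * v⁻¹ := by
  have e3 : e * (v * c) * e⁻¹ * (v * c)⁻¹ = e * v * (c * e⁻¹ * c⁻¹) * v⁻¹ := by group
  have e4 : c * e⁻¹ * c⁻¹ = e⁻¹ := by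
    have h2 := mem_centralizer_iff.1 hc.2 e⁻¹ (inv_mem he)
    rw [← h2]
    group
  rw [e3, e4]

/-- the output from one subgroup `X` of `V` with `[V, E] ≤ X` -/
theorem Z_le (noV : NoOverM (zl T Y) Y) {X : Subgroup G} (hX : ∀ e ∈ E, ∀ v ∈ zl T Y, e * v * e⁻¹ * v⁻¹ ∈ X) :
    Z ≤ X := o.mn X fun e he u hu => by
  obtain ⟨v, hv, c, hc, rfl⟩ := o.split noV u hu
  rw [o.comm_split he hc]
  exact hX e he v hv

/-- the output -/
theorem out {c e : G} (hc : c ∈ Q) (hcY : c ∉ o2 Y) (he : e ∈ E) (h : e⁻¹ * c ∈ o2 Y) :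
    ∃ c ∈ Q, ∃ u ∈ U, c * u * c⁻¹ * u⁻¹ ∈ Z ∧ c * u * c⁻¹ * u⁻¹ ≠ 1 := by
  have h1 : ∃ v ∈ zl T Y, c * v ≠ v * c := by
    by_contra hcon
    push Not at hcon
    exact hcY (o.cap ⟨o.QT hc, mem_centralizer_iff.2 fun v hv => (hcon v hv).symm⟩)
  obtain ⟨v, hv, hcv⟩ := h1
  refine ⟨c, hc, v, o.VU hv, ?_, fun h2 => hcv ?_⟩
  · have h3 := SQ1.VOf.MinH.o2_cent o.hm _ h v hv
    have e1 : c * v * c⁻¹ * v⁻¹ = e * (e⁻¹ * c * v) * (e⁻¹ * c)⁻¹ * e⁻¹ * v⁻¹ := by group
    have e2 : e * (v * (e⁻¹ * c)) * (e⁻¹ * c)⁻¹ * e⁻¹ * v⁻¹ = e * v * e⁻¹ * v⁻¹ := by group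
    rw [e1, h3, e2]
    exact o.com e he v (o.VU hv)
  · have e1 : c * v = (c * v * c⁻¹ * v⁻¹) * v * c := by group
    rw [e1, h2, one_mul]

section nat

variable {F : Type} [Field F] [Finite F] [CharP F 2] {k : ℕ}

/-- **natural blocks** -/
theorem nat (noV : NoOverM (zl T Y) Y) (N : NatKM F T Y (zl T Y) (cv T Y) k) (hk : 0 < k) :
    ∃ c ∈ Q, ∃ u ∈ U, c * u * c⁻¹ * u⁻¹ ∈ Z ∧ c * u * c⁻¹ * u⁻¹ ≠ 1 := by
  classical
  set M := natC_of o.hm hk N.toNatK with hM
  obtain ⟨I, h1, h2⟩ := N.offM E o.ET o.off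
  have hV : ∀ g ∈ Y, ∀ v ∈ zl T Y, g * v * g⁻¹ ∈ zl T Y := fun g hg v hv => conj_mem' o.YV hg hv
  have hEY : E ≤ Y := o.ET.trans o.TY
  -- `I` is not empty
  obtain ⟨i₀, hi₀⟩ : I.Nonempty := by
    by_contra hcon
    rw [Set.not_nonempty_iff_eq_empty] at hcon
    apply o.ne
    intro a ha
    obtain ⟨b, hb0, hb⟩ := h1 a ha
    have hb1 : b = 0 := by
      funext l
      exact hb0 l (by rw [hcon]; simp)
    subst hb1
    have hs : a ∈ M.stab := by
      refine ⟨hEY ha, fun w hw l => ?_, hb.2⟩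
      have h5 : N.e (a * w * a⁻¹) l = ap (up ((0 : Fin k → F) l)) (N.e w l) := hb.1 w hw l
      rw [Pi.zero_apply, up_zero] at h5
      exact h5
    exact mem_centralizer_iff.2 fun w hw => (M.cent_of_stab o.hm hs hw).symm
  -- the elements of `Z` on the lines
  have hz : ∀ i ∈ I, ∀ x : F, ∃ z ∈ Z, z ∈ zl T Y ∧ N.e z i = ![x, 0] ∧ ∀ j, j ≠ i → N.e z j = 0 := by
    intro i hi x
    obtain ⟨a, ha, hact⟩ := h2 (Pi.single i x) fun l hl => by
      rw [Pi.single_eq_of_ne]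
      rintro rfl
      exact hl hi
    obtain ⟨v, hv, hev⟩ := N.surj fun _ => ![0, 1]
    have hav := hV a (hEY ha) v hv
    refine ⟨a * v * a⁻¹ * v⁻¹, o.com a ha v (o.VU hv), mul_mem hav (inv_mem hv), ?_, fun j hj => ?_⟩
    · have h3 := congrFun (M.map_div hav hv) i
      have h4 : M.nat.e (a * v * a⁻¹) i = ap (up ((Pi.single i x : Fin k → F) i)) (M.nat.e v i) := hact.1 v hv i
      rw [Pi.sub_apply, h4, Pi.single_eq_same] at h3
      change N.e (a * v * a⁻¹ * v⁻¹) i = ap (up x) (N.e v i) - N.e v i at h3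
      rw [h3, hev]
      apply ext2
      · rw [Pi.sub_apply, ap_zero', up_00, up_01]; simp
      · rw [Pi.sub_apply, ap_one', up_10, up_11]; simp
    · have h3 := congrFun (M.map_div hav hv) j
      have h4 : M.nat.e (a * v * a⁻¹) j = ap (up ((Pi.single i x : Fin k → F) j)) (M.nat.e v j) := hact.1 v hv j
      rw [Pi.sub_apply, h4, Pi.single_eq_of_ne hj, up_zero, ap_one, sub_self] at h3
      exact h3
  -- `Z` has coordinates in `I`
  let X : Subgroup G :=
    { carrier := {w | w ∈ zl T Y ∧ ∀ i, i ∉ I → N.e w i = 0}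
      mul_mem' := by
        rintro x y ⟨hx, hx'⟩ ⟨hy, hy'⟩
        refine ⟨mul_mem hx hy, fun i hi => ?_⟩
        rw [N.mul x hx y hy, Pi.add_apply, hx' i hi, hy' i hi, add_zero]
      one_mem' := ⟨one_mem _, fun i _ => by
        have h3 : M.nat.e 1 = 0 := M.map_one
        change N.e 1 = 0 at h3
        rw [h3]; rfl⟩
      inv_mem' := by
        rintro x ⟨hx, hx'⟩
        refine ⟨inv_mem hx, fun i hi => ?_⟩
        have h3 : M.nat.e x⁻¹ = - M.nat.e x := M.map_inv hx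
        change N.e x⁻¹ = - N.e x at h3
        rw [h3, Pi.neg_apply, hx' i hi, neg_zero] }
  have hZX : Z ≤ X := o.Z_le noV fun e he v hv => by
    have hav := hV e (hEY he) v hv
    refine ⟨mul_mem hav (inv_mem hv), fun i hi => ?_⟩
    obtain ⟨b, hb, hact⟩ := h1 e he
    have h3 := congrFun (M.map_div hav hv) i
    have h4 : M.nat.e (e * v * e⁻¹) i = ap (up (b i)) (M.nat.e v i) := hact.1 v hv i
    rw [Pi.sub_apply, h4, hb i hi, up_zero, ap_one, sub_self] at h3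
    exact h3
  -- `I` is everything
  have hI : ∀ j, j ∈ I := by
    intro j
    by_contra hj
    obtain ⟨t, ht, htr⟩ := N.trans i₀ j
    obtain ⟨z, hzZ, hzV, hz1, -⟩ := hz i₀ hi₀ 1
    have h3 : t * z * t⁻¹ ∈ Z := conj_mem' o.TZ ht hzZ
    have h4 := (hZX h3).2 j hj
    rw [htr z hzV, hz1] at h4
    have h5 := congrFun h4 0
    simp at h5
  -- the elements of `Q`
  obtain ⟨c, hc, hcY⟩ := SetLike.not_le_iff_exists.1 o.QY
  have hcT := o.QT hc
  have hcH := o.TY hcT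
  obtain ⟨σ, hσ⟩ := N.perm c hcH
  have hcz : ∀ z ∈ Z, c * z * c⁻¹ = z := fun z hz => by
    have h3 := mem_centralizer_iff.1 (o.QZ hc) z hz
    rw [← h3, mul_inv_cancel_right]
  have hσi : ∀ i, σ i = i := by
    intro i
    obtain ⟨z, hzZ, hzV, hz1, hz2⟩ := hz i (hI i) 1
    by_contra hne
    have h3 := (hσ z hzV i).1 (by rw [hcz z hzZ]; exact hz2 _ hne)
    rw [hz1] at h3
    have h5 := congrFun h3 0
    simp at h5
  have hcV : ∀ v ∈ zl T Y, c * v * c⁻¹ ∈ zl T Y := hV c hcH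
  -- the maps
  have hs : ∀ i (x : Fin 2 → F), ∃ v ∈ zl T Y, N.e v i = x := fun i x => by
    obtain ⟨v, hv, hev⟩ := N.surj fun _ => x
    exact ⟨v, hv, by rw [hev]⟩
  choose r hr hrx using hs
  have hdiv : ∀ v ∈ zl T Y, ∀ w ∈ zl T Y, N.e (v * w⁻¹) = N.e v - N.e w := fun v hv w hw => M.map_div hv hw
  have hφ : ∀ i, ∀ v ∈ zl T Y, N.e (c * v * c⁻¹) i = N.e (c * r i (N.e v i) * c⁻¹) i := by
    intro i v hv
    have hw := hr i (N.e v i)
    have h3 : N.e (v * (r i (N.e v i))⁻¹) i = 0 := by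
      rw [hdiv v hv _ hw, Pi.sub_apply, hrx, sub_self]
    have h4 := (hσ _ (mul_mem hv (inv_mem hw)) i).2 h3
    rw [hσi] at h4
    have e1 : c * (v * (r i (N.e v i))⁻¹) * c⁻¹ = (c * v * c⁻¹) * (c * r i (N.e v i) * c⁻¹)⁻¹ := by group
    rw [e1, hdiv _ (hcV v hv) _ (hcV _ hw), Pi.sub_apply] at h4
    exact sub_eq_zero.1 h4
  have hb : ∀ i, ∃ b : F, ∀ x, N.e (c * r i x * c⁻¹) i = ap (up b) x := by
    intro i
    refine exists_up_of_fix (fun x => N.e (c * r i x * c⁻¹) i) ?_ ?_ ?_ ?_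
    · intro x y
      have h3 := hφ i _ (mul_mem (hr i x) (hr i y))
      rw [N.mul _ (hr i x) _ (hr i y), Pi.add_apply, hrx, hrx] at h3
      show N.e (c * r i (x + y) * c⁻¹) i = _
      rw [← h3]
      have e1 : c * (r i x * r i y) * c⁻¹ = (c * r i x * c⁻¹) * (c * r i y * c⁻¹) := by group
      rw [e1, N.mul _ (hcV _ (hr i x)) _ (hcV _ (hr i y))]
      rfl
    · intro x
      obtain ⟨z, hzZ, hzV, hz1, -⟩ := hz i (hI i) x
      have h3 := hφ i z hzV
      rw [hz1, hcz z hzZ, hz1] at h3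
      exact h3.symm
    · intro A
      obtain ⟨g, hg, hgA⟩ := N.lift fun _ => A
      obtain ⟨B, hB⟩ := N.norm c hcH g hg (fun _ => A) hgA.1
      refine ⟨B i, fun x => ?_⟩
      have h3 := hgA.1 (r i x) (hr i x) i
      rw [hrx] at h3
      have hgr := hV g hg _ (hr i x)
      have h4 := hφ i _ hgr
      rw [h3] at h4
      show N.e (c * r i (ap A x) * c⁻¹) i = ap (B i) (N.e (c * r i x * c⁻¹) i)
      have e1 : c * (g * r i x * g⁻¹) * c⁻¹ = c * g * c⁻¹ * (c * r i x * c⁻¹) * (c * g * c⁻¹)⁻¹ := by group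
      rw [← h4, ← hB _ (hcV _ (hr i x)) i, e1]
    · obtain ⟨n, hn⟩ := o.T2 ⟨c, hcT⟩
      have hn' : c ^ 2 ^ n = 1 := congrArg Subtype.val hn
      have hit : ∀ l : ℕ, ∀ v ∈ zl T Y, (fun x => N.e (c * r i x * c⁻¹) i)^[l] (N.e v i) =
          N.e (c ^ l * v * (c ^ l)⁻¹) i := by
        intro l
        induction l with
        | zero => intro v _; simp
        | succ l ih =>
          intro v hv
          have h5 := hV _ (pow_mem hcH l) v hv
          have e1 : c * (c ^ l * v * (c ^ l)⁻¹) * c⁻¹ = c ^ (l + 1) * v * (c ^ (l + 1))⁻¹ := by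
            rw [pow_succ']
            group
          rw [Function.iterate_succ_apply', ih v hv]
          show N.e (c * r i (N.e (c ^ l * v * (c ^ l)⁻¹) i) * c⁻¹) i = _
          rw [← hφ i _ h5, e1]
      refine ⟨n, fun x => ?_⟩
      have h3 := hit (2 ^ n) (r i x) (hr i x)
      rw [hn', one_mul, inv_one, mul_one, hrx] at h3
      exact h3
  choose b hb using hb
  obtain ⟨e0, he0, hact⟩ := h2 b fun i hi => absurd (hI i) hi
  refine o.out hc hcY he0 (o.cap' (mul_mem (inv_mem (o.ET he0)) hcT) fun v hv => ?_)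
  have hxY : e0⁻¹ * c ∈ Y := mul_mem (inv_mem (hEY he0)) hcH
  have hw := hV _ hxY v hv
  rw [← N.ker _ (mul_mem hw (inv_mem hv)), hdiv _ hw _ hv, sub_eq_zero]
  funext i
  have h3 := hact.1 _ hw i
  have e1 : e0 * (e0⁻¹ * c * v * (e0⁻¹ * c)⁻¹) * e0⁻¹ = c * v * c⁻¹ := by group
  rw [e1, hφ i v hv, hb] at h3
  have h4 := congrArg (ap (up (b i))⁻¹) h3
  rw [ap_inv_ap, ap_inv_ap] at h4
  exact h4.symm

end nat

section sym

open Cfsg.Agent.Omega.SQ1.FFSym (Gd Sy u)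

variable {k m : ℕ}

/-- **symmetric blocks** : impossible -/
theorem sym (noV : NoOverM (zl T Y) Y) (N : SymKM T Y (zl T Y) (cv T Y) k m) (hk : 0 < k) (hm : 2 ≤ m) : False := by
  classical
  have h := NO3S.OneLine.sy_of o.hm N.toSymK hk (by omega) SQ1.FFOf.cv_le SQ1.FFOf.cv_norm
  have hTH := o.TY
  have hET := o.ET
  have hno := noV E (o.ET.trans o.TY) o.off.toElemM
  obtain ⟨no, mo⟩ := o.m.minOff o.HU o.VU hno o.ne
  -- a transposition in `E`
  obtain ⟨i, x, y, hxy, t, ht, htg⟩ : ∃ i x y, x ≠ y ∧ ∃ t ∈ E,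
      Gd Y (zl T Y) (cv T Y) N.e (Pi.mulSingle i (Equiv.swap x y)) t := by
    obtain ⟨hD, h2⟩ := N.offM E hET o.off
    by_contra hcon
    push Not at hcon
    apply o.ne
    intro a ha
    obtain ⟨τ, hτ, hτ'⟩ := h2 a ha
    have h1 : τ = 1 := by
      funext i
      ext x
      by_contra hx
      have hx' : τ i x ≠ x := fun e => hx (by rw [e]; rfl)
      obtain ⟨-, b, hb, hb'⟩ := hτ' i x hx'
      exact hcon i x (τ i x) hx'.symm b hb ⟨hTH (hET hb), hD b hb, hb'⟩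
    subst h1
    refine mem_centralizer_iff.2 fun v hv => ?_
    have h2 := h.gd_sim ⟨hTH (hET ha), hD a ha, hτ⟩ h.gd_one v hv
    symm
    calc a * v = (a * v * a⁻¹) * a := by group
      _ = v * a := by rw [h2]; group
  have hx0 : x ≠ 0 := by
    rintro rfl
    have h4 := N.fix0 t (hET ht) _ _ htg.act i
    rw [Pi.mulSingle_eq_same, Equiv.swap_apply_left] at h4
    exact hxy h4.symm
  set d := u Y (zl T Y) (cv T Y) N.e i x y with hd
  have hdV : d ∈ zl T Y := h.u_mem i x y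
  have hdd : d * d = 1 := h.u_sq i x y
  have hd1 : d ≠ 1 := h.u_ne hxy
  -- `[t, U] ≤ {1, d}`
  have htU : ∀ w ∈ U, t * w * t⁻¹ * w⁻¹ = 1 ∨ t * w * t⁻¹ * w⁻¹ = d := by
    intro w hw
    obtain ⟨v, hv, c, hc, rfl⟩ := o.split noV w hw
    rw [o.comm_split ht hc]
    rcases h.swap_comm htg v hv with h3 | h3
    · left; rw [h3, mul_inv_cancel]
    · right; rw [h3, mul_inv_cancel_right]
  have htne : t ∉ centralizer (U : Set G) := by
    intro h0
    obtain ⟨v, hv, hev⟩ := h.exists_pair i x 0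
    have h1 := htg.act v hv i y
    have h2 : t * v * t⁻¹ = v := by
      have h3 := mem_centralizer_iff.1 h0 v (o.VU hv)
      rw [← h3, mul_inv_cancel_right]
    rw [h2, Pi.mulSingle_eq_same, Equiv.swap_apply_right, Equiv.Perm.one_apply, hev] at h1
    have hy0 : y ≠ 0 := by
      rintro rfl
      have h4 := N.fix0 t (hET ht) _ _ htg.act i
      rw [Pi.mulSingle_eq_same, Equiv.swap_apply_right] at h4
      exact hxy h4
    simp only [Pi.add_apply] at h1
    rw [SQ1.FFSym.E_self,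
      SQ1.FFSym.E_ne (fun h5 => hx0 h5.2), SQ1.FFSym.E_ne (fun h5 => hxy h5.2.symm),
      SQ1.FFSym.E_ne (fun h5 => hy0 h5.2)] at h1
    simp at h1
  have hUn : E ≤ normalizer (U : Set G) := hET.trans (hTH.trans (o.YH.trans o.HU))
  have hCn : ∀ g ∈ E, ∀ z ∈ centralizer (U : Set G), g⁻¹ * z * g ∈ centralizer (U : Set G) := by
    intro g hg z hz
    rw [mem_centralizer_iff]
    intro w hw
    have h1 : g * w * g⁻¹ ∈ U := conj_mem' hUn hg hw
    have h2 := mem_centralizer_iff.1 hz _ h1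
    have e1 : w * (g⁻¹ * z * g) = g⁻¹ * (g * w * g⁻¹ * z) * g := by group
    rw [e1, h2]
    group
  -- the subgroup `⟨t⟩ C_E(U)`
  let E₁ : Subgroup G :=
    { carrier := {g | g ∈ E ∧ (g ∈ centralizer (U : Set G) ∨ t⁻¹ * g ∈ centralizer (U : Set G))}
      one_mem' := ⟨one_mem _, Or.inl (one_mem _)⟩
      mul_mem' := by
        rintro a b ⟨ha, ha'⟩ ⟨hb, hb'⟩
        refine ⟨mul_mem ha hb, ?_⟩
        rcases ha' with ha' | ha' <;> rcases hb' with hb' | hb'
        · exact Or.inl (mul_mem ha' hb')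
        · right
          have h1 := hCn t ht a ha'
          have e1 : t⁻¹ * (a * b) = (t⁻¹ * a * t) * (t⁻¹ * b) := by group
          rw [e1]
          exact mul_mem h1 hb'
        · right
          have e1 : t⁻¹ * (a * b) = t⁻¹ * a * b := by group
          rw [e1]
          exact mul_mem ha' hb'
        · left
          have h1 := o.m.elem.sq t ht
          have h2 := hCn t ht _ ha'
          have e1 : a * b = t ^ 2 * (t⁻¹ * (t⁻¹ * a) * t) * (t⁻¹ * b) := by rw [pow_two]; group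
          rw [e1]
          exact mul_mem (mul_mem h1 h2) hb'
      inv_mem' := by
        rintro a ⟨ha, ha'⟩
        refine ⟨inv_mem ha, ?_⟩
        rcases ha' with ha' | ha'
        · exact Or.inl (inv_mem ha')
        · right
          have h1 := o.m.elem.sq t ht
          have h2 := hCn t⁻¹ (inv_mem ht) _ (inv_mem ha')
          have h3 := hCn t ht _ h2
          have e1 : t⁻¹ * a⁻¹ = (t ^ 2)⁻¹ * (t * (t⁻¹ * a)⁻¹ * t⁻¹) := by rw [pow_two]; group
          rw [e1]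
          refine mul_mem (inv_mem h1) ?_
          have e2 : t * (t⁻¹ * a)⁻¹ * t⁻¹ = t⁻¹⁻¹ * (t⁻¹ * a)⁻¹ * t⁻¹ := by group
          rw [e2]
          exact h2 }
  have hE₁E : E₁ ≤ E := fun g hg => hg.1
  have htE₁ : t ∈ E₁ := ⟨ht, Or.inr (by rw [inv_mul_cancel]; exact one_mem _)⟩
  have hcz : ∀ w ∈ U, t * w * t⁻¹ * w⁻¹ = 1 → w ∈ centralizer (E₁ : Set G) := by
    intro w hw h1
    refine mem_centralizer_iff.2 fun g hg => ?_
    have htw : t * w = w * t := by
      have e1 : t * w = (t * w * t⁻¹ * w⁻¹) * w * t := by group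
      rw [e1, h1, one_mul]
    rcases hg.2 with h2 | h2
    · exact (mem_centralizer_iff.1 h2 w hw).symm
    · have h3 := mem_centralizer_iff.1 h2 w hw
      have e1 : g * w = t * (t⁻¹ * g * w) := by group
      have e2 : t * (w * (t⁻¹ * g)) = t * w * (t⁻¹ * g) := by group
      rw [e1, ← h3, e2, htw]
      group
  have k1 : (centralizer (E₁ : Set G)).relIndex U ≤ 2 := by
    have hc2 : Nat.card ↥(zpowers d) ≤ 2 := by
      rw [Nat.card_zpowers]
      exact Nat.le_of_dvd (by norm_num) (orderOf_dvd_of_pow_eq_one (by rw [pow_two]; exact hdd))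
    refine le_trans ?_ hc2
    rw [← relIndex_bot_left (zpowers d)]
    refine relIndex_le_of_map (fun w => t * w * t⁻¹ * w⁻¹) (fun w hw => ?_) ?_
    · rcases htU w hw with h1 | h1
      · simp only [h1]; exact one_mem _
      · simp only [h1]; exact mem_zpowers d
    · intro w hw w' hw' hww
      rw [mem_bot, inv_mul_eq_one] at hww
      refine hcz _ (mul_mem (inv_mem hw) hw') ?_
      have htn : t ∈ normalizer (U : Set G) := hUn ht
      have a1 : t * w * t⁻¹ ∈ U := conj_mem' hUn ht hw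
      have e1 : t * (w⁻¹ * w') * t⁻¹ * (w⁻¹ * w')⁻¹ = (t * w * t⁻¹)⁻¹ * (t * w' * t⁻¹) * w'⁻¹ * w := by group
      have e2 : t * w * t⁻¹ = (t * w * t⁻¹ * w⁻¹) * w := by group
      have e3 : t * w' * t⁻¹ = (t * w' * t⁻¹ * w'⁻¹) * w' := by group
      rw [e1, e2, e3, hww]
      have hq : t * w' * t⁻¹ * w'⁻¹ ∈ U := mul_mem (conj_mem' hUn ht hw') (inv_mem hw')
      generalize t * w' * t⁻¹ * w'⁻¹ = q
      group
  have k2 : 2 ≤ (centralizer (U : Set G)).relIndex E₁ := NO3S.Fld.two_le_relIndex htE₁ htne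
  have hoff₁ : OffM U E₁ :=
    ⟨⟨fun a ha => o.m.elem.sq a (hE₁E ha), fun a ha b hb => o.m.elem.comm a (hE₁E ha) b (hE₁E hb)⟩,
      fun h0 => htne (h0 htE₁), FFThm.relIndex_le_iff.2 (k1.trans k2)⟩
  have k3 := mo.min E₁ (hE₁E.trans mo.le) (mo.pg.to_le hE₁E) hoff₁
  have hEE : E ≤ E₁ := by
    have hle : E ⊓ centralizer (U : Set G) ≤ E₁ := fun g hg => ⟨hg.1, Or.inl hg.2⟩
    have k4 := relIndex_mul_of (H := centralizer (U : Set G)) hle hE₁E
    have p0 : 0 < (centralizer (U : Set G)).relIndex E₁ := by omega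
    have k5 : E₁.relIndex E ≤ 1 := by
      refine Nat.le_of_mul_le_mul_left (c := (centralizer (U : Set G)).relIndex E₁) ?_ p0
      rw [k4, mul_one]
      exact k3
    have p1 : 0 < E₁.relIndex E := Nat.pos_of_ne_zero index_ne_zero_of_finite
    exact relIndex_eq_one.1 (by omega)
  -- `Z = {1, d}`
  have hZd : Z ≤ zpowers d := o.mn _ fun e he w hw => by
    rcases (hEE he).2 with h1 | h1
    · have h2 := mem_centralizer_iff.1 h1 w hw
      rw [← h2, mul_inv_cancel_right, mul_inv_cancel]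
      exact one_mem _
    · have h2 := mem_centralizer_iff.1 h1 w hw
      have e1 : e * w * e⁻¹ * w⁻¹ = t * (t⁻¹ * e * w) * (t⁻¹ * e)⁻¹ * t⁻¹ * w⁻¹ := by group
      have e2 : t * (w * (t⁻¹ * e)) * (t⁻¹ * e)⁻¹ * t⁻¹ * w⁻¹ = t * w * t⁻¹ * w⁻¹ := by group
      rw [e1, ← h2, e2]
      rcases htU w hw with h3 | h3
      · rw [h3]; exact one_mem _
      · rw [h3]; exact mem_zpowers d
  have hdZ : d ∈ Z := by
    by_contra hcon
    apply htne
    refine mem_centralizer_iff.2 fun w hw => ?_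
    rcases htU w hw with h3 | h3
    · have e1 : t * w = (t * w * t⁻¹ * w⁻¹) * w * t := by group
      rw [e1, h3, one_mul]
    · exact absurd (h3 ▸ o.com t ht w hw) hcon
  have hTd : ∀ g ∈ T, g * d * g⁻¹ = d := by
    intro g hg
    have h1 := hZd (conj_mem' o.TZ hg hdZ)
    obtain ⟨n, hn⟩ := mem_zpowers_iff.1 h1
    rcases Int.even_or_odd n with ⟨r, hr⟩ | ⟨r, hr⟩
    · exfalso
      have h2 : g * d * g⁻¹ = 1 := by
        rw [← hn, hr, ← two_mul, zpow_mul]
        have : d ^ (2 : ℤ) = 1 := by rw [zpow_ofNat, pow_two]; exact hdd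
        rw [this, one_zpow]
      apply hd1
      have e1 : d = g⁻¹ * (g * d * g⁻¹) * g := by group
      rw [e1, h2]
      group
    · rw [← hn, hr, zpow_add, zpow_mul, zpow_one]
      have : d ^ (2 : ℤ) = 1 := by rw [zpow_ofNat, pow_two]; exact hdd
      rw [this, one_zpow, one_mul]
  -- a fourth point
  obtain ⟨z, hz0, hzx, hzy⟩ : ∃ z : Fin (2 ^ m + 1), z ≠ 0 ∧ z ≠ x ∧ z ≠ y := by
    by_contra hcon
    push Not at hcon
    have h1 : (Finset.univ : Finset (Fin (2 ^ m + 1))) ⊆ {0, x, y} := by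
      intro w _
      by_cases hw0 : w = 0
      · simp [hw0]
      by_cases hwx : w = x
      · simp [hwx]
      · have := hcon w hw0 hwx
        simp [this]
    have h2 := Finset.card_le_card h1
    rw [Finset.card_univ, Fintype.card_fin] at h2
    have h3 : ({0, x, y} : Finset (Fin (2 ^ m + 1))).card ≤ 3 := Finset.card_le_three
    have h4 : 2 ^ 2 ≤ 2 ^ m := Nat.pow_le_pow_right (by norm_num) hm
    omega
  obtain ⟨g, hg, π, hgd, hπ⟩ := NO3S.OneLine.cyc_T' o.hm N.toSymK h (by omega) i hx0 hz0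
  have h1 := h.u_conj (hTH hg) hgd.act i x y
  rw [Equiv.Perm.one_apply, Pi.mulSingle_eq_same, hπ, ← hd, hTd g hg] at h1
  rcases (h.u_inj hxy (hd ▸ h1)).2 with ⟨h4, -⟩ | ⟨-, h4⟩
  · exact hzx h4.symm
  · exact hzy h4.symm

end sym

/-- **(i2)** -/
theorem oneY (hFF : StmtM.{u}) : ∃ c ∈ Q, ∃ u ∈ U, c * u * c⁻¹ * u⁻¹ ∈ Z ∧ c * u * c⁻¹ * u⁻¹ ≠ 1 := by
  obtain ⟨noV, con⟩ := hFF G T Y o.syl o.min o.c2 ⟨E, o.ET.trans o.TY, o.off⟩
  rcases con with ⟨F, _, _, _, k, hk, ⟨N⟩⟩ | ⟨k, m, hk, hm, ⟨N⟩⟩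
  · exact o.nat noV N hk
  · exact (o.sym noV N hk hm).elim

end OY

/-- **the field `oneY` of `Sit`** -/
theorem oneY_of (hFF : StmtM.{u}) (Uc : U ≤ centralizer (U : Set G)) (Us : ∀ u ∈ U, u ^ 2 = 1)
    (HU : H ≤ normalizer (U : Set G)) (syl : Syl T Y) (min : IsMinPar T Y)
    (c2 : Y ⊓ centralizer (o2 Y : Set G) ≤ o2 Y) (mv : ¬ Y ≤ centralizer (zc T : Set G)) (YH : Y ≤ H)
    (VU : zl T Y ≤ U) (QT : Q ≤ T) (QZ : Q ≤ centralizer (Z : Set G)) (QY : ¬ Q ≤ o2 Y)
    (TZ : T ≤ normalizer (Z : Set G)) : ∀ E ≤ T, MaxMin U H E → ¬ E ≤ o2 Y → CommIn E U Z →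
      (∀ Z' : Subgroup G, CommIn E U Z' → Z ≤ Z') →
        ∃ c ∈ Q, ∃ u ∈ U, c * u * c⁻¹ * u⁻¹ ∈ Z ∧ c * u * c⁻¹ * u⁻¹ ≠ 1 :=
  fun E hE m hEY com mn => OY.oneY (E := E)
    { Uc := Uc, Us := Us, HU := HU, syl := syl, min := min, c2 := c2, mv := mv, YH := YH, VU := VU, QT := QT, QZ := QZ,
      QY := QY, TZ := TZ, ET := hE, m := m, EY := hEY, com := com, mn := mn } hFF

end Cfsg.Agent.Omega.CaseLQ
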