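import Cfsg.Agent.Omega.CaseLQ.FiveSit
import Cfsg.Agent.Omega.CaseLQ.OneY
import Cfsg.Agent.Omega.NO3S.WY.Loc
import Cfsg.Agent.Omega.Node.NoWFiveSel
import Cfsg.Agent.Omega.NO3S.LightB.Facts

/-!
# One `S₅`, the weird parabolics: the local module and the extremal class (#24136 (0), (i))

`CaseL S P`, `FiveL S P p`, `T = Std.T S p = BB S P`, `WY S P T Y`, `Y ≤ C_G(n)`; `X = XT S P p`, `H = X Y`,
`U = ⟨Ω₁(Z(T))^H⟩`, `R = Λ = ⟨n⟩`.

* `FS S P p Y` : this situation;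
* `FS.lmd`, `FS.loc` : `LMd S P T Y ⟨n⟩ H U`, `Loc ..`; `FS.Vt_le_U`;
* `FS.sit` : `CaseLQ.Sit H U T (o2 P) (Vt p) ⟨a⟩ ⟨n⟩ X Y`;
* **`FS.exists_E`** : all `MaxMin U H E`, `E ≤ T` centralise `V_τ`; one of them is not in `O₂(Y)`.
-/

set_option autoImplicit false
set_option linter.unusedSectionVars false

namespace Cfsg.Agent.Omega.CaseLQ.FiveI

open Subgroup Cfsg Cfsg.Agent.ZN Cfsg.Agent.ZN.ChoiceBase
open Cfsg.Agent.ZN.ChoiceSit (Syl)
open Cfsg.Agent.Omega.MinPar (IsParS)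
open Cfsg.Agent.Omega.FFThm (OffM ElemM StmtM)
open Cfsg.Agent.Omega.NTwo
open Cfsg.Agent.Omega.NO3S.Level (nxt CaseL)
open Cfsg.Agent.Omega.NO3S.RedC (MaxMin DX GX)
open Cfsg.Agent.Omega.NO3S.WY
open Cfsg.Agent.Omega.NO3S.Sym.Light (FiveL)
open Cfsg.Agent.Omega.NO3b.EZero (cl cj_le_cl le_cl cl_le le_normalizer_cl cent_symm cj_cent)
open Cfsg.Agent.Omega.NO1.BestOff (Best)

universe u

variable {G : Type u} [Group G] [Finite G]

/-- **The situation.** -/
structure FS (S : Sylow 2 G) (P : Subgroup G) (p : Fin 5 → G) (Y : Subgroup G) : Prop where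
  five : FiveL S P p
  bb : BB (S : Subgroup G) P = Std.T (S : Subgroup G) p
  wy : WY S P (Std.T (S : Subgroup G) p) Y
  cen : Y ≤ centralizer ({nn p} : Set G)

/-- `H = X Y` -/
abbrev HH (S P : Subgroup G) (p : Fin 5 → G) (Y : Subgroup G) : Subgroup G := XT S P p ⊔ Y

/-- `U = ⟨Ω₁(Z(T))^H⟩` -/
abbrev UU (S P : Subgroup G) (p : Fin 5 → G) (Y : Subgroup G) : Subgroup G := ZN.zl (Std.T S p) (HH S P p Y)

namespace FS

variable {S : Sylow 2 G} {P : Subgroup G} {p : Fin 5 → G} {Y : Subgroup G} (f : FS S P p Y)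
include f

theorem T2 : IsPGroup 2 (Std.T (S : Subgroup G) p) := S.isPGroup'.to_le Std.T_le

theorem n_zc : nn p ∈ zc (Std.T (S : Subgroup G) p) := f.five.std.mem_zcT.2 (Or.inr (Or.inl rfl))

theorem a_zc : aa p ∈ zc (Std.T (S : Subgroup G) p) := f.five.std.mem_zcT.2 (Or.inr (Or.inr (Or.inl rfl)))

/-- `n ∈ Z_J` -/
theorem n_ZJ : nn p ∈ NO3S.WY.ZJ (S : Subgroup G) P := by
  have h1 : OM.SwapK.WL S (o2 P) := OM.SwapK.WL.of_top (Node.MulG.top_caseL f.wy.cl)
  have h2 := h1.zc_B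
  have h3 : OM.SwapK.BK (S : Subgroup G) (o2 P) = Std.T (S : Subgroup G) p := f.bb
  have h4 := f.n_zc
  rw [← h3, h2] at h4
  exact h4

theorem T_X : Std.T (S : Subgroup G) p ≤ XT (S : Subgroup G) P p := T_XT f.five

theorem X_C : XT (S : Subgroup G) P p ≤ centralizer (zpowers (nn p) : Set G) := by
  rw [le_centralizer_iff, zpowers_le]
  exact mem_centralizer_iff.2 fun x hx => by
    have := mem_centralizer_singleton_iff.1 (XT_n hx)
    exact this

theorem Y_C : Y ≤ centralizer (zpowers (nn p) : Set G) := by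
  rw [le_centralizer_iff, zpowers_le]
  exact mem_centralizer_iff.2 fun x hx => mem_centralizer_singleton_iff.1 (f.cen hx)

theorem cent_eq : centralizer (zpowers (nn p) : Set G) = centralizer ({nn p} : Set G) := by
  apply le_antisymm
  · exact centralizer_le (Set.singleton_subset_iff.2 (mem_zpowers _))
  · rw [le_centralizer_iff, zpowers_le]
    exact mem_centralizer_iff.2 fun x hx => mem_centralizer_singleton_iff.1 hx

theorem X_Q : XT (S : Subgroup G) P p ≤ normalizer (o2 P : Set G) := XT_P.trans (ZN.le_normalizer_o2 P)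

theorem X_GX : XT (S : Subgroup G) P p ≤ GX (S : Subgroup G) P Y :=
  f.X_Q.trans (f.wy.NT_le (NO3S.RedC.DX_le_P _ _ _) f.wy.o2P_le)

theorem n_ne : zpowers (nn p) ≠ (⊥ : Subgroup G) := fun h => f.five.std.n_ne_one (zpowers_eq_bot.1 h)

/-- **The local module.** -/
theorem lmd : LMd S P (Std.T (S : Subgroup G) p) Y (zpowers (nn p)) (HH (S : Subgroup G) P p Y)
    (UU (S : Subgroup G) P p Y) :=
  LMd.zl f.wy f.bb.le (zpowers_le.2 f.n_ZJ) f.n_ne (by
    rw [f.cent_eq]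
    exact Node.ELXUni.syl_T f.five inf_le_right le_rfl) (f.T_X.trans le_sup_left) le_sup_right
    (sup_le f.X_GX f.wy.Y_le) (sup_le f.X_C f.Y_C)

theorem loc : Loc S P (Std.T (S : Subgroup G) p) Y (zpowers (nn p)) (HH (S : Subgroup G) P p Y)
    (UU (S : Subgroup G) P p Y) := f.lmd.toLoc

theorem a_U : aa p ∈ UU (S : Subgroup G) P p Y := MinSimple.VModule.zc_le_zl _ _ f.a_zc

theorem n_U : nn p ∈ UU (S : Subgroup G) P p Y := MinSimple.VModule.zc_le_zl _ _ f.n_zc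

theorem H_U : HH (S : Subgroup G) P p Y ≤ normalizer (UU (S : Subgroup G) P p Y : Set G) := f.lmd.Un

theorem Vt_le_U : Vt p ≤ UU (S : Subgroup G) P p Y := by
  have hmv : ∀ x ∈ XT (S : Subgroup G) P p, ∀ u ∈ UU (S : Subgroup G) P p Y,
      x * u * x⁻¹ ∈ UU (S : Subgroup G) P p Y := fun x hx u hu =>
    (mem_normalizer_iff.1 (f.H_U ((le_sup_left : XT (S : Subgroup G) P p ≤ _) hx)) u).1 hu
  obtain ⟨x, hx, hσ⟩ := XT_full f.five (σ := Equiv.swap 3 4) (by decide) (by decide)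
  have h24 : p 2 * p 4 ∈ UU (S : Subgroup G) P p Y := by
    have h1 := hmv x hx _ f.a_U
    have h2 : x * (p 2 * p 3) * x⁻¹ = p 2 * p 4 := hσ 2 3 (by decide) (by decide) (by decide)
    rwa [show x * aa p * x⁻¹ = p 2 * p 4 from h2] at h1
  rw [Vt, closure_le]
  rintro _ (rfl | rfl)
  · exact f.a_U
  · exact h24

/-- `C_U(T) ≤ ⟨a⟩⟨n⟩` -/
theorem fix : UU (S : Subgroup G) P p Y ⊓ centralizer (Std.T (S : Subgroup G) p : Set G) ≤
    zpowers (aa p) ⊔ zpowers (nn p) := by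
  refine f.loc.cUT.trans fun x hx => ?_
  rcases f.five.std.mem_zcT.1 hx with rfl | rfl | rfl | rfl
  · exact one_mem _
  · exact mem_sup_right (mem_zpowers _)
  · exact mem_sup_left (mem_zpowers _)
  · rw [← f.five.std.an]
    exact mul_mem (mem_sup_left (mem_zpowers _)) (mem_sup_right (mem_zpowers _))

/-- `Y` moves `⟨a⟩` -/
theorem mv : ¬ Y ≤ normalizer (zpowers (aa p) : Set G) := by
  intro h1
  apply f.wy.mv
  have h2 : Y ≤ centralizer ({aa p} : Set G) := fun y hy => mem_cent.2 (by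
    have h3 := (mem_normalizer_iff.1 (h1 hy) (aa p)).1 (mem_zpowers _)
    rcases (mem_za f.five).1 h3 with e | e
    · exfalso
      apply f.five.std.a_ne_one
      calc aa p = y⁻¹ * (y * aa p * y⁻¹) * y := by group
        _ = 1 := by rw [e]; group
    · exact e)
  intro y hy
  have hn := mem_cent.1 (f.cen hy)
  have ha := mem_cent.1 (h2 hy)
  refine mem_centralizer_iff.2 fun x hx => ?_
  rcases f.five.std.mem_zcT.1 hx with rfl | rfl | rfl | rfl
  · simp
  · exact (comm_iff.1 hn).symm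
  · exact (comm_iff.1 ha).symm
  · refine (comm_iff.1 ?_).symm
    rw [← f.five.std.an, cm, hn, ha]

theorem Vt_V : Vt p ≤ zl (S : Subgroup G) P := by
  rw [Vt, closure_le]
  rintro _ (rfl | rfl)
  · exact mul_mem (f.five.p_mem 2) (f.five.p_mem 3)
  · exact mul_mem (f.five.p_mem 2) (f.five.p_mem 4)

theorem QVt : o2 P ≤ centralizer (Vt p : Set G) := fun q hq => mem_centralizer_iff.2 fun v hv =>
  (NO3S.MFive.Inst.VcQ f.five hq (f.Vt_V hv)).symm

/-- **`Sit`** -/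
theorem sit : Sit (HH (S : Subgroup G) P p Y) (UU (S : Subgroup G) P p Y) (Std.T (S : Subgroup G) p) (o2 P) (Vt p)
    (zpowers (aa p)) (zpowers (nn p)) (XT (S : Subgroup G) P p) Y where
  Uc := f.loc.Uc
  Us := f.loc.Us
  HU := f.H_U
  TH := f.T_X.trans le_sup_left
  T2 := f.T2
  QT := f.wy.QT
  TZ := fun x hx => by
    rw [mem_normalizer_iff_cj]
    refine Subgroup.eq_of_le_of_card_ge ?_ (card_cj _ _).ge
    rintro _ ⟨v, hv, rfl⟩
    show x * v * x⁻¹ ∈ zpowers (aa p)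
    rcases (mem_za f.five).1 hv with rfl | rfl
    · simp
    · rw [f.five.std.T_a hx]; exact mem_zpowers _
  UT := f.loc.UT
  NU := f.Vt_le_U
  QN := f.QVt
  ZN := za_Vt f.five
  Zne := fun h => f.five.std.a_ne_one (zpowers_eq_bot.1 h)
  card := by rw [card_a f.five, card_Vt f.five.std.toFv]; norm_num
  PH := le_sup_left
  TP := f.T_X
  PN := XT_norm f.five
  PQ := f.X_Q
  PC := inf_le_right
  YH := le_sup_right
  TY := f.wy.T_Y
  oY := f.wy.o2Y_T
  mv := f.mv
  HL := sup_le f.X_C f.Y_C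
  fix := f.fix
  noN := fun E hE _ hne => noN f.five hE hne
  lineN := fun E hE ho => lineN f.five hE ho.ne
  irrN := fun E hE ho K hK hn => irrN f.five hE ho.ne hK hn
  oneY := oneY_of FF.Glob.ffthmM f.loc.Uc f.loc.Us f.H_U f.wy.syl f.wy.min f.wy.c2 f.wy.mv le_sup_right
    (ZN.zl_le (MinSimple.VModule.zc_le_zl _ _) (le_sup_right.trans f.H_U)) f.wy.QT
    (f.QVt.trans (centralizer_le (za_Vt f.five))) f.wy.nQ fun x hx => by
      rw [mem_normalizer_iff_cj]
      refine Subgroup.eq_of_le_of_card_ge ?_ (card_cj _ _).ge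
      rintro _ ⟨v, hv, rfl⟩
      show x * v * x⁻¹ ∈ zpowers (aa p)
      rcases (mem_za f.five).1 hv with rfl | rfl
      · simp
      · rw [f.five.std.T_a hx]; exact mem_zpowers _

/-- some best offender in `T` moves `U` -/
theorem exists_off : ∃ A ≤ HH (S : Subgroup G) P p Y, OffM (UU (S : Subgroup G) P p Y) A := by
  obtain ⟨A, hA, hB, hne⟩ := f.lmd.exists_best fun A hA hP => by
    obtain ⟨s, hs, h1⟩ := exists_s f.five hA hP
    exact ⟨s, hs, fun hc => h1 (hc.trans (centralizer_le f.Vt_le_U))⟩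
  exact ⟨A, hA.trans (f.T_X.trans le_sup_left), hB.offM le_rfl hne⟩

theorem sylH : Syl (Std.T (S : Subgroup G) p) (HH (S : Subgroup G) P p Y) :=
  Node.ELXUni.syl_T f.five (f.T_X.trans le_sup_left) ((sup_le f.X_C f.Y_C).trans f.cent_eq.le)

/-- **(0), (i)** -/
theorem exists_E : (∀ E, MaxMin (UU (S : Subgroup G) P p Y) (HH (S : Subgroup G) P p Y) E →
      E ≤ Std.T (S : Subgroup G) p → E ≤ centralizer (Vt p : Set G)) ∧
    ∃ E, MaxMin (UU (S : Subgroup G) P p Y) (HH (S : Subgroup G) P p Y) E ∧ E ≤ Std.T (S : Subgroup G) p ∧ ¬ E ≤ o2 Y := by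
  refine (f.sit.toC f.wy.syl).exists_E f.sylH f.exists_off fun A hA _ hX hY => ?_
  have hn : HH (S : Subgroup G) P p Y ≤ normalizer (centralizer (A : Set G) : Set G) := norm_cent (sup_le hX hY)
  rw [le_centralizer_iff]
  refine ZN.zl_le ?_ hn
  intro v hv
  exact mem_centralizer_iff.2 fun x hx => (ChoiceBase.mem_zc.1 hv).2.2 x (hA hx)

end FS

end Cfsg.Agent.Omega.CaseLQ.FiveI
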