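import Cfsg.Agent.Omega.NO3S.MFive.Inst
import Cfsg.Agent.Omega.CaseLQ.GlueC
import Cfsg.Agent.Omega.Node.ELXUni
import Cfsg.Agent.MinSimple.LemXPerm
import Cfsg.Agent.Omega.NO3S.Fld.FourBase
import Cfsg.Agent.Omega.NO3S.Fld.TrBest

/-!
# One `S₅`, the weird parabolics: `T = C_S(n)`, `V_τ = ⟨p 2 p 3, p 2 p 4⟩`, `τ = {2, 3, 4}`

`FiveL S P p`, `n = nn p`, `a = aa p`, `T = Std.T S p`, `V_τ = Vt p`, `X = XT S P p = P ∩ C(n) ∩ N(C_T(V_τ))`.

* `mem_Vt`, `card_Vt`;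
* `T_XT`, `XT_P`, `XT_n`, `XT_norm` (`X ≤ N(V_τ)`), `XT_full` : `X` induces `Sym(τ)` on `V_τ`;
* `act_t` : `T` acts on `V_τ` as `⟨(2 3)⟩`; `noN`, `lineN`, `irrN` : the fields of `CaseLQ.Sit`;
* `exists_s` : every `A ≤ S`, `A ≰ O₂(P)` has an `S`-conjugate which moves `V_τ`.
-/

set_option autoImplicit false
set_option linter.unusedSectionVars false

namespace Cfsg.Agent.Omega.CaseLQ.FiveI

open Subgroup Cfsg Cfsg.Agent.ZN.ChoiceBase
open Cfsg.Agent.ZN.ChoiceSit (Syl)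
open Cfsg.Agent.ZN (zc zl o2)
open Cfsg.Agent.Omega.FFThm (OffM ElemM)
open Cfsg.Agent.Omega.NTwo
open Cfsg.Agent.Omega.NO3S.Sym.Light (FiveL)
open Cfsg.Agent.Omega.NO3b.EZero (cl cj_le_cl le_cl cl_le le_normalizer_cl cent_symm cj_cent)

universe u

variable {G : Type u} [Group G]

/-- `V_τ`, `τ = {2, 3, 4}` -/
def Vt (p : Fin 5 → G) : Subgroup G := closure {p 2 * p 3, p 2 * p 4}

theorem mem_cl4 {a b x : G} (ha : a * a = 1) (hb : b * b = 1) (hab : a * b = b * a) :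
    x ∈ closure ({a, b} : Set G) ↔ x = 1 ∨ x = a ∨ x = b ∨ x = a * b := by
  have h1 : closure ({a, b} : Set G) = kl a b ha hb hab := by
    apply le_antisymm
    · rw [closure_le]
      rintro y (rfl | rfl)
      · exact Or.inr (Or.inl rfl)
      · exact Or.inr (Or.inr (Or.inl rfl))
    · rintro y (rfl | rfl | rfl | rfl)
      · exact one_mem _
      · exact subset_closure (Or.inl rfl)
      · exact subset_closure (Or.inr rfl)
      · exact mul_mem (subset_closure (Or.inl rfl)) (subset_closure (Or.inr rfl))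
  rw [h1]
  exact Iff.rfl

section fv

variable {P : Subgroup G} {p : Fin 5 → G} (h : Fv P p)
include h

theorem pair_sq (i j : Fin 5) : p i * p j * (p i * p j) = 1 := by
  rw [mul_assoc, ← mul_assoc (p j), h.comm j i, mul_assoc (p i), h.sq, mul_one, h.sq]

theorem pair_cm (i j k l : Fin 5) : p i * p j * (p k * p l) = p k * p l * (p i * p j) := by
  have e1 : p i * p j * p k = p k * (p i * p j) := by
    rw [mul_assoc, h.comm j k, ← mul_assoc, h.comm i k, mul_assoc]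
  have e2 : p i * p j * p l = p l * (p i * p j) := by
    rw [mul_assoc, h.comm j l, ← mul_assoc, h.comm i l, mul_assoc]
  rw [← mul_assoc, e1, mul_assoc (p k), e2, ← mul_assoc]

theorem pair_mul (i j k : Fin 5) : p i * p j * (p i * p k) = p j * p k := by
  calc p i * p j * (p i * p k) = p i * (p j * p i) * p k := by group
    _ = p i * (p i * p j) * p k := by rw [h.comm j i]
    _ = (p i * p i) * p j * p k := by group
    _ = p j * p k := by rw [h.sq, one_mul]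

theorem mem_Vt {x : G} : x ∈ Vt p ↔ x = 1 ∨ x = p 2 * p 3 ∨ x = p 2 * p 4 ∨ x = p 3 * p 4 := by
  rw [Vt, mem_cl4 (pair_sq h 2 3) (pair_sq h 2 4) (pair_cm h 2 3 2 4), pair_mul h]

theorem pair_mem {k l : Fin 5} (hk : 2 ≤ k) (hl : 2 ≤ l) (hkl : k ≠ l) : p k * p l ∈ Vt p := by
  have key : ∀ k l : Fin 5, 2 ≤ k → 2 ≤ l → k ≠ l → (k = 2 ∧ l = 3) ∨ (k = 3 ∧ l = 2) ∨ (k = 2 ∧ l = 4) ∨
      (k = 4 ∧ l = 2) ∨ (k = 3 ∧ l = 4) ∨ (k = 4 ∧ l = 3) := by decide
  rw [mem_Vt h]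
  rcases key k l hk hl hkl with ⟨rfl, rfl⟩ | ⟨rfl, rfl⟩ | ⟨rfl, rfl⟩ | ⟨rfl, rfl⟩ | ⟨rfl, rfl⟩ | ⟨rfl, rfl⟩
  · exact Or.inr (Or.inl rfl)
  · exact Or.inr (Or.inl (h.comm _ _))
  · exact Or.inr (Or.inr (Or.inl rfl))
  · exact Or.inr (Or.inr (Or.inl (h.comm _ _)))
  · exact Or.inr (Or.inr (Or.inr rfl))
  · exact Or.inr (Or.inr (Or.inr (h.comm _ _)))

/-- an element which acts as `σ` and preserves `τ` normalises `V_τ` -/
theorem norm_Vt_of {g : G} {σ : Equiv.Perm (Fin 5)} (hσ : ∀ i, g * p i * g⁻¹ = p (σ i)) (h0 : σ 0 = 0 ∨ σ 0 = 1)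
    (h1 : σ 1 = 0 ∨ σ 1 = 1) {x : G} (hx : x ∈ Vt p) : g * x * g⁻¹ ∈ Vt p := by
  have key : ∀ σ : Equiv.Perm (Fin 5), (σ 0 = 0 ∨ σ 0 = 1) → (σ 1 = 0 ∨ σ 1 = 1) → ∀ i : Fin 5, 2 ≤ i → 2 ≤ σ i := by
    decide +kernel
  have hc : ∀ i j : Fin 5, i ≠ j → 2 ≤ i → 2 ≤ j → g * (p i * p j) * g⁻¹ ∈ Vt p := fun i j hij hi hj => by
    rw [cm, hσ, hσ]
    exact pair_mem h (key σ h0 h1 i hi) (key σ h0 h1 j hj) fun e => hij (σ.injective e)
  rcases (mem_Vt h).1 hx with rfl | rfl | rfl | rfl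
  · simp
  · exact hc 2 3 (by decide) (by decide) (by decide)
  · exact hc 2 4 (by decide) (by decide) (by decide)
  · exact hc 3 4 (by decide) (by decide) (by decide)

theorem card_Vt : Nat.card (Vt p) = 4 := by
  have hne1 : p 2 * p 3 ≠ 1 := h.mul_ne_one (by decide)
  have hne2 : p 2 * p 4 ≠ 1 := h.mul_ne_one (by decide)
  have hne3 : p 3 * p 4 ≠ 1 := h.mul_ne_one (by decide)
  have e12 : p 2 * p 3 ≠ p 2 * p 4 := fun e => absurd (h.inj (mul_left_cancel e)) (by decide)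
  have e23 : p 2 * p 4 ≠ p 3 * p 4 := fun e => absurd (h.inj (mul_right_cancel e)) (by decide)
  have e13 : p 2 * p 3 ≠ p 3 * p 4 := fun e => by
    rw [h.comm 2 3] at e
    exact absurd (h.inj (mul_left_cancel e)) (by decide)
  have hs : ((Vt p : Subgroup G) : Set G) = {1, p 2 * p 3, p 2 * p 4, p 3 * p 4} := by
    ext x
    exact mem_Vt h
  have h1 : Nat.card (Vt p) = Set.ncard ((Vt p : Subgroup G) : Set G) := rfl
  rw [h1, hs, Set.ncard_insert_of_notMem (by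
    rintro (e | e | e)
    · exact hne1 e.symm
    · exact hne2 e.symm
    · exact hne3 e.symm), Set.ncard_insert_of_notMem (by
    rintro (e | e)
    · exact e12 e
    · exact e13 e), Set.ncard_pair e23]

end fv

/-- `X = P ∩ C(n) ∩ N(C_T(V_τ))` -/
def XT (S P : Subgroup G) (p : Fin 5 → G) : Subgroup G :=
  P ⊓ centralizer ({nn p} : Set G) ⊓ normalizer ((Std.T S p ⊓ centralizer (Vt p : Set G) : Subgroup G) : Set G)

section five

variable [Finite G] {S : Sylow 2 G} {P : Subgroup G} {p : Fin 5 → G} (h : FiveL S P p)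
include h

theorem perm_n {g : G} (hg : g ∈ P) (hn : g ∈ centralizer ({nn p} : Set G)) :
    ∃ σ : Equiv.Perm (Fin 5), (∀ i, g * p i * g⁻¹ = p (σ i)) ∧ (σ 0 = 0 ∨ σ 0 = 1) ∧ (σ 1 = 0 ∨ σ 1 = 1) := by
  obtain ⟨σ, hσ⟩ := h.std.perm g hg
  refine ⟨σ, hσ, ?_⟩
  have h2 := mem_cent.1 hn
  rw [nn, cm, hσ, hσ] at h2
  rcases h.std.pair_inj (fun e => absurd (σ.injective e) (by decide)) (by decide) h2 with ⟨e1, e2⟩ | ⟨e1, e2⟩
  · exact ⟨Or.inl e1, Or.inr e2⟩
  · exact ⟨Or.inr e1, Or.inl e2⟩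

theorem C_norm_Vt : P ⊓ centralizer ({nn p} : Set G) ≤ normalizer (Vt p : Set G) := by
  have key : ∀ g ∈ P ⊓ centralizer ({nn p} : Set G), ∀ x ∈ Vt p, g * x * g⁻¹ ∈ Vt p := fun g hg x hx => by
    obtain ⟨σ, hσ, h0, h1⟩ := perm_n h hg.1 hg.2
    exact norm_Vt_of h.std.toFv hσ h0 h1 hx
  intro g hg
  rw [mem_normalizer_iff]
  refine fun x => ⟨key g hg x, fun hx => ?_⟩
  have h1 := key g⁻¹ (inv_mem hg) _ hx
  have e : g⁻¹ * (g * x * g⁻¹) * g⁻¹⁻¹ = x := by group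
  rwa [e] at h1

theorem T_C : Std.T (S : Subgroup G) p ≤ P ⊓ centralizer ({nn p} : Set G) :=
  le_inf (Std.T_le.trans h.std.le) inf_le_right

theorem T_norm_Vt : Std.T (S : Subgroup G) p ≤ normalizer (Vt p : Set G) := (T_C h).trans (C_norm_Vt h)

omit h in
theorem norm_cent {K V : Subgroup G} (hK : K ≤ normalizer (V : Set G)) :
    K ≤ normalizer (centralizer (V : Set G) : Set G) := by
  intro k hk
  rw [mem_normalizer_iff_cj, cj_centralizer, cj_eq_of_mem_normalizer (hK hk)]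

theorem T_XT : Std.T (S : Subgroup G) p ≤ XT (S : Subgroup G) P p := by
  refine le_inf (T_C h) fun x hx => ?_
  rw [mem_normalizer_iff_cj, cj_inf, cj_eq_of_mem_normalizer (le_normalizer hx :
    x ∈ normalizer ((Std.T (S : Subgroup G) p : Subgroup G) : Set G)), cj_centralizer,
    cj_eq_of_mem_normalizer (T_norm_Vt h hx)]

omit h in
theorem XT_P : XT (S : Subgroup G) P p ≤ P := inf_le_left.trans inf_le_left

omit h in
theorem XT_n : XT (S : Subgroup G) P p ≤ centralizer ({nn p} : Set G) := inf_le_left.trans inf_le_right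

theorem XT_norm : XT (S : Subgroup G) P p ≤ normalizer (Vt p : Set G) := inf_le_left.trans (C_norm_Vt h)

theorem syl_TC : Syl (Std.T (S : Subgroup G) p) (P ⊓ centralizer ({nn p} : Set G)) :=
  Node.ELXUni.syl_T h (T_C h) inf_le_right

/-- `X` induces `Sym(τ)` on `V_τ` -/
theorem XT_full {σ : Equiv.Perm (Fin 5)} (h0 : σ 0 = 0) (h1 : σ 1 = 1) : ∃ x ∈ XT (S : Subgroup G) P p,
    ∀ i j : Fin 5, 2 ≤ i → 2 ≤ j → i ≠ j → x * (p i * p j) * x⁻¹ = p (σ i) * p (σ j) := by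
  obtain ⟨g, hg, hσ⟩ := h.std.full σ
  have hgn : g ∈ centralizer ({nn p} : Set G) := mem_cent.2 (by rw [nn, cm, hσ, hσ, h0, h1])
  have hgC : g ∈ P ⊓ centralizer ({nn p} : Set G) := ⟨hg, hgn⟩
  have hL : P ⊓ centralizer ({nn p} : Set G) ≤
      normalizer ((P ⊓ centralizer ({nn p} : Set G) ⊓ centralizer (Vt p : Set G) : Subgroup G) : Set G) := by
    intro x hx
    rw [mem_normalizer_iff_cj, cj_inf, cj_eq_of_mem_normalizer (le_normalizer hx :
      x ∈ normalizer ((P ⊓ centralizer ({nn p} : Set G) : Subgroup G) : Set G)), cj_centralizer,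
      cj_eq_of_mem_normalizer (C_norm_Vt h hx)]
  obtain ⟨l, hl, n, hn, e⟩ := MinSimple.LemXPerm.exists_frattini (T_C h) (syl_TC h).2.1
    (ZN.ChoiceSit.syl_not_dvd (syl_TC h)) hL hgC
  have e1 : Std.T (S : Subgroup G) p ⊓ (P ⊓ centralizer ({nn p} : Set G) ⊓ centralizer (Vt p : Set G)) =
      Std.T (S : Subgroup G) p ⊓ centralizer (Vt p : Set G) := by
    rw [← inf_assoc, inf_eq_left.2 (T_C h)]
  rw [e1] at hn
  refine ⟨n, hn, fun i j hi hj hij => ?_⟩
  have key : ∀ σ : Equiv.Perm (Fin 5), σ 0 = 0 → σ 1 = 1 → ∀ i : Fin 5, 2 ≤ i → 2 ≤ σ i := by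
    decide +kernel
  have hv : g * (p i * p j) * g⁻¹ = p (σ i) * p (σ j) := by rw [cm, hσ, hσ]
  have hm : p (σ i) * p (σ j) ∈ Vt p :=
    pair_mem h.std.toFv (key σ h0 h1 i hi) (key σ h0 h1 j hj) fun e => hij (σ.injective e)
  have hc : p (σ i) * p (σ j) * l = l * (p (σ i) * p (σ j)) := mem_centralizer_iff.1 hl.2 _ hm
  have hn' : n = l⁻¹ * g := by rw [e]; group
  calc n * (p i * p j) * n⁻¹ = l⁻¹ * (g * (p i * p j) * g⁻¹) * l := by rw [hn']; group
    _ = l⁻¹ * (p (σ i) * p (σ j) * l) := by rw [hv, mul_assoc]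
    _ = p (σ i) * p (σ j) := by rw [hc]; group

/-! ### the action of `T` on `V_τ` -/

theorem aa_Vt : aa p ∈ Vt p := (mem_Vt h.std.toFv).2 (Or.inr (Or.inl rfl))

/-- `T` acts on `V_τ` as `⟨(2 3)⟩` -/
theorem act_t {x : G} (hx : x ∈ Std.T (S : Subgroup G) p) : x ∈ centralizer (Vt p : Set G) ∨
    (x * (p 2 * p 4) * x⁻¹ = p 3 * p 4 ∧ x * (p 3 * p 4) * x⁻¹ = p 2 * p 4) := by
  have h4 := h.std.fix x (Std.T_le hx)
  rcases NO3S.MFive.Inst.T_two' h hx with ⟨h2, h3⟩ | ⟨h2, h3⟩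
  · left
    refine mem_centralizer_iff.2 fun v hv => ?_
    have hc : ∀ i j : Fin 5, x * p i * x⁻¹ = p i → x * p j * x⁻¹ = p j → p i * p j * x = x * (p i * p j) := by
      intro i j hi hj
      have e := cm x (p i) (p j)
      rw [hi, hj] at e
      exact (comm_iff.1 e).symm
    rcases (mem_Vt h.std.toFv).1 hv with rfl | rfl | rfl | rfl
    · simp
    · exact hc 2 3 h2 h3
    · exact hc 2 4 h2 h4
    · exact hc 3 4 h3 h4
  · right
    rw [cm, cm, h2, h3, h4]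
    exact ⟨rfl, rfl⟩

theorem comm_t {x : G} (hx : x ∈ Std.T (S : Subgroup G) p) (hxc : x ∉ centralizer (Vt p : Set G)) :
    x * (p 2 * p 4) * x⁻¹ * (p 2 * p 4)⁻¹ = aa p := by
  rw [((act_t h hx).resolve_left hxc).1, inv_eq_of_mul_eq_one_left (pair_sq h.std.toFv 2 4)]
  calc p 3 * p 4 * (p 2 * p 4) = p 3 * p 4 * (p 4 * p 2) := by rw [h.std.comm 2 4]
    _ = p 3 * (p 4 * p 4) * p 2 := by group
    _ = aa p := by rw [h.std.sq, mul_one, h.std.comm 3 2]

/-- `C_{V_τ}(x) = {1, a}` -/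
theorem fix_t {x : G} (hx : x ∈ Std.T (S : Subgroup G) p) (hxc : x ∉ centralizer (Vt p : Set G)) {v : G}
    (hv : v ∈ Vt p) (hxv : x * v = v * x) : v = 1 ∨ v = aa p := by
  obtain ⟨h24, h34⟩ := (act_t h hx).resolve_left hxc
  have e23 : p 2 * p 4 ≠ p 3 * p 4 := fun e => absurd (h.std.inj (mul_right_cancel e)) (by decide)
  rcases (mem_Vt h.std.toFv).1 hv with rfl | rfl | rfl | rfl
  · exact Or.inl rfl
  · exact Or.inr rfl
  · exact absurd ((comm_iff.2 hxv).symm.trans h24) e23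
  · exact absurd ((comm_iff.2 hxv).symm.trans h34) e23.symm

theorem two_t {x y : G} (hx : x ∈ Std.T (S : Subgroup G) p) (hy : y ∈ Std.T (S : Subgroup G) p)
    (hxc : x ∉ centralizer (Vt p : Set G)) (hyc : y ∉ centralizer (Vt p : Set G)) :
    x⁻¹ * y ∈ centralizer (Vt p : Set G) := by
  obtain ⟨h24, h34⟩ := (act_t h hx).resolve_left hxc
  obtain ⟨k24, k34⟩ := (act_t h hy).resolve_left hyc
  have hx3 := h.std.T_a hx
  have hy3 := h.std.T_a hy
  refine mem_centralizer_iff.2 fun v hv => ?_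
  have key : ∀ v w : G, x * w * x⁻¹ = y * v * y⁻¹ → w = v → v * (x⁻¹ * y) = x⁻¹ * y * v := by
    rintro v w e rfl
    have e1 : x⁻¹ * y * w * (x⁻¹ * y)⁻¹ = w := by
      calc x⁻¹ * y * w * (x⁻¹ * y)⁻¹ = x⁻¹ * (y * w * y⁻¹) * x := by group
        _ = x⁻¹ * (x * w * x⁻¹) * x := by rw [e]
        _ = w := by group
    exact (comm_iff.1 e1).symm
  rcases (mem_Vt h.std.toFv).1 hv with rfl | rfl | rfl | rfl
  · simp
  · exact key _ _ (hx3.trans hy3.symm) rfl
  · exact key _ _ (h24.trans k24.symm) rfl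
  · exact key _ _ (h34.trans k34.symm) rfl

theorem card_a : Nat.card (zpowers (aa p)) = 2 := by
  rw [Nat.card_zpowers]
  exact orderOf_eq_prime (by rw [pow_two]; exact h.std.asq) h.std.a_ne_one

theorem mem_za {x : G} : x ∈ zpowers (aa p) ↔ x = 1 ∨ x = aa p := by
  constructor
  · rintro ⟨k, rfl⟩
    have h1 : aa p ^ (2 : ℤ) = 1 := by
      have := h.std.asq
      rw [← pow_two] at this
      exact_mod_cast this
    rcases Int.even_or_odd k with ⟨m, hm⟩ | ⟨m, hm⟩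
    · left
      show aa p ^ k = 1
      rw [hm, ← two_mul, zpow_mul, h1, one_zpow]
    · right
      show aa p ^ k = aa p
      rw [hm, zpow_add, zpow_mul, h1, one_zpow, one_mul, zpow_one]
  · rintro (rfl | rfl)
    · exact one_mem _
    · exact mem_zpowers _

theorem za_Vt : zpowers (aa p) ≤ Vt p := zpowers_le.2 (aa_Vt h)

/-- `[T, V_τ] ≤ ⟨a⟩` -/
theorem comm_za {x v : G} (hx : x ∈ Std.T (S : Subgroup G) p) (hv : v ∈ Vt p) :
    x * v * x⁻¹ * v⁻¹ ∈ zpowers (aa p) := by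
  rcases act_t h hx with hc | ⟨h24, h34⟩
  · rw [← mem_centralizer_iff.1 hc v hv, mul_inv_cancel_right, mul_inv_cancel]
    exact one_mem _
  · have h23 := h.std.T_a hx
    rw [mem_za h]
    rcases (mem_Vt h.std.toFv).1 hv with rfl | rfl | rfl | rfl
    · left; simp
    · left
      rw [show x * (p 2 * p 3) * x⁻¹ = p 2 * p 3 from h23, mul_inv_cancel]
    · right
      exact comm_t h hx fun hc => by
        have e := comm_iff.2 (mem_centralizer_iff.1 hc _ ((mem_Vt h.std.toFv).2 (Or.inr (Or.inr (Or.inl rfl))))).symm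
        exact absurd (h.std.inj (mul_right_cancel (e.symm.trans h24))) (by decide)
    · right
      rw [h34, inv_eq_of_mul_eq_one_left (pair_sq h.std.toFv 3 4)]
      calc p 2 * p 4 * (p 3 * p 4) = p 2 * p 4 * (p 4 * p 3) := by rw [h.std.comm 3 4]
        _ = p 2 * (p 4 * p 4) * p 3 := by group
        _ = aa p := by rw [h.std.sq, mul_one]

theorem relIndex_le_two {E : Subgroup G} (hE : E ≤ Std.T (S : Subgroup G) p) :
    (centralizer (Vt p : Set G)).relIndex E ≤ 2 := by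
  have h24 : p 2 * p 4 ∈ Vt p := (mem_Vt h.std.toFv).2 (Or.inr (Or.inr (Or.inl rfl)))
  have h1 : (centralizer (Vt p : Set G)).relIndex E ≤ (⊥ : Subgroup G).relIndex (zpowers (aa p)) := by
    refine NO3S.Fld.relIndex_le_of_map (fun e => e * (p 2 * p 4) * e⁻¹ * (p 2 * p 4)⁻¹)
      (fun e he => comm_za h (hE he) h24) fun a ha b hb hab => ?_
    have e1 : a * (p 2 * p 4) * a⁻¹ = b * (p 2 * p 4) * b⁻¹ := by
      have := mem_bot.1 hab
      rw [inv_mul_eq_one] at this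
      exact mul_right_cancel this
    by_cases hac : a ∈ centralizer (Vt p : Set G)
    · by_cases hbc : b ∈ centralizer (Vt p : Set G)
      · exact mul_mem (inv_mem hac) hbc
      · exfalso
        have e2 := ((act_t h (hE hb)).resolve_left hbc).1
        have e3 := comm_iff.2 (mem_centralizer_iff.1 hac _ h24).symm
        exact absurd (h.std.inj (mul_right_cancel (e3.symm.trans (e1.trans e2)))) (by decide)
    · by_cases hbc : b ∈ centralizer (Vt p : Set G)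
      · exfalso
        have e2 := ((act_t h (hE ha)).resolve_left hac).1
        have e3 := comm_iff.2 (mem_centralizer_iff.1 hbc _ h24).symm
        exact absurd (h.std.inj (mul_right_cancel (e3.symm.trans (e1.symm.trans e2)))) (by decide)
      · exact two_t h (hE ha) (hE hb) hac hbc
  rwa [relIndex_bot_left, card_a h] at h1

/-- `C_{V_τ}(E) = ⟨a⟩` -/
theorem inf_cent {E : Subgroup G} (hE : E ≤ Std.T (S : Subgroup G) p) (hne : ¬ E ≤ centralizer (Vt p : Set G)) :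
    Vt p ⊓ centralizer (E : Set G) = zpowers (aa p) := by
  apply le_antisymm
  · rintro v ⟨hv, hvc⟩
    obtain ⟨e, he, hec⟩ := SetLike.not_le_iff_exists.1 hne
    exact (mem_za h).2 (fix_t h (hE he) hec hv (mem_centralizer_iff.1 hvc e he))
  · rw [zpowers_le]
    exact ⟨aa_Vt h, mem_centralizer_iff.2 fun e he => comm_iff.1 (h.std.T_a (hE he))⟩

theorem noN {E : Subgroup G} (hE : E ≤ Std.T (S : Subgroup G) p) (hne : ¬ E ≤ centralizer (Vt p : Set G)) :
    Nat.card E * Nat.card ↥(Vt p ⊓ centralizer (E : Set G)) ≤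
      Nat.card (Vt p) * Nat.card ↥(E ⊓ centralizer (Vt p : Set G)) := by
  rw [inf_cent h hE hne, card_a h, card_Vt h.std.toFv]
  have h1 := NO3S.Fld.relIndex_mul_card E (centralizer (Vt p : Set G))
  have h2 := relIndex_le_two h hE
  have h3 : Nat.card E ≤ 2 * Nat.card ↥(E ⊓ centralizer (Vt p : Set G)) := by
    rw [← h1]
    exact Nat.mul_le_mul_right _ h2
  omega

theorem lineN {E : Subgroup G} (hE : E ≤ Std.T (S : Subgroup G) p) (hne : ¬ E ≤ centralizer (Vt p : Set G)) :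
    Vt p ⊓ centralizer (E : Set G) = zpowers (aa p) ∧ CommIn E (Vt p) (zpowers (aa p)) ∧
      ∀ Z' : Subgroup G, CommIn E (Vt p) Z' → zpowers (aa p) ≤ Z' := by
  refine ⟨inf_cent h hE hne, fun e he u hu => comm_za h (hE he) hu, fun Z' hZ' => ?_⟩
  obtain ⟨e, he, hec⟩ := SetLike.not_le_iff_exists.1 hne
  rw [zpowers_le, ← comm_t h (hE he) hec]
  exact hZ' e he _ ((mem_Vt h.std.toFv).2 (Or.inr (Or.inr (Or.inl rfl))))

theorem irrN {E K : Subgroup G} (hE : E ≤ Std.T (S : Subgroup G) p) (hne : ¬ E ≤ centralizer (Vt p : Set G))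
    (hK : K ≤ Vt p) (hn : cl E (XT (S : Subgroup G) P p) ≤ normalizer (K : Set G)) : K = ⊥ ∨ K = Vt p := by
  by_cases hb : K = ⊥
  · exact Or.inl hb
  right
  obtain ⟨e, he, hec⟩ := SetLike.not_le_iff_exists.1 hne
  obtain ⟨h24, h34⟩ := (act_t h (hE he)).resolve_left hec
  obtain ⟨x, hx, hσ⟩ := XT_full h (σ := Equiv.swap 3 4) (by decide) (by decide)
  have x23 : x * (p 2 * p 3) * x⁻¹ = p 2 * p 4 := hσ 2 3 (by decide) (by decide) (by decide)
  have x24 : x * (p 2 * p 4) * x⁻¹ = p 2 * p 3 := hσ 2 4 (by decide) (by decide) (by decide)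
  have x34 : x * (p 3 * p 4) * x⁻¹ = p 3 * p 4 := by
    rw [hσ 3 4 (by decide) (by decide) (by decide)]
    exact h.std.comm _ _
  have hen : ∀ v ∈ K, e * v * e⁻¹ ∈ K := fun v hv =>
    (mem_normalizer_iff.1 (hn (le_cl E _ he)) v).1 hv
  have hxn : ∀ v ∈ K, (x * e * x⁻¹) * v * (x * e * x⁻¹)⁻¹ ∈ K := fun v hv =>
    (mem_normalizer_iff.1 (hn (cj_le_cl hx ⟨e, he, rfl⟩)) v).1 hv
  have hfin : p 2 * p 4 ∈ K → p 3 * p 4 ∈ K → K = Vt p := fun h1 h2 => by
    refine le_antisymm hK fun v hv => ?_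
    rcases (mem_Vt h.std.toFv).1 hv with rfl | rfl | rfl | rfl
    · exact one_mem _
    · have h3 := mul_mem h1 h2
      have e3 : p 2 * p 4 * (p 3 * p 4) = p 2 * p 3 := by
        calc p 2 * p 4 * (p 3 * p 4) = p 2 * p 4 * (p 4 * p 3) := by rw [h.std.comm 3 4]
          _ = p 2 * (p 4 * p 4) * p 3 := by group
          _ = _ := by rw [h.std.sq, mul_one]
      rwa [e3] at h3
    · exact h1
    · exact h2
  obtain ⟨v, hv, hv1⟩ : ∃ v ∈ K, v ≠ 1 := by
    by_contra hcon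
    push Not at hcon
    exact hb ((eq_bot_iff_forall _).2 hcon)
  rcases (mem_Vt h.std.toFv).1 (hK hv) with rfl | rfl | rfl | rfl
  · exact absurd rfl hv1
  · have h1 := hxn _ hv
    have e1 : (x * e * x⁻¹) * (p 2 * p 3) * (x * e * x⁻¹)⁻¹ = p 3 * p 4 := by
      calc (x * e * x⁻¹) * (p 2 * p 3) * (x * e * x⁻¹)⁻¹
          = x * (e * (x⁻¹ * (p 2 * p 3) * x) * e⁻¹) * x⁻¹ := by group
        _ = x * (e * (x⁻¹ * (x * (p 2 * p 4) * x⁻¹) * x) * e⁻¹) * x⁻¹ := by rw [x24]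
        _ = x * (e * (p 2 * p 4) * e⁻¹) * x⁻¹ := by group
        _ = _ := by rw [h24, x34]
    rw [e1] at h1
    have h2 := hen _ h1
    rw [h34] at h2
    exact hfin h2 h1
  · have h1 := hen _ hv
    rw [h24] at h1
    exact hfin hv h1
  · have h1 := hen _ hv
    rw [h34] at h1
    exact hfin h1 hv

/-- **`hN`** : every `A ≤ S`, `A ≰ O₂(P)` has an `S`-conjugate which moves `V_τ`. -/
theorem exists_s {A : Subgroup G} (hA : A ≤ (S : Subgroup G)) (hAP : ¬ A ≤ o2 P) :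
    ∃ s ∈ (S : Subgroup G), ¬ cj s A ≤ centralizer (Vt p : Set G) := by
  by_contra hcon
  push Not at hcon
  apply hAP
  intro a ha
  obtain ⟨s, hs, hs1⟩ := h.std.tau
  have h1 : a ∈ centralizer (Vt p : Set G) := by
    have := hcon 1 (one_mem _)
    rw [cj_one] at this
    exact this ha
  have h2 : s * a * s⁻¹ ∈ centralizer (Vt p : Set G) := hcon s hs ⟨a, ha, rfl⟩
  have h4 := h.std.fix a (hA ha)
  -- from `p i p 4` to `p i`
  have hfix : ∀ i, a * (p i * p 4) * a⁻¹ = p i * p 4 → a * p i * a⁻¹ = p i := fun i e => by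
    rw [cm, h4] at e
    exact mul_right_cancel e
  have f2 : a * p 2 * a⁻¹ = p 2 := hfix 2 (comm_iff.2 (mem_centralizer_iff.1 h1 _
    ((mem_Vt h.std.toFv).2 (Or.inr (Or.inr (Or.inl rfl))))).symm)
  have f3 : a * p 3 * a⁻¹ = p 3 := hfix 3 (comm_iff.2 (mem_centralizer_iff.1 h1 _
    ((mem_Vt h.std.toFv).2 (Or.inr (Or.inr (Or.inr rfl))))).symm)
  obtain ⟨σ, hσ⟩ := h.std.perm s (h.std.le hs)
  have s4 : σ 4 = 4 := by
    have := h.std.fix s hs
    rw [hσ] at this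
    exact h.std.inj this
  have h01 : (σ 0 = 2 ∧ σ 1 = 3) ∨ (σ 0 = 3 ∧ σ 1 = 2) := by
    rw [cm, hσ, hσ] at hs1
    exact h.std.pair_inj (fun e => absurd (σ.injective e) (by decide)) (by decide) hs1
  have hs' : ∀ i, s * (p i * p 4) * s⁻¹ ∈ Vt p → a * p i * a⁻¹ = p i := fun i hi => by
    refine hfix i ?_
    have e := comm_iff.2 (mem_centralizer_iff.1 h2 _ hi).symm
    calc a * (p i * p 4) * a⁻¹ = s⁻¹ * ((s * a * s⁻¹) * (s * (p i * p 4) * s⁻¹) * (s * a * s⁻¹)⁻¹) * s := by group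
      _ = s⁻¹ * (s * (p i * p 4) * s⁻¹) * s := by rw [e]
      _ = _ := by group
  have hm : ∀ i, (σ i = 2 ∨ σ i = 3) → a * p i * a⁻¹ = p i := fun i hi => by
    refine hs' i ?_
    rw [cm, hσ, hσ, s4, mem_Vt h.std.toFv]
    rcases hi with e | e <;> rw [e]
    · exact Or.inr (Or.inr (Or.inl rfl))
    · exact Or.inr (Or.inr (Or.inr rfl))
  have f0 : a * p 0 * a⁻¹ = p 0 := hm 0 (by rcases h01 with ⟨e, -⟩ | ⟨e, -⟩ <;> simp [e])
  have f1 : a * p 1 * a⁻¹ = p 1 := hm 1 (by rcases h01 with ⟨-, e⟩ | ⟨-, e⟩ <;> simp [e])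
  have hall : ∀ i, a * p i = p i * a := fun i => by
    rw [← comm_iff]
    fin_cases i
    · exact f0
    · exact f1
    · exact f2
    · exact f3
    · exact h4
  refine NO3S.MFive.Inst.cS h (hA ha) fun v hv => ?_
  rw [h.gen] at hv
  have h5 : closure (Set.range p) ≤ centralizer ({a} : Set G) := by
    rw [closure_le]
    rintro _ ⟨i, rfl⟩
    exact mem_centralizer_singleton_iff.2 (hall i).symm
  exact (mem_centralizer_singleton_iff.1 (h5 hv)).symm

end five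

end Cfsg.Agent.Omega.CaseLQ.FiveI
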