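import Cfsg.Agent.Omega.CaseLQ.PsiG
import Cfsg.Agent.Omega.NO3S.EThree.FrameG

/-!
# The `ψ`-trick over the frame `Bg` (several natural blocks): the fields of `V_P`

`Tj := B ⊓ C(C j)`; `frG_of_bg` : the frame `FrG` from `Bg`, `q ≥ 4`, `C_U(O₂(P)) ≤ V_P` and the data `c`, `K` of `Y`.
-/

set_option autoImplicit false
set_option linter.unusedSectionVars false

namespace Cfsg.Agent.Omega.CaseLQ.Psi

open Subgroup Cfsg Cfsg.Agent.ZN Cfsg.Agent.ZN.ChoiceBase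
open Cfsg.Agent.Omega.OM
open Cfsg.Agent.Omega.NO3S.EThree.Frame (Bg Fg)

universe u w

variable {G : Type u} [Group G] [Finite G] {S : Sylow 2 G} {P B ZJ : Subgroup G} {ι : Type} {L W Z C : ι → Subgroup G}
  {q : ℕ}

/-- The root group of the block `j`. -/
def Tj (B : Subgroup G) (C : ι → Subgroup G) (j : ι) : Subgroup G := B ⊓ centralizer (C j : Set G)

section bg

variable (h : Bg S P B ZJ L W Z C q)
include h

theorem QTj (j : ι) : o2 P ≤ Tj B C j :=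
  le_inf h.fr.QB fun _ hx _ hc => (h.fr.cQ hx (h.fr.CV j hc)).symm

theorem mem_Q_of {j : ι} {t v : G} (ht : t ∈ Tj B C j) (hv : v ∈ W j) (hvZ : v ∉ Z j) (htv : t * v = v * t) :
    t ∈ o2 P := by
  refine (h.fr.mem_Q t ht.1).2 fun u hu => ?_
  obtain ⟨w, hw, c, hc, rfl⟩ := h.fr.WC j u hu
  have h1 := (h.fr.blk j).free t ht.1 v hv hvZ htv w hw
  have h2 : c * t = t * c := ht.2 c hc
  rw [← mul_assoc, h1, mul_assoc, ← h2, mul_assoc]

theorem exists_v (j : ι) : ∃ v ∈ W j, v ∉ Z j := by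
  obtain ⟨b, hb, v, hv, hbv⟩ := (h.fr.blk j).ne
  exact ⟨v, hv, fun hz => hbv ((h.fr.blk j).cZ b hb v hz)⟩

theorem root_Tj {j : ι} {v : G} (hv : v ∈ W j) (hvZ : v ∉ Z j) {z : G} (hz : z ∈ Z j) :
    ∃ t ∈ Tj B C j, t * v * t⁻¹ * v⁻¹ = z := by
  obtain ⟨b, hb, hbC, he⟩ := h.root j v hv hvZ z hz
  exact ⟨b, ⟨hb, hbC⟩, he⟩

theorem sq_Tj {j : ι} {t : G} (ht : t ∈ Tj B C j) : t * t ∈ o2 P := by
  obtain ⟨v, hv, hvZ⟩ := exists_v h j
  refine mem_Q_of h (mul_mem ht ht) hv hvZ ?_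
  have hz := (h.fr.blk j).com t ht.1 v hv
  set z := t * v * t⁻¹ * v⁻¹ with hzd
  have h1 : t * v = z * v * t := by rw [hzd]; group
  have h2 : t * z = z * t := (h.fr.blk j).cZ t ht.1 z hz
  have h3 : z * z = 1 := by
    have := h.fr.Vsq (h.fr.ZV j hz)
    rwa [pow_two] at this
  calc t * t * v = t * (t * v) := by group
    _ = t * (z * v * t) := by rw [h1]
    _ = (t * z) * (v * t) := by group
    _ = z * (t * v) * t := by rw [h2]; group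
    _ = (z * z) * (v * (t * t)) := by rw [h1]; group
    _ = v * (t * t) := by rw [h3, one_mul]

theorem four_Tj (hq : 3 ≤ q) {j : ι} {t : G} (ht : t ∈ Tj B C j) :
    ∃ s ∈ Tj B C j, s ∉ o2 P ∧ t⁻¹ * s ∉ o2 P := by
  obtain ⟨v, hv, hvZ⟩ := exists_v h j
  have hzt := (h.fr.blk j).com t ht.1 v hv
  obtain ⟨z, hz, hz1, hzne⟩ : ∃ z ∈ Z j, z ≠ 1 ∧ z ≠ t * v * t⁻¹ * v⁻¹ := by
    by_contra hcon
    push Not at hcon
    have h1 : (Z j : Set G) ⊆ ({1, t * v * t⁻¹ * v⁻¹} : Set G) := by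
      intro z hz
      by_cases h1 : z = 1
      · exact Or.inl h1
      · exact Or.inr (hcon z hz h1)
    have h2 := Set.ncard_le_ncard h1 (Set.toFinite _)
    have h3 : (Z j : Set G).ncard = q := h.fr.cardZ j
    have h4 : ({1, t * v * t⁻¹ * v⁻¹} : Set G).ncard ≤ 2 := Set.ncard_insert_le _ _ |>.trans (by simp)
    omega
  obtain ⟨s, hs, hsz⟩ := root_Tj h hv hvZ hz
  refine ⟨s, hs, fun hsQ => hz1 ?_, fun hsQ => hzne ?_⟩
  · have := h.fr.cQ hsQ (h.fr.WV j hv)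
    rw [← hsz, this]; group
  · have h1 := h.fr.cQ hsQ (h.fr.WV j hv)
    have h2 : s * v = t * (v * (t⁻¹ * s)) := by rw [← h1]; group
    rw [← hsz, h2]; group

/-- **The frame of the `ψ`-trick from `Bg`.** -/
theorem frG_of_bg {κ : Type w} {j : ι} (hq : 3 ≤ q) {T U : Subgroup G} {c K : κ → Subgroup G} (BT : B ≤ T)
    (TS : T ≤ (S : Subgroup G)) (UT : T ≤ normalizer (U : Set G)) (Uc : ∀ x ∈ U, ∀ y ∈ U, x * y = y * x)
    (WU : W j ≤ U) (CQ : U ⊓ centralizer (o2 P : Set G) ≤ zl (S : Subgroup G) P)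
    (perm : ∀ t ∈ T, ∀ i, ∃ m, cj t (c i) = c m ∧ cj t (K i) = K m)
    (cyc : ∀ i, ∃ g ∈ T, cj g (c i) = c i ∧ ∀ x ∈ T, cj x (c i) = c i →
      ∃ n : ℤ, ∀ v ∈ c i, x * v * x⁻¹ = g ^ n * v * (g ^ n)⁻¹)
    (cU : ∀ i, c i ≤ U) (ne : ∀ i, c i ≠ ⊥) (inf : ∀ i, c i ⊓ centralizer (K i : Set G) = ⊥)
    (cm : ∀ i m, m ≠ i → c m ≤ centralizer (K i : Set G))
    (cov : ∀ i, W j ≤ c i ⊔ (U ⊓ centralizer (K i : Set G)))
    (nZ : ∃ i, ¬ Z j ≤ centralizer (K i : Set G)) :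
    FrG U T (o2 P) (Tj B C j) (W j) (Z j) c K where
  comm := Uc
  TU := UT
  QT := QTj h j
  TjT := inf_le_left.trans BT
  Qn := TS.trans (h.hyp.toHyp.star.isLoc.le.trans (ChoiceSit.le_normalizer_o2 P))
  sq := fun t ht => sq_Tj h ht
  four := fun t ht => four_Tj h hq ht
  perm := perm
  cyc := cyc
  cU := cU
  ne := ne
  inf := inf
  cm := cm
  NU := WU
  NT := by
    intro t ht
    rw [mem_normalizer_iff_cj]
    refine Subgroup.eq_of_le_of_card_ge ?_ (card_cj _ _).ge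
    rintro _ ⟨w, hw, rfl⟩
    exact (h.fr.blk j).BV ht.1 hw
  NQ := fun w hw x hx => h.fr.cQ hx (h.fr.WV j hw)
  cov := cov
  ZN := (h.fr.blk j).ZV
  NZ := fun hcon => by
    obtain ⟨v, hv, hvZ⟩ := exists_v h j
    exact hvZ (hcon hv)
  cen := fun t ht htQ n hn hnt => by
    by_contra hnZ
    exact htQ (mem_Q_of h ht hn hnZ (mul_inv_eq_iff_eq_mul.1 hnt))
  Zc := fun z hz t ht => (h.fr.blk j).cZ t ht.1 z hz
  full := fun n hn hnZ z hz => root_Tj h hn hnZ hz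
  CQ := fun u hu huQ => by
    obtain ⟨w, hw, c, hc, rfl⟩ := h.fr.WC j u (CQ ⟨hu, huQ⟩)
    refine ⟨w, hw, ?_⟩
    rw [inv_mul_cancel_left]
    intro t ht
    exact (ht.2 c hc).symm
  nZ := nZ

end bg

end Cfsg.Agent.Omega.CaseLQ.Psi
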