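import Cfsg.Agent.Omega.CaseLQ.PsiN
import Cfsg.Agent.Omega.CaseLQ.PsiBg
import Cfsg.Agent.Omega.NO3S.CaseLW.YBX
import Cfsg.Agent.Omega.NO3S.RedC.MaxMin

/-!
# NoW, `q ≥ 4`: [Y], the blocks of the weird parabolic `Y` on `U` (helper952 #24536 (ii), helper707 #24883)

`Fam U H T` : the subgroups `E ≤ T` which are maximal offenders of least rank on `U` with respect to `H` (`MaxMin U H E`)
or act trivially on `U`. This is a family of best offenders (`bfam`), so helper373's `YBX.exists_ybx` gives the blocks of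
`Y` on `X' = C_U(⟨Fam⟩)`; the `ψ`-trick is run in `X'`.

* `bfam` : `BFam T U (normalizer U) (Fam U H T)`;
* `frN_of_yb` : the frame `FrN` from `YB` and helper707's fields of `Bg`;
* `psi_false` : over `Bg`, `q ≥ 3`: if all members `E ≤ T` centralise `W j` and one of them is not in `O₂(Y)`: `False`.
-/

set_option autoImplicit false
set_option linter.unusedSectionVars false

namespace Cfsg.Agent.Omega.CaseLQ.PsiYB

open Subgroup Cfsg Cfsg.Agent.ZN Cfsg.Agent.ZN.ChoiceBase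
open Cfsg.Agent.ZN.ChoiceSit (Syl)
open Cfsg.Agent.Omega.OM
open Cfsg.Agent.Omega.OM.GLev (GE)
open Cfsg.Agent.Omega.OM.Lev.Low (YB Mv)
open Cfsg.Agent.Omega.NO3S.EThree.Frame (Bg Fg)
open Cfsg.Agent.Omega.NO3S.OneLine (BFam)
open Cfsg.Agent.Omega.NO3S.RedC (MaxMin)
open Cfsg.Agent.Omega.NO3S.CaseLW.YBX (Xc mem_Xc Concl)
open Cfsg.Agent.Omega.FFThm (OffM ElemM NoOverM StmtM)
open Cfsg.Agent.MinSimple.MinParabolic (IsMinPar)
open Cfsg.Agent.MinSimple.VModule (oddGen)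
open Cfsg.Agent.Omega.CaseLQ.Psi

universe u w

variable {G : Type u} [Group G] [Finite G]

/-- maximal offenders of least rank `≤ T`, and the subgroups of `T` acting trivially -/
def Fam (U H T : Subgroup G) : Set (Subgroup G) := {E | E ≤ T ∧ (MaxMin U H E ∨ E ≤ centralizer (U : Set G))}

/-- **The family of best offenders.** -/
theorem bfam {U H T : Subgroup G} (TH : T ≤ H) : BFam T U (normalizer (U : Set G)) (Fam U H T) where
  le A hA := hA.1
  elem A hA := by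
    rcases hA.2 with h | h
    · exact h.elem
    · exact ⟨fun a ha => pow_mem (h ha) 2, fun a ha b hb =>
        mul_mem (mul_mem (mul_mem (h ha) (h hb)) (inv_mem (h ha))) (inv_mem (h hb))⟩
  best A hA B hB hBA := by
    rcases hA.2 with h | h
    · exact h.best.max B hBA hB
    · have e : B = A := le_antisymm hBA (le_trans (le_inf le_rfl h) hB)
      rw [e]
  cut A hA B hB hBA he := by
    rcases hA.2 with h | h
    · rcases h.eq_or hBA hB he.ge with h1 | h1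
      · exact ⟨A, hA, by rw [h1]⟩
      · exact ⟨B, ⟨hBA.trans hA.1, Or.inr h1⟩, rfl⟩
    · exact ⟨B, ⟨hBA.trans hA.1, Or.inr (hBA.trans h)⟩, rfl⟩
  conj A hA g hg hle := by
    refine ⟨hle, ?_⟩
    have hc : cj g (centralizer (U : Set G)) = centralizer (U : Set G) := by
      rw [cj_centralizer, cj_eq_of_mem_normalizer hg]
    rcases hA.2 with h | h
    · left
      exact
        { le := hle.trans TH
          pg := ChoiceBase.isPGroup_cj g h.pg
          elem := NOThreeL.VF.elemM_cj hg h.elem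
          ne := fun h1 => h.ne (by
            have h2 := cj_mono g⁻¹ h1
            rw [cj_inv_cj, cj_centralizer, cj_eq_of_mem_normalizer (inv_mem hg)] at h2
            exact h2)
          max := fun D hD hD2 hE => by
            rw [(NOThreeL.VF.fM_cj (A := A) hg).1]
            exact h.max D hD hD2 hE
          min := fun D hD hD2 hE hne hf => by
            rw [(NOThreeL.VF.fM_cj (A := A) hg).2]
            rw [(NOThreeL.VF.fM_cj (A := A) hg).1] at hf
            exact h.min D hD hD2 hE hne hf }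
    · right
      have h1 := cj_mono g h
      rwa [hc] at h1

/-- from pairwise comparability to one generator -/
theorem exists_gen {T X : Subgroup G} {κ : Type*} {N c : κ → Subgroup G} (h : YB T X N c) (l : κ) :
    ∃ g ∈ T, Mv N c g l l ∧ ∀ x ∈ T, Mv N c x l l → ∃ n : ℤ, ∀ v ∈ c l, x * v * x⁻¹ = g ^ n * v * (g ^ n)⁻¹ := by
  classical
  -- `x` acts as a power of `g`
  let R : G → G → Prop := fun g x => ∃ n : ℤ, ∀ v ∈ c l, x * v * x⁻¹ = g ^ n * v * (g ^ n)⁻¹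
  have htr : ∀ a b x : G, Mv N c a l l → R b a → R a x → R b x := by
    rintro a b x ha ⟨n, hn⟩ ⟨m, hm⟩
    -- powers of `a` act as powers of `b ^ n`
    have hpos : ∀ k : ℕ, ∀ v ∈ c l, a ^ k * v * (a ^ k)⁻¹ = (b ^ n) ^ k * v * ((b ^ n) ^ k)⁻¹ ∧ a ^ k * v * (a ^ k)⁻¹ ∈ c l := by
      intro k
      induction k with
      | zero => intro v hv; simp [hv]
      | succ k ih =>
        intro v hv
        obtain ⟨h1, h2⟩ := ih v hv
        have e1 : a ^ (k + 1) * v * (a ^ (k + 1))⁻¹ = a * (a ^ k * v * (a ^ k)⁻¹) * a⁻¹ := by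
          rw [pow_succ']; group
        have e2 : (b ^ n) ^ (k + 1) * v * ((b ^ n) ^ (k + 1))⁻¹ = b ^ n * ((b ^ n) ^ k * v * ((b ^ n) ^ k)⁻¹) * (b ^ n)⁻¹ := by
          rw [pow_succ']; group
        rw [e1, e2, hn _ h2, h1]
        refine ⟨rfl, ?_⟩
        rw [← h1, ← hn _ h2]
        have h3 : cj a (c l) = c l := ha.2
        rw [← h3]
        exact ⟨_, h2, rfl⟩
    have hfin : ∃ k : ℕ, a ^ m = a ^ k := by
      obtain ⟨k, hk⟩ := (mem_powers_iff_mem_zpowers (x := a)).2 ⟨m, rfl⟩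
      exact ⟨k, hk.symm⟩
    obtain ⟨k, hk⟩ := hfin
    refine ⟨n * k, fun v hv => ?_⟩
    rw [hm v hv, hk, (hpos k v hv).1, zpow_mul, zpow_natCast]
  have hself : ∀ g : G, R g g := fun g => ⟨1, fun v _ => by rw [zpow_one]⟩
  -- comparability
  have hcomp : ∀ s ∈ T, ∀ t ∈ T, Mv N c s l l → Mv N c t l l → R t s ∨ R s t := by
    intro s hs t ht hms hmt
    have key : ∀ a b : G, Mv N c b l l → (∀ n : ℕ, (∀ x ∈ c l, a * b ^ n * x = x * (a * b ^ n)) → R b a) := by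
      intro a b hb n hn
      refine ⟨-(n : ℤ), fun v hv => ?_⟩
      have hb' : Mv N c (b ^ n)⁻¹ l l := (hb.pow n).inv
      have hv' : (b ^ n)⁻¹ * v * ((b ^ n)⁻¹)⁻¹ ∈ c l := by
        have h3 : cj (b ^ n)⁻¹ (c l) = c l := hb'.2
        rw [← h3]
        exact ⟨_, hv, rfl⟩
      have h1 := hn _ hv'
      rw [zpow_neg, zpow_natCast]
      calc a * v * a⁻¹ = (a * b ^ n * ((b ^ n)⁻¹ * v * ((b ^ n)⁻¹)⁻¹)) * ((b ^ n)⁻¹ * a⁻¹) := by group
        _ = (b ^ n)⁻¹ * v * ((b ^ n)⁻¹)⁻¹ := by rw [h1]; group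
    obtain ⟨n, hn | hn⟩ := h.cyc l s hs t ht hms hmt
    · exact Or.inl (key s t hmt n hn)
    · exact Or.inr (key t s hms n hn)
  -- a maximal element
  let St : Set G := {x | x ∈ T ∧ Mv N c x l l}
  have hne : St.Nonempty := ⟨1, one_mem T, Mv.one l⟩
  obtain ⟨g, hg, hmax⟩ := Set.exists_max_image St (fun g => {x ∈ St | R g x}.ncard) (Set.toFinite _) hne
  refine ⟨g, hg.1, hg.2, fun x hx hmx => ?_⟩
  rcases hcomp x hx g hg.1 hmx hg.2 with h1 | h1
  · exact h1
  · -- `g` is a power of `x`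
    have hsub : {y ∈ St | R g y} ⊆ {y ∈ St | R x y} := by
      rintro y ⟨hy, hgy⟩
      exact ⟨hy, htr g x y hg.2 h1 hgy⟩
    have h2 := hmax x ⟨hx, hmx⟩
    have h3 : {y ∈ St | R g y} = {y ∈ St | R x y} :=
      Set.eq_of_subset_of_ncard_le hsub h2 (Set.toFinite _)
    have h4 : x ∈ {y ∈ St | R x y} := ⟨⟨hx, hmx⟩, hself x⟩
    rw [← h3] at h4
    exact h4.2

/-- **The situation** [Y]: `Y` a minimal parabolic over `T` in `H`, `U` an elementary abelian normal subgroup of `H`. -/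
structure YS (U H T Y : Subgroup G) : Prop where
  Uc : U ≤ centralizer (U : Set G)
  Us : ∀ u ∈ U, u ^ 2 = 1
  HU : H ≤ normalizer (U : Set G)
  UT : U ≤ T
  syl : Syl T Y
  min : IsMinPar T Y
  c2 : Y ⊓ centralizer (o2 Y : Set G) ≤ o2 Y
  mv : ¬ Y ≤ centralizer (zc T : Set G)
  YH : Y ≤ H
  VU : zl T Y ≤ U

namespace YS

variable {U H T Y : Subgroup G} (s : YS U H T Y)
include s

theorem U_mul : ∀ x ∈ U, ∀ y ∈ U, x * y = y * x := fun x hx _ hy => mem_centralizer_iff.1 (s.Uc hy) x hx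

theorem TY : T ≤ Y := s.syl.1

theorem YV : Y ≤ normalizer (zl T Y : Set G) := MinSimple.VModule.le_normalizer_zl T Y

theorem hm : SQ1.FFOne.MinH Y T := SQ1.FFOne.minH_of s.syl s.min s.c2

theorem odd_not : ¬ oddGen Y ≤ centralizer (zl T Y : Set G) := by
  intro h0
  apply s.mv
  have h1 := NO3b.EZero.oddGen_sup_syl s.syl
  rw [← h1]
  refine sup_le (h0.trans (centralizer_le SQ1.VOf.zc_le_zl)) (NO3b.EZero.cent_symm ?_)
  intro z hz
  exact mem_centralizer_iff.2 fun t ht => (ChoiceBase.mem_zc.1 hz).2.2 t ht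

/-- `C_T(V) ≤ O₂(Y)` -/
theorem cap : T ⊓ centralizer (zl T Y : Set G) ≤ o2 Y := by
  have hYY : Y ≤ normalizer ((Y ⊓ centralizer (zl T Y : Set G) : Subgroup G) : Set G) :=
    NO3b.EZero.le_normalizer_inf_cent s.YV
  rcases NO3b.K0.min_or s.syl s.min (K := Y ⊓ centralizer (zl T Y : Set G)) inf_le_left hYY with h2 | h2
  · exact absurd (h2.trans inf_le_right) s.odd_not
  · exact (le_inf inf_le_left (le_inf (inf_le_left.trans s.TY) inf_le_right)).trans h2

/-- the blocks of `Y` on `C_U(⟨Fam⟩)` -/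
theorem exists_concl (hFF : StmtM.{u}) (hex : ∃ E, E ≤ T ∧ MaxMin U H E ∧ ¬ E ≤ o2 Y) :
    GE T Y U (Fam U H T) ∧ ∃ (ι : Type) (_ : Finite ι) (Ni c : ι → Subgroup G), Concl T Y U (Fam U H T) Ni c := by
  obtain ⟨E, hET, hE, hEY⟩ := hex
  have hfam := bfam (U := U) (H := H) (T := T) (s.TY.trans s.YH)
  have hEF : E ∈ Fam U H T := ⟨hET, Or.inl hE⟩
  have hne : ¬ E ≤ centralizer (zl T Y : Set G) := fun h => hEY ((le_inf hET h).trans s.cap)
  obtain ⟨noV, con⟩ := hFF G T Y s.syl s.min s.c2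
    ⟨E, hET.trans s.TY, NO3S.OneLine.BFam.offM hfam s.U_mul s.VU hEF hne⟩
  have ge : GE T Y U (Fam U H T) :=
    { hm := s.hm
      fam := hfam
      elem := Cfsg.Agent.PLocal.ThompsonJ.isElementaryAbelian_iff.2 ⟨s.U_mul, s.Us⟩
      norm := s.YH.trans s.HU
      VX := s.VU
      QC := s.cap
      noOver := noV }
  exact ⟨ge, NO3S.CaseLW.YBX.exists_ybx ge s.UT con ⟨E, hEF, hEY⟩ s.mv⟩

end YS

section bg

variable {S : Sylow 2 G} {P B ZJ : Subgroup G} {ι : Type} {L W Z C : ι → Subgroup G} {q : ℕ}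
  (h : Bg S P B ZJ L W Z C q)
include h

/-- **The frame of the `ψ`-trick from `Bg` and `YB`.** -/
theorem frN_of_yb {κ : Type w} {j : ι} (hq : 3 ≤ q) {T X : Subgroup G} {Ni c : κ → Subgroup G} (BT : B ≤ T)
    (TS : T ≤ (S : Subgroup G)) (yb : YB T X Ni c) (WX : W j ≤ X)
    (CQ : X ⊓ centralizer (o2 P : Set G) ≤ zl (S : Subgroup G) P) (nZ : ∃ i, ¬ Z j ≤ Ni i) :
    FrN X T (o2 P) (Tj B C j) (W j) (Z j) c Ni where
  comm := yb.ab
  TU := yb.norm
  QT := QTj h j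
  TjT := inf_le_left.trans BT
  Qn := TS.trans (h.hyp.toHyp.star.isLoc.le.trans (ChoiceSit.le_normalizer_o2 P))
  sq := fun t ht => sq_Tj h ht
  four := fun t ht => four_Tj h hq ht
  perm := fun t ht i => by
    obtain ⟨m, hm⟩ := yb.perm t ht i
    exact ⟨m, hm.2, hm.1⟩
  cyc := fun i => by
    obtain ⟨g, hg, hgi, hgen⟩ := exists_gen yb i
    refine ⟨g, hg, hgi.2, fun x hx hxc => hgen x hx ?_⟩
    obtain ⟨m, hm⟩ := yb.perm x hx i
    have h1 : c i = c m := hxc.symm.trans hm.2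
    have h2 : i = m := by
      by_contra hne
      apply yb.ne i
      rw [eq_bot_iff, ← yb.triv m]
      refine le_inf h1.le ?_
      exact yb.comm i m hne
    rw [← h2] at hm
    exact hm
  cU := yb.cX
  ne := yb.ne
  inf := yb.triv
  cm := fun i m hm => yb.comm m i hm
  NU := WX
  NT := by
    intro t ht
    rw [mem_normalizer_iff_cj]
    refine Subgroup.eq_of_le_of_card_ge ?_ (card_cj _ _).ge
    rintro _ ⟨w, hw, rfl⟩
    exact (h.fr.blk j).BV ht.1 hw
  NQ := fun w hw x hx => h.fr.cQ hx (h.fr.WV j hw)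
  cov := fun i w hw => by
    obtain ⟨a, ha, haw⟩ := yb.fix i w (WX hw)
    have h1 : w = a⁻¹ * (a * w) := by group
    rw [h1]
    exact mul_mem ((le_sup_left : c i ≤ _) (inv_mem ha))
      ((le_sup_right : X ⊓ Ni i ≤ _) ⟨mul_mem (yb.cX i ha) (WX hw), haw⟩)
  ZN := (h.fr.blk j).ZV
  NZ := fun hcon => by
    obtain ⟨v, hv, hvZ⟩ := exists_v h j
    exact hvZ (hcon hv)
  cen := fun t ht htQ n hn hnt => by
    by_contra hnZ
    exact htQ (mem_Q_of h ht hn hnZ (mul_inv_eq_iff_eq_mul.1 hnt))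
  Zc := fun z hz t ht => (h.fr.blk j).cZ t ht.1 z hz
  full := fun n hn hnZ z hz => root_Tj h hn hnZ hz
  CQ := fun u hu huQ => by
    obtain ⟨w, hw, c, hc, rfl⟩ := h.fr.WC j u (CQ ⟨hu, huQ⟩)
    refine ⟨w, hw, ?_⟩
    rw [inv_mul_cancel_left]
    intro t ht
    exact (ht.2 c hc).symm
  nZ := nZ

/-- **NoW, `q ≥ 3`, step (ii)**: if all maximal offenders of least rank `≤ T` centralise `W j`, and one of them is not in
`O₂(Y)`, where `Y` centralises `Λ`, `Ω₁Z(T) ≤ Λ Z_j`: contradiction. -/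
theorem psi_false {j : ι} (hq : 3 ≤ q) {U H T Y Λ : Subgroup G} (s : YS U H T Y) (hFF : StmtM.{u}) (BT : B ≤ T)
    (TS : T ≤ (S : Subgroup G)) (WU : W j ≤ U) (CQ : U ⊓ centralizer (o2 P : Set G) ≤ zl (S : Subgroup G) P)
    (cen : ∀ E ≤ T, MaxMin U H E → E ≤ centralizer (W j : Set G))
    (hex : ∃ E, E ≤ T ∧ MaxMin U H E ∧ ¬ E ≤ o2 Y) (YΛ : Y ≤ centralizer (Λ : Set G)) (ΛU : Λ ≤ U)
    (zT : zc T ≤ Λ ⊔ Z j) : False := by
  obtain ⟨ge, κ, _, Ni, c, hc⟩ := s.exists_concl hFF hex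
  have WX : W j ≤ Xc U (Fam U H T) := by
    intro w hw
    refine mem_Xc.2 ⟨WU hw, fun A hA a ha => ?_⟩
    rcases hA.2 with h1 | h1
    · exact ((mem_centralizer_iff.1 (cen A hA.1 h1 ha)) w hw).symm
    · exact ((mem_centralizer_iff.1 (h1 ha)) w (WU hw)).symm
  have hΛ : ∀ l, Λ ≤ Ni l := fun l x hx => hc.cen x (ΛU hx) (fun A hA y hy a ha => by
    have h1 : y * a * y⁻¹ ∈ Y := mul_mem (mul_mem hy (s.TY (hA.1 ha))) (inv_mem hy)
    exact ((mem_centralizer_iff.1 (YΛ h1)) x hx).symm) l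
  have nZ : ∃ i, ¬ Z j ≤ Ni i := by
    obtain ⟨l, hl⟩ := hc.ex
    exact ⟨l, fun hZ => hl (zT.trans (sup_le (hΛ l) hZ))⟩
  exact (frN_of_yb h hq BT TS hc.yb WX ((inf_le_inf_right _ (NO3S.CaseLW.YBX.Xc_le _ _)).trans CQ) nZ).false

end bg

end Cfsg.Agent.Omega.CaseLQ.PsiYB
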