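import Cfsg.Agent.Omega.CaseLQ.PsiTG
import Cfsg.Agent.Omega.CaseLQ.PsiYB
import Cfsg.Agent.Omega.CaseLQ.ExTwo

/-!
# NoW, `q = 2`, part (ii), the case `r = 2` and the symmetric blocks (helper602 #25080 (b))

* `FrG.trans` : `B` is transitive on the lines;
* `Ctr U A x` : `A` acts on `U` as a group of transvections with centre `x`;
* `dead` : over `YS U H T Y`, the frame `FrG` for every `Concl`, and `P` (`T ≤ P ≤ H`, `P ≤ N(C_T(V))`, `Λ ≤ C(P)`,
  `P` moves `z`): the lines do not have order `2`;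
* `nat_four` : **the natural alternative of the FF theorem holds for `Y`, with `|F| > 2`**.
-/

set_option autoImplicit false
set_option linter.unusedSectionVars false
set_option linter.style.haveILetI false

namespace Cfsg.Agent.Omega.CaseLQ.PsiT

open Subgroup

section add

variable {U : Type*} [AddCommGroup U] {T : Type*} [Group T] [DistribMulAction T U] {ι : Type*} [MulAction T ι]

/-- all lines of order `2`: `T` is transitive on the lines -/
theorem Fr.trans {c C : ι → AddSubgroup U} {Q : Subgroup T} {N : AddSubgroup U} {z : U} (h : Fr c C Q N z) [Fintype ι]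
    [Nonempty ι] {e : ι → U} (he : ∀ i, e i ∈ c i) (he0 : ∀ i, e i ≠ 0)
    (hce : ∀ i, ∀ x ∈ c i, x = 0 ∨ x = e i)
    (hfix : ∀ u : U, (∀ t : T, t • u = u) → (∀ i, u ∈ C i) ∨ ∀ i, u - z ∈ C i) (i m : ι) : ∃ t : T, t • i = m := by
  classical
  by_contra hcon
  have hsum := h.eq_sum he he0 hce hfix
  have hte : ∀ (t : T) (i : ι), t • e i = e (t • i) := by
    intro t i
    rcases hce (t • i) _ (h.ct t i _ (he i)) with h1 | h1
    · exact absurd h1 ((smul_ne_zero_iff_ne t).2 (he0 i))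
    · exact h1
  let O : Set ι := {m | ∃ t : T, t • i = m}
  have hOt : ∀ (t : T) (l : ι), t • l ∈ O ↔ l ∈ O := by
    intro t l
    constructor
    · rintro ⟨s, hs⟩
      exact ⟨t⁻¹ * s, by rw [mul_smul, hs, inv_smul_smul]⟩
    · rintro ⟨s, rfl⟩
      exact ⟨t * s, by rw [mul_smul]⟩
  let g : ι → U := fun l => if l ∈ O then e l else 0
  have hgt : ∀ (t : T) (l : ι), t • g l = g (t • l) := by
    intro t l
    by_cases hl : l ∈ O
    · have hl' := (hOt t l).2 hl
      simp only [g, if_pos hl, if_pos hl']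
      exact hte t l
    · have hl' := fun h' => hl ((hOt t l).1 h')
      simp only [g, if_neg hl, if_neg hl', smul_zero]
  have hg : ∀ l, g l ∈ c l := by
    intro l
    by_cases hl : l ∈ O
    · simp only [g, if_pos hl]; exact he l
    · simp only [g, if_neg hl]; exact (c l).zero_mem
  have hT : ∀ t : T, t • (∑ l, g l) = ∑ l, g l := by
    intro t
    rw [Finset.smul_sum]
    exact Fintype.sum_equiv (MulAction.toPerm t) _ _ fun l => hgt t l
  rcases hfix _ hT with h1 | h1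
  · have h2 := h.sum_zero hg h1 i
    have hi : i ∈ O := ⟨1, one_smul _ _⟩
    simp only [g, if_pos hi] at h2
    exact he0 i h2
  · have h2 : (∑ l, g l) - z = ∑ l, (g l - e l) := by
      rw [hsum, Finset.sum_sub_distrib]
    have h3 := h.sum_zero (fun l => (c l).sub_mem (hg l) (he l)) (fun l => by rw [← h2]; exact h1 l) m
    have hm : m ∉ O := hcon
    simp only [g, if_neg hm, zero_sub, neg_eq_zero] at h3
    exact he0 m h3

end add

local notation "cj" g:max H:max => Subgroup.map (MulEquiv.toMonoidHom (MulAut.conj g)) H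

variable {G : Type*} [Group G] {ι : Type*}

/-- all lines of order `2`: `B` is transitive on the lines -/
theorem FrG.trans {U B Q V : Subgroup G} {z : G} {Lam : Subgroup G} {N c : ι → Subgroup G}
    (h : FrG U B Q V z Lam N c) [Finite ι] {e : ι → G}
    (he : ∀ i, e i ∈ c i) (hce : ∀ i, ∀ x ∈ c i, x = 1 ∨ x = e i)
    (hCB : ∀ u ∈ U, u ∈ centralizer (B : Set G) → u ∈ Lam ∨ u * z⁻¹ ∈ Lam) (i m : ι) :
    ∃ b ∈ B, b * e i * b⁻¹ = e m := by
  classical
  have := Fintype.ofFinite ι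
  obtain ⟨i0, hi0⟩ := h.nz
  have : Nonempty ι := ⟨i0⟩
  have he1 : ∀ i, e i ≠ 1 := by
    intro i h1
    apply h.ne i
    rw [eq_bot_iff]
    intro x hx
    rcases hce i x hx with h2 | h2
    · exact mem_bot.2 h2
    · exact mem_bot.2 (h2.trans h1)
  have heU : ∀ i, e i ∈ U := fun i => h.cU i (he i)
  obtain ⟨act, hact⟩ := h.exists_act
  letI := instU h.comm
  letI := actU h.comm h.BU
  let e' : ι → Additive ↥U := fun i => Additive.ofMul (⟨e i, heU i⟩ : ↥U)
  obtain ⟨t, ht⟩ := (h.toFr act hact).trans (e := e') (fun i => he i) (fun i h0 => he1 i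
      (congrArg (fun u : Additive ↥U => ((Additive.toMul u : ↥U) : G)) h0)) (fun i x hx => by
    rcases hce i _ hx with h1 | h1
    · left; exact Additive.toMul.injective (Subtype.ext h1)
    · right; exact Additive.toMul.injective (Subtype.ext h1)) (fun u hu => by
    have h1 : ((Additive.toMul u : ↥U) : G) ∈ centralizer (B : Set G) := by
      intro g hg
      have h2 := congrArg (fun u : Additive ↥U => ((Additive.toMul u : ↥U) : G)) (hu ⟨g, hg⟩)
      change g * (Additive.toMul u : ↥U) * g⁻¹ = (Additive.toMul u : ↥U) at h2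
      exact mul_inv_eq_iff_eq_mul.1 h2
    rcases hCB _ (Additive.toMul u : ↥U).2 h1 with h2 | h2
    · left
      intro i
      exact h.LamN i _ h2 (Additive.toMul u : ↥U).2
    · right
      intro i
      rw [mem_AA, toMul_sub, div_eq_mul_inv]
      exact h.LamN i _ h2 (mul_mem (Additive.toMul u : ↥U).2 (inv_mem (h.VU h.zV)))) i m
  have h1 := (hact t i).2
  have ht' : act.smul t i = m := ht
  rw [ht'] at h1
  refine ⟨t, t.2, ?_⟩
  have h2 : (t : G) * e i * (t : G)⁻¹ ∈ c m := by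
    rw [h1]
    exact ⟨_, he i, rfl⟩
  refine (hce m _ h2).resolve_left fun h3 => he1 i ?_
  have e1 : e i = (t : G)⁻¹ * ((t : G) * e i * (t : G)⁻¹) * t := by group
  rw [e1, h3]; group

end Cfsg.Agent.Omega.CaseLQ.PsiT

namespace Cfsg.Agent.Omega.CaseLQ.TvTwo

open Subgroup Cfsg Cfsg.Agent.ZN Cfsg.Agent.ZN.ChoiceBase Cfsg.Agent.ZN.ChoiceSit
open Cfsg.Agent.Omega.FFThm (OffM ElemM NoOverM NatKM SymKM StmtM)
open Cfsg.Agent.Omega.NO3S.RedC (MaxMin)
open Cfsg.Agent.Omega.OM.GLev (GE)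
open Cfsg.Agent.Omega.FrameFF (cv)
open Cfsg.Agent.Omega.NO3S.CaseLW.YBX (Xc mem_Xc Xc_le Concl)
open Cfsg.Agent.Omega.CaseLQ.PsiT
open Cfsg.Agent.Omega.CaseLQ.PsiYB

universe u

variable {G : Type u} [Group G]

/-- `A` acts on `U` as a group of transvections with centre `x` -/
structure Ctr (U A : Subgroup G) (x : G) : Prop where
  tv : ∀ a ∈ A, a ∉ centralizer (U : Set G) → Tv U a x
  ne : ¬ A ≤ centralizer (U : Set G)

namespace Ctr

variable {U A : Subgroup G} {x : G}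

theorem exists_tv (h : Ctr U A x) : ∃ a ∈ A, Tv U a x := by
  obtain ⟨a, ha, hac⟩ := SetLike.not_le_iff_exists.1 h.ne
  exact ⟨a, ha, h.tv a ha hac⟩

theorem eq_of (h : Ctr U A x) {a w : G} (ha : a ∈ A) (hw : w ∈ U) (hne : a * w * a⁻¹ * w⁻¹ ≠ 1) :
    a * w * a⁻¹ * w⁻¹ = x :=
  ((h.tv a ha fun hc => hne (one_iff.2 (mem_centralizer_iff.1 hc w hw).symm)).com w hw).resolve_left hne

theorem cj (h : Ctr U A x) {g : G} (hg : g ∈ normalizer (U : Set G)) : Ctr U (ChoiceBase.cj g A) (g * x * g⁻¹) := by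
  have key : ∀ a, a ∉ centralizer (U : Set G) ↔ g * a * g⁻¹ ∉ centralizer (U : Set G) := by
    intro a
    have h1 : ChoiceBase.cj g (centralizer (U : Set G)) = centralizer (U : Set G) := by
      rw [cj_centralizer, cj_eq_of_mem_normalizer hg]
    conv_rhs => rw [← h1]
    rw [mem_cj]
    have e : g⁻¹ * (g * a * g⁻¹) * g = a := by group
    rw [e]
  refine ⟨?_, fun hc => ?_⟩
  · rintro _ ⟨a, ha, rfl⟩ hac
    exact (h.tv a ha ((key a).2 hac)).cj hg
  · obtain ⟨a, ha, hac⟩ := SetLike.not_le_iff_exists.1 h.ne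
    exact (key a).1 hac (hc ⟨a, ha, rfl⟩)

end Ctr

variable [Finite G] {P T U H Y Q V Lam E A : Subgroup G} {z t d : G}

/-- all members are transvection groups -/
theorem exists_ctr (Uc : U ≤ centralizer (U : Set G)) (Us : ∀ u ∈ U, u ^ 2 = 1) (HU : H ≤ normalizer (U : Set G))
    (no : NoOverM U H) (m : MaxMin U H E) (ht : t ∈ E) (h : Tv U t d) (mA : MaxMin U H A) : ∃ x, Ctr U A x := by
  obtain ⟨s, hs, x, hx, hc⟩ := exists_tv Uc Us HU no m ht h mA
  refine ⟨x, fun a ha hac => ?_, mA.ne⟩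
  have h1 := (hc a ha).resolve_left hac
  refine ⟨HU (mA.le ha), hx.mem, fun w hw => ?_, hac⟩
  have h2 := mem_centralizer_iff.1 h1 w hw
  have e1 : a * w * a⁻¹ * w⁻¹ = s * (s⁻¹ * a * w) * (s⁻¹ * a)⁻¹ * s⁻¹ * w⁻¹ := by group
  have e2 : s * (w * (s⁻¹ * a)) * (s⁻¹ * a)⁻¹ * s⁻¹ * w⁻¹ = s * w * s⁻¹ * w⁻¹ := by group
  rw [e1, ← h2, e2]
  exact hx.com w hw

/-- **The lines do not have order `2`.** -/
theorem dead {κ : Type} [Finite κ] {Ni c : κ → Subgroup G} {e : κ → G} (s : YS U H T Y)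
    (no : NoOverM U H) (hc : Conc2 T Y U (Fam U H T) Ni c e)
    (fr : FrG (Xc U (Fam U H T)) T Q V z Lam Ni c)
    (cen : ∀ E ≤ T, MaxMin U H E → E ≤ centralizer (V : Set G)) (VU : V ≤ U) (PH : P ≤ H) (TP : T ≤ P)
    (PC : P ≤ normalizer ((T ⊓ centralizer (V : Set G) : Subgroup G) : Set G))
    (hCB : ∀ u ∈ U, u ∈ centralizer (T : Set G) → u ∈ Lam ∨ u * z⁻¹ ∈ Lam)
    (hPL : Lam ≤ centralizer (P : Set G)) (hmv : ∃ p ∈ P, p * z * p⁻¹ ≠ z)
    (hET : E ≤ T) (m : MaxMin U H E) (hEY : ¬ E ≤ o2 Y) (ht : t ∈ E) (h : Tv U t d) : False := by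
  classical
  have TH : T ≤ H := s.TY.trans s.YH
  have Uc' := s.U_mul
  have hCt : ∀ {A : Subgroup G}, MaxMin U H A → ∃ x, Ctr U A x := fun mA =>
    exists_ctr s.Uc s.Us s.HU no m ht h mA
  have hfam := bfam (U := U) (H := H) (T := T) TH
  -- `P` permutes the family
  have hFP : ∀ p ∈ P, ∀ A ∈ Fam U H T, cj p A ∈ Fam U H T := by
    intro p hp A hA
    refine hfam.conj A hA p (s.HU (PH hp)) ?_
    have h1 : A ≤ T ⊓ centralizer (V : Set G) := by
      rcases hA.2 with h2 | h2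
      · exact le_inf hA.1 (cen A hA.1 h2)
      · exact le_inf hA.1 (h2.trans (centralizer_le VU))
    have h2 := cj_mono p h1
    rw [cj_eq_of_mem_normalizer (PC hp)] at h2
    exact h2.trans inf_le_left
  -- the centre of `E`
  obtain ⟨x0, hx0⟩ := hCt m
  obtain ⟨a0, ha0, v0, hv0, i0, he0⟩ := hc.act E ⟨hET, Or.inl m⟩ hEY
  have hene : ∀ i, e i ≠ 1 := by
    intro i h1
    apply fr.ne i
    rw [eq_bot_iff]
    intro x hx
    rcases hc.all i x hx with h2 | h2
    · exact mem_bot.2 h2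
    · exact mem_bot.2 (h2.trans h1)
  have hxe : x0 = e i0 := by
    rw [← he0]
    exact (hx0.eq_of ha0 (s.VU hv0) (by rw [he0]; exact hene i0)).symm
  subst hxe
  let OO : Set G := {x | ∃ p ∈ P, x = p * e i0 * p⁻¹}
  -- a member with centre `x`
  have hmem : ∀ x ∈ OO, ∃ D, D ∈ Fam U H T ∧ MaxMin U H D ∧ Ctr U D x := by
    rintro _ ⟨p, hp, rfl⟩
    exact ⟨cj p E, hFP p hp E ⟨hET, Or.inl m⟩, m.cj (PH hp) s.HU, hx0.cj (s.HU (PH hp))⟩
  refine fr.two_false (P := P) (e := e) OO hc.mem hc.all (fun u hu hub => hCB u (Xc_le _ _ hu) hub) TP ?_ hPL ?_ ?_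
    (Set.toFinite _) ?_ ?_ ?_ hmv
  · -- `P` normalises `X'`
    intro p hp
    have key : ∀ p ∈ P, ∀ x ∈ Xc U (Fam U H T), p * x * p⁻¹ ∈ Xc U (Fam U H T) := by
      intro p hp x hx
      have hpU := s.HU (PH hp)
      refine mem_Xc.2 ⟨(mem_normalizer_iff.1 hpU x).1 (Xc_le _ _ hx), fun A hA a ha => ?_⟩
      have h1 := hFP p⁻¹ (inv_mem hp) A hA
      have h2 := (mem_Xc.1 hx).2 _ h1 (p⁻¹ * a * p) ⟨a, ha, by simp⟩
      have h3 := congrArg (fun w => p * w * p⁻¹) h2
      simpa [mul_assoc] using h3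
    rw [mem_normalizer_iff]
    intro x
    refine ⟨fun hx => key p hp x hx, fun hx => ?_⟩
    have h1 := key p⁻¹ (inv_mem hp) _ hx
    have e1 : p⁻¹ * (p * x * p⁻¹) * p⁻¹⁻¹ = x := by group
    rwa [e1] at h1
  · -- `hKL`
    intro u hu hub huN
    rcases hCB u (Xc_le _ _ hu) hub with h1 | h1
    · exact h1
    · exfalso
      obtain ⟨i, hi⟩ := fr.nz
      apply hi
      have h2 := fr.LamN i _ h1 (mul_mem hu (inv_mem (fr.VU fr.zV)))
      have h3 := mul_mem (inv_mem h2) (huN i)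
      have e1 : (u * z⁻¹)⁻¹ * u = z := by group
      rwa [e1] at h3
  · intro i
    obtain ⟨b, hb, hbe⟩ := fr.trans hc.mem hc.all (fun u hu hub => hCB u (Xc_le _ _ hu) hub) i0 i
    exact ⟨b, TP hb, hbe.symm⟩
  · rintro p hp _ ⟨p', hp', rfl⟩
    exact ⟨p * p', mul_mem hp hp', by group⟩
  · rintro _ ⟨p, hp, rfl⟩ _ ⟨p', hp', rfl⟩
    exact ⟨p' * p⁻¹, mul_mem hp' (inv_mem hp), by group⟩
  · intro x hx
    obtain ⟨D, hDF, mD, cD⟩ := hmem x hx
    by_cases hDY : D ≤ o2 Y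
    · right
      obtain ⟨sD, hsD, tD⟩ := cD.exists_tv
      refine hc.cen x tD.mem fun A hA y hy a ha => ?_
      have hyU := s.HU (s.YH hy)
      by_cases hac : a ∈ centralizer (U : Set G)
      · have h1 : y * a * y⁻¹ ∈ centralizer (U : Set G) := by
          rw [mem_centralizer_iff]
          intro w hw
          have h2 : y⁻¹ * w * y ∈ U := by
            have := (mem_normalizer_iff.1 (inv_mem hyU) w).1 hw
            rwa [inv_inv] at this
          have h3 := mem_centralizer_iff.1 hac _ h2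
          have e1 : w * (y * a * y⁻¹) = y * (y⁻¹ * w * y * a) * y⁻¹ := by group
          have e2 : y * a * y⁻¹ * w = y * (a * (y⁻¹ * w * y)) * y⁻¹ := by group
          rw [e1, e2, h3]
        exact (mem_centralizer_iff.1 h1 x tD.mem).symm
      · have mA : MaxMin U H A := by
          rcases hA.2 with h1 | h1
          · exact h1
          · exact absurd (h1 ha) hac
        obtain ⟨xA, cA⟩ := hCt mA
        have tA := (cA.tv a ha hac).cj hyU
        -- the 2-group `T^y`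
        have hR : IsPGroup 2 ↥(cj y T) := ChoiceBase.isPGroup_cj y s.syl.2.1
        have hRH : cj y T ≤ H := by
          have h1 := cj_mono y s.TY
          rw [cj_eq_of_mem_normalizer (le_normalizer hy)] at h1
          exact h1.trans s.YH
        have hoR : o2 Y ≤ cj y T := by
          have h1 := cj_mono y (o2_le_syl s.syl)
          rwa [cj_eq_of_mem_normalizer (ChoiceSit.le_normalizer_o2 Y hy)] at h1
        exact Tv.comm_of hR Uc' s.Us (fun X hX => no X (hX.trans hRH)) (hoR (hDY hsD)) ⟨a, hA.1 ha, rfl⟩ tD tA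
    · left
      obtain ⟨a, ha, v, hv, i, hai⟩ := hc.act D hDF hDY
      exact ⟨i, by rw [← hai]; exact (cD.eq_of ha (s.VU hv) (by rw [hai]; exact hene i)).symm⟩

/-- **`Y` has natural blocks over a field of order at least `4`.** -/
theorem nat_four (s : YS U H T Y) (hFF : StmtM.{u})
    (frg : ∀ {κ : Type} [Finite κ] {Ni c : κ → Subgroup G}, Concl T Y U (Fam U H T) Ni c →
      FrG (Xc U (Fam U H T)) T Q V z Lam Ni c)
    (cen : ∀ E ≤ T, MaxMin U H E → E ≤ centralizer (V : Set G))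
    (hex : ∃ E, E ≤ T ∧ MaxMin U H E ∧ ¬ E ≤ o2 Y) (VU : V ≤ U) (PH : P ≤ H) (TP : T ≤ P)
    (PC : P ≤ normalizer ((T ⊓ centralizer (V : Set G) : Subgroup G) : Set G))
    (hCB : ∀ u ∈ U, u ∈ centralizer (T : Set G) → u ∈ Lam ∨ u * z⁻¹ ∈ Lam)
    (hPL : Lam ≤ centralizer (P : Set G)) (hmv : ∃ p ∈ P, p * z * p⁻¹ ≠ z) :
    ∃ (F : Type) (_ : Field F) (_ : Finite F) (_ : CharP F 2) (k : ℕ), 0 < k ∧ (∃ x : F, x ≠ 0 ∧ x ≠ 1) ∧
      Nonempty (NatKM F T Y (zl T Y) (cv T Y) k) := by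
  classical
  obtain ⟨E, hET, m, hEY⟩ := hex
  have TH : T ≤ H := s.TY.trans s.YH
  have hfam := bfam (U := U) (H := H) (T := T) TH
  have hEF : E ∈ Fam U H T := ⟨hET, Or.inl m⟩
  have hne : ¬ E ≤ centralizer (zl T Y : Set G) := fun h => hEY ((le_inf hET h).trans s.cap)
  have hoff := NO3S.OneLine.BFam.offM hfam s.U_mul s.VU hEF hne
  obtain ⟨noV, con⟩ := hFF G T Y s.syl s.min s.c2 ⟨E, hET.trans s.TY, hoff⟩
  have ge : GE T Y U (Fam U H T) :=
    { hm := s.hm
      fam := hfam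
      elem := Cfsg.Agent.PLocal.ThompsonJ.isElementaryAbelian_iff.2 ⟨s.U_mul, s.Us⟩
      norm := s.YH.trans s.HU
      VX := s.VU
      QC := s.cap
      noOver := noV }
  have hno := noV E (hET.trans s.TY) hoff.toElemM
  obtain ⟨no, mo⟩ := m.minOff s.HU s.VU hno hne
  have hcut := mo.cut s.VU hno hne
  have hsp : ∀ u ∈ U, ∃ v ∈ zl T Y, ∃ c ∈ U, (∀ a ∈ E, a * c = c * a) ∧ u = v * c := by
    intro u hu
    have h1 := (ge.cut hEF).2
    have h2 : u ∈ U ⊓ centralizer ((E ⊓ o2 Y : Subgroup G) : Set G) := by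
      refine ⟨hu, mem_centralizer_iff.2 fun a ha => ?_⟩
      have h3 : a ∈ E ⊓ centralizer (zl T Y : Set G) := by rw [ge.inf_cent hET]; exact ha
      exact (mem_centralizer_iff.1 (hcut h3) u hu).symm
    rw [← h1] at h2
    obtain ⟨v, hv, c, hc, rfl⟩ := SQ1.Bau.mem_sup_comm (A := zl T Y) (B := U ⊓ centralizer (E : Set G))
      (fun v hv x hx => s.U_mul v (s.VU hv) x hx.1) h2
    exact ⟨v, hv, c, hc.1, fun a ha => mem_centralizer_iff.1 hc.2 a ha, rfl⟩
  rcases con with ⟨F, _, _, _, k, hk, ⟨N⟩⟩ | ⟨k, r, hk, hr, ⟨N⟩⟩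
  · by_cases hF : ∀ x : F, x = 0 ∨ x = 1
    · exfalso
      obtain ⟨Ni, c, e, hc⟩ := nat_two ge N hk hF ⟨E, hEF, hEY⟩ s.mv
      obtain ⟨t, ht, d, htv⟩ := nat_tv ge N hk hF hEF hEY hsp
      exact dead s no hc (frg hc.toConcl) cen VU PH TP PC hCB hPL hmv hET m hEY ht htv
    · push Not at hF
      exact ⟨F, inferInstance, inferInstance, inferInstance, k, hk, hF, ⟨N⟩⟩
  · exfalso
    obtain ⟨ι, _, Ni, c, e, hc⟩ := sym_two ge s.UT N hk (by omega) ⟨E, hEF, hEY⟩ s.mv
    obtain ⟨t, ht, d, htv⟩ := sym_tv ge N hk (by omega) hEF hEY hsp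
    exact dead s no hc (frg hc.toConcl) cen VU PH TP PC hCB hPL hmv hET m hEY ht htv

end Cfsg.Agent.Omega.CaseLQ.TvTwo
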