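import Cfsg.Agent.Omega.CaseLQ.TorusOf
import Cfsg.Agent.Omega.CaseLQ.OneY

/-!
# The weird parabolics of the case (L), `q = 2`: the torus (#25080 (d)), the field `nat` of `TorP`

* `TS.up_of` : `O₂(P)` acts on `V` inside the product of the root groups;
* `nat_of` : **(d)** over `MulL .. 2`: one block, `|F| = 4`, the line is `V_j`.
-/

set_option autoImplicit false
set_option linter.unusedSectionVars false

namespace Cfsg.Agent.Omega.CaseLQ.Torus

open Subgroup Cfsg Cfsg.Agent.ZN Cfsg.Agent.ZN.ChoiceBase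
open Cfsg.Agent.ZN.ChoiceSit (Syl syl_conj)
open Cfsg.Agent.MinSimple.MinParabolic (IsMinPar)
open Cfsg.Agent.MinSimple.VModule (oddGen oddGen_le mem_oddGen)
open Cfsg.Agent.Omega.FFThm (NatK NatKM ActsSL OffM)
open Cfsg.Agent.Omega.FrameFF (cv)
open Cfsg.Agent.Omega.NO1.BestOff (Best)
open Cfsg.Agent.Omega.NO3b.Wc (WC)
open Cfsg.Agent.Omega.SQ1.FFOne (MinH syl_inf mem_norm_of)
open Cfsg.Agent.Omega.NatPair (ap ap_zero' ap_one' ap_one ap_mul ap_add ext2 ap_inv_ap ap_inj)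
open Cfsg.Agent.Omega.NO3S.OneLine (NatC natC_of)
open Cfsg.Agent.Omega.NO3S.EThree.Frame (Bg Fg)
open Cfsg.Agent.Omega.NO3S.Level
open Cfsg.Agent.Omega.NO3S.RedC
open Cfsg.Agent.Omega.NO3S.WY
open Cfsg.Agent.Omega.Node.MulX (MulL)
open Cfsg.Agent.Lib.SL2Mat

universe u

variable {G : Type u} [Group G] [Finite G]

section up

variable {F : Type} [Field F] [CharP F 2] {B Y V D : Subgroup G} {k : ℕ} {M : NatC F B Y V D k} {Q K : Subgroup G}
  {z : G}

/-- **`Q` acts inside the root groups.** -/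
theorem TS.up_of (t : TS M Q K z) (cap : ∀ x ∈ B, (∀ v ∈ V, x * v * x⁻¹ * v⁻¹ ∈ D) → x ∈ o2 Y) {E1 : Subgroup G}
    (hE : E1 ≤ X0 M) (hEQ : Q ≤ centralizer (E1 : Set G)) (hEc : ∀ v ∈ X0 M, ∃ c ∈ E1, M.nat.e c = M.nat.e v)
    {c : G} (hc : c ∈ Q) : ∃ b : Fin k → F, ActsSL M.nat.e V D c fun i => up (b i) := by
  classical
  have hcT := t.QB hc
  have hcH := t.BY hcT
  have hV : ∀ g ∈ Y, ∀ v ∈ V, g * v * g⁻¹ ∈ V := M.Vn
  -- the elements on the lines
  have hz : ∀ i (x : F), ∃ z ∈ E1, M.nat.e z i = ![x, 0] ∧ ∀ j, j ≠ i → M.nat.e z j = 0 := by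
    intro i x
    obtain ⟨w, hw, ew⟩ := M.nat.surj (Pi.single i ![x, 0])
    obtain ⟨c, hc, ec⟩ := hEc w ⟨hw, fun j => by
      rw [ew]
      by_cases hj : j = i
      · subst hj; rw [Pi.single_eq_same]; rfl
      · rw [Pi.single_eq_of_ne hj]; rfl⟩
    refine ⟨c, hc, by rw [ec, ew, Pi.single_eq_same], fun j hj => by rw [ec, ew, Pi.single_eq_of_ne hj]⟩
  obtain ⟨σ, hσ⟩ := M.nat.perm c hcH
  have hcz : ∀ z ∈ E1, c * z * c⁻¹ = z := fun z hz => by
    have h3 := mem_centralizer_iff.1 (hEQ hc) z hz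
    rw [← h3, mul_inv_cancel_right]
  have hσi : ∀ i, σ i = i := by
    intro i
    obtain ⟨z, hzZ, hz1, hz2⟩ := hz i 1
    by_contra hne
    have h3 := (hσ z (hE hzZ).1 i).1 (by rw [hcz z hzZ]; exact hz2 _ hne)
    rw [hz1] at h3
    have h5 := congrFun h3 0
    simp at h5
  have hcV : ∀ v ∈ V, c * v * c⁻¹ ∈ V := hV c hcH
  have hs : ∀ i (x : Fin 2 → F), ∃ v ∈ V, M.nat.e v i = x := fun i x => by
    obtain ⟨v, hv, hev⟩ := M.nat.surj fun _ => x
    exact ⟨v, hv, by rw [hev]⟩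
  choose r hr hrx using hs
  have hdiv : ∀ v ∈ V, ∀ w ∈ V, M.nat.e (v * w⁻¹) = M.nat.e v - M.nat.e w := fun v hv w hw => M.map_div hv hw
  have hφ : ∀ i, ∀ v ∈ V, M.nat.e (c * v * c⁻¹) i = M.nat.e (c * r i (M.nat.e v i) * c⁻¹) i := by
    intro i v hv
    have hw := hr i (M.nat.e v i)
    have h3 : M.nat.e (v * (r i (M.nat.e v i))⁻¹) i = 0 := by
      rw [hdiv v hv _ hw, Pi.sub_apply, hrx, sub_self]
    have h4 := (hσ _ (mul_mem hv (inv_mem hw)) i).2 h3
    rw [hσi] at h4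
    have e1 : c * (v * (r i (M.nat.e v i))⁻¹) * c⁻¹ = (c * v * c⁻¹) * (c * r i (M.nat.e v i) * c⁻¹)⁻¹ := by group
    rw [e1, hdiv _ (hcV v hv) _ (hcV _ hw), Pi.sub_apply] at h4
    exact sub_eq_zero.1 h4
  have hb : ∀ i, ∃ b : F, ∀ x, M.nat.e (c * r i x * c⁻¹) i = ap (up b) x := by
    intro i
    refine exists_up_of_fix (fun x => M.nat.e (c * r i x * c⁻¹) i) ?_ ?_ ?_ ?_
    · intro x y
      have h3 := hφ i _ (mul_mem (hr i x) (hr i y))
      rw [M.nat.mul _ (hr i x) _ (hr i y), Pi.add_apply, hrx, hrx] at h3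
      show M.nat.e (c * r i (x + y) * c⁻¹) i = _
      rw [← h3]
      have e1 : c * (r i x * r i y) * c⁻¹ = (c * r i x * c⁻¹) * (c * r i y * c⁻¹) := by group
      rw [e1, M.nat.mul _ (hcV _ (hr i x)) _ (hcV _ (hr i y))]
      rfl
    · intro x
      obtain ⟨z, hzZ, hz1, -⟩ := hz i x
      have h3 := hφ i z (hE hzZ).1
      rw [hz1, hcz z hzZ, hz1] at h3
      exact h3.symm
    · intro A
      obtain ⟨g, hg, hgA⟩ := M.nat.lift fun _ => A
      obtain ⟨B, hB⟩ := M.nat.norm c hcH g hg (fun _ => A) hgA.1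
      refine ⟨B i, fun x => ?_⟩
      have h3 := hgA.1 (r i x) (hr i x) i
      rw [hrx] at h3
      have hgr := hV g hg _ (hr i x)
      have h4 := hφ i _ hgr
      rw [h3] at h4
      show M.nat.e (c * r i (ap A x) * c⁻¹) i = ap (B i) (M.nat.e (c * r i x * c⁻¹) i)
      have e1 : c * (g * r i x * g⁻¹) * c⁻¹ = c * g * c⁻¹ * (c * r i x * c⁻¹) * (c * g * c⁻¹)⁻¹ := by group
      rw [← h4, ← hB _ (hcV _ (hr i x)) i, e1]
    · obtain ⟨n, hn⟩ := t.hm.syl.2.1 ⟨c, hcT⟩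
      have hn' : c ^ 2 ^ n = 1 := congrArg Subtype.val hn
      have hit : ∀ l : ℕ, ∀ v ∈ V, (fun x => M.nat.e (c * r i x * c⁻¹) i)^[l] (M.nat.e v i) =
          M.nat.e (c ^ l * v * (c ^ l)⁻¹) i := by
        intro l
        induction l with
        | zero => intro v _; simp
        | succ l ih =>
          intro v hv
          have h5 := hV _ (pow_mem hcH l) v hv
          have e1 : c * (c ^ l * v * (c ^ l)⁻¹) * c⁻¹ = c ^ (l + 1) * v * (c ^ (l + 1))⁻¹ := by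
            rw [pow_succ']
            group
          rw [Function.iterate_succ_apply', ih v hv]
          show M.nat.e (c * r i (M.nat.e (c ^ l * v * (c ^ l)⁻¹) i) * c⁻¹) i = _
          rw [← hφ i _ h5, e1]
      refine ⟨n, fun x => ?_⟩
      have h3 := hit (2 ^ n) (r i x) (hr i x)
      rw [hn', one_mul, inv_one, mul_one, hrx] at h3
      exact h3
  choose b hb using hb
  obtain ⟨e0, he0, hact⟩ := t.KM b
  have heY := t.BY (t.KB he0)
  have hxo : e0⁻¹ * c ∈ o2 Y := by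
    refine cap _ (mul_mem (inv_mem (t.KB he0)) hcT) fun v hv => ?_
    have hxY : e0⁻¹ * c ∈ Y := mul_mem (inv_mem heY) hcH
    have hw := hV _ hxY v hv
    rw [← M.nat.ker _ (mul_mem hw (inv_mem hv)), hdiv _ hw _ hv, sub_eq_zero]
    funext i
    have h3 := hact.1 _ hw i
    have e1 : e0 * (e0⁻¹ * c * v * (e0⁻¹ * c)⁻¹) * e0⁻¹ = c * v * c⁻¹ := by group
    rw [e1, hφ i v hv, hb] at h3
    have h4 := congrArg (ap (up (b i))⁻¹) h3
    rw [ap_inv_ap, ap_inv_ap] at h4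
    exact h4.symm
  refine ⟨b, fun v hv i => ?_, fun d hd => ?_⟩
  · rw [hφ i v hv, hb]
  · have e1 : Commute (e0⁻¹ * c) d := M.VcQ _ hxo d (M.DV hd)
    have e2 : Commute e0 d := hact.2 d hd
    have e3 := e2.mul_left e1
    have e4 : e0 * (e0⁻¹ * c) = c := by group
    rw [e4] at e3
    exact e3.eq

end up

/-! ### Over `MulL` -/

section mul

variable {S : Sylow 2 G} {P B ZJ Y U K : Subgroup G} {m : ℕ} {L W Z C A : Fin m → Subgroup G} {j : Fin m}
  {𝒜 : Set (Subgroup G)}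

/-- `Y` moves `Z j`. -/
theorem exists_z (h : MulL S P B ZJ L W Z C A 2) (wj : WJ S P B Z j Y) :
    ∃ z ∈ Z j, z ∈ zc B ∧ z ∉ cv B Y := by
  have hzc : zc B = ZJ := h.fr.zcB
  by_contra hcon
  push Not at hcon
  apply wj.mv
  have hZ : ∀ z ∈ Z j, z ∈ centralizer (Y : Set G) := by
    intro z hz
    have hzB : z ∈ zc B := by rw [hzc]; exact h.fr.Z_le j hz
    have h1 := hcon z hz hzB
    have h2 : z ∈ centralizer ((oddGen Y ⊔ B : Subgroup G) : Set G) := by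
      have h3 : oddGen Y ⊔ B ≤ centralizer ((zpowers z : Subgroup G) : Set G) := by
        refine sup_le ?_ ?_
        · rw [le_centralizer_iff]
          exact (zpowers_le (H := centralizer (oddGen Y : Set G))).2 h1.2
        · rw [le_centralizer_iff]
          refine (zpowers_le (H := centralizer (B : Set G))).2 (mem_centralizer_iff.2 fun b hb => ?_)
          exact (ChoiceBase.mem_zc.1 hzB).2.2 b hb
      exact (le_centralizer_iff.1 h3) (mem_zpowers z)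
    rwa [NO3b.EZero.oddGen_sup_syl wj.syl] at h2
  rw [hzc]
  rw [le_centralizer_iff]
  intro x hx
  obtain ⟨w, hw, c, hc, hcJ, rfl⟩ := h.fr.split_ZJ j hx
  refine mul_mem (hZ w hw) ?_
  have h4 := ZC_le h.bg j (mem_inf.2 ⟨hcJ, hc⟩)
  refine (iSup_le fun l => ?_ : (⨆ l : {l : Fin m // l ≠ j}, Z l) ≤ centralizer (Y : Set G)) h4
  rw [le_centralizer_iff]
  exact wj.cen l l.2

/-- **(d) of #25080**: one natural block over `F₄`, the line is `V_j`, `O₂(P)` acts inside the root group. -/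
theorem nat_of (h : MulL S P B ZJ L W Z C A 2) (wj : WJ S P B Z j Y) (ks : KSh S P Y U K 𝒜)
    (Uc : U ≤ centralizer (U : Set G)) (VU : zl B Y ≤ U) {F : Type} [Field F] [Finite F] [CharP F 2] {k : ℕ}
    (N : NatKM F B Y (zl B Y) (cv B Y) k) (hk : 0 < k) (h4 : 4 ≤ Nat.card F)
    (mx : ∀ Y' : Subgroup G, WJ S P B Z j Y' →
      Nat.card (DX (S : Subgroup G) P Y') ≤ Nat.card (DX (S : Subgroup G) P Y)) :
    ∃ (F : Type) (_ : Field F) (_ : Finite F) (_ : CharP F 2) (N : NatKM F B Y (zl B Y) (cv B Y) 1),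
      Nat.card F = 4 ∧ (∀ v ∈ zl B Y, N.e v 0 1 = 0 ↔ v ∈ W j ⊔ cv B Y) ∧
        ∀ q ∈ o2 P, ∃ b : F, ActsSL N.e (zl B Y) (cv B Y) q fun _ => up b := by
  have wy : WY S P B Y := wj.toWY
  have hm : MinH Y B := SQ1.FFOne.minH_of wy.syl wy.min wy.c2
  obtain ⟨z, hzj, hz, hzD⟩ := exists_z h wj
  have t : TS (natC_of hm hk N.toNatK) (o2 P) K z := by
    refine ts_of wy ks Uc VU N hk rfl hz hzD fun Y' hY' hYY hmv => mx Y' ?_
    exact { hY' with cen := fun l hl => hYY.trans (wj.cen l hl) }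
  have hVQ : zl B Y ⊓ centralizer (o2 P : Set G) ≤ zl (S : Subgroup G) P := by
    have h1 : zl B Y ≤ zc (DX (S : Subgroup G) P Y) := ZN.zl_le wy.zcT_le_V (wy.Y_le.trans (GX_norm _ _ _))
    rw [← wy.cvQ]
    exact inf_le_inf_right _ h1
  have hZD : ∀ l, l ≠ j → Z l ≤ cv B Y := by
    intro l hl
    have h1 : Z l ≤ zl B Y := by
      refine le_trans ?_ SQ1.VOf.zc_le_zl
      rw [h.fr.zcB]
      exact h.fr.Z_le l
    refine le_inf h1 ?_
    rw [le_centralizer_iff]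
    exact (oddGen_le Y).trans (wj.cen l hl)
  obtain ⟨⟨E1, hE, hEQ, -, -, hEc⟩, rfl, hc4, hX⟩ := TS.one_of h.bg t h4 hVQ hZD
  refine ⟨F, inferInstance, inferInstance, inferInstance, N, hc4, fun v hv => ?_, fun q hq => ?_⟩
  · rw [← hX]
    constructor
    · intro h0
      refine ⟨hv, fun i => ?_⟩
      rw [Subsingleton.elim i 0]
      exact h0
    · intro h0
      exact h0.2 0
  · obtain ⟨b, hb⟩ := t.up_of (fun x hx hxD => capD hm wy.min wy.mv hx hxD) hE hEQ hEc hq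
    refine ⟨b 0, fun v hv i => ?_, hb.2⟩
    have := hb.1 v hv i
    rw [Subsingleton.elim i 0] at this ⊢
    exact this

end mul

end Cfsg.Agent.Omega.CaseLQ.Torus
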