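import Cfsg.Agent.Omega.CaseLQ.TorusEnd
import Cfsg.Agent.Omega.CaseLQ.Rt
import Cfsg.Agent.Omega.NO3S.WY.Tor.Lit

/-!
# The weird parabolics of the case (L), `q = 2`: the torus (#25080 (d)), the instance

* `ts_of` : the situation `TS` of `Torus.lean` from `WY S P B Y`, `KSh S P Y U K 𝒜`, `NatKM .. k` and the maximality of
  `|DX S P Y|` (no `Bg`: it serves natural blocks and `S₅`);
* `TS.up_of` : `O₂(P)` acts inside the root groups;
* `nat_of` : **(d)** over `MulL .. 2`: the field `nat` of `TorP` (`WY/Tor/Lit.lean`).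
-/

set_option autoImplicit false
set_option linter.unusedSectionVars false

namespace Cfsg.Agent.Omega.CaseLQ.Torus

open Subgroup Cfsg Cfsg.Agent.ZN Cfsg.Agent.ZN.ChoiceBase
open Cfsg.Agent.ZN.ChoiceSit (Syl syl_conj)
open Cfsg.Agent.MinSimple.MinParabolic (IsMinPar)
open Cfsg.Agent.MinSimple.VModule (oddGen oddGen_le mem_oddGen)
open Cfsg.Agent.Omega.FFThm (NatK NatKM ActsSL OffM)
open Cfsg.Agent.Omega.FrameFF (cv)
open Cfsg.Agent.Omega.NO1.BestOff (Best)
open Cfsg.Agent.Omega.NO3b.Wc (WC)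
open Cfsg.Agent.Omega.NO3b.K0 (conj_mem' cj_of_le cj_self min_or)
open Cfsg.Agent.Omega.NO3S.NotFF (le_normalizer_of_forall)
open Cfsg.Agent.Omega.NO3S.Fld (kmod mem_kmod norm_kmod kmod_le)
open Cfsg.Agent.Omega.SQ1.FFOne (MinH syl_inf mem_norm_of)
open Cfsg.Agent.Omega.NatPair (ap ap_zero' ap_one' ap_one ap_mul ap_add ext2 ap_inv_ap ap_inj)
open Cfsg.Agent.Omega.NO3S.OneLine (NatC natC_of)
open Cfsg.Agent.Omega.NO3S.EThree.Frame (Bg Fg)
open Cfsg.Agent.Omega.NO3S.Level
open Cfsg.Agent.Omega.NO3S.RedC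
open Cfsg.Agent.Omega.NO3S.WY
open Cfsg.Agent.Omega.Node.MulX (MulL)
open Cfsg.Agent.Lib.SL2Mat

universe u

variable {G : Type u} [Group G] [Finite G]

/-! ### `C_B(V / D) = O₂(Y)` -/

theorem odd_not {B Y : Subgroup G} (hs : Syl B Y) (mv : ¬ Y ≤ centralizer (zc B : Set G)) :
    ¬ oddGen Y ≤ centralizer (zl B Y : Set G) := by
  intro h0
  apply mv
  rw [← NO3b.EZero.oddGen_sup_syl hs]
  exact sup_le (h0.trans (centralizer_le SQ1.VOf.zc_le_zl)) (NO3S.Level.le_centralizer_zc _)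

/-- `C_B(V / C_V(O²(Y))) ≤ O₂(Y)` (749's `OY.cap'`) -/
theorem capD {B Y : Subgroup G} (hm : MinH Y B) (hmin : IsMinPar B Y) (mv : ¬ Y ≤ centralizer (zc B : Set G)) {x : G}
    (hx : x ∈ B) (h : ∀ v ∈ zl B Y, x * v * x⁻¹ * v⁻¹ ∈ cv B Y) : x ∈ o2 Y := by
  have hs := hm.syl
  have YV : Y ≤ normalizer (zl B Y : Set G) := MinSimple.VModule.le_normalizer_zl B Y
  have hD : Y ≤ normalizer (cv B Y : Set G) := le_normalizer_of_forall fun g hg d hd => SQ1.FFOf.cv_norm g hg d hd
  rcases min_or hs hmin (K := kmod Y (zl B Y) (cv B Y) YV hD) kmod_le (norm_kmod _ _) with h2 | h2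
  · refine absurd ?_ (odd_not hs mv)
    have hcl : oddGen Y = closure {x : G | x ∈ Y ∧ Odd (orderOf x)} := rfl
    rw [hcl, closure_le]
    rintro g ⟨hg, ho⟩
    have hgo : g ∈ oddGen Y := mem_oddGen hg ho
    refine mem_centralizer_iff.2 fun v hv => ?_
    have h3 := (mem_kmod.1 (h2 hgo)).2 v hv
    set d := g * v * g⁻¹ * v⁻¹ with hd
    have hgd : g * d = d * g := mem_centralizer_iff.1 h3.2 g hgo
    have h4 : ∀ n : ℕ, g ^ n * v * (g ^ n)⁻¹ = d ^ n * v := by
      intro n
      induction n with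
      | zero => simp
      | succ n ih =>
        have e1 : g ^ (n + 1) * v * (g ^ (n + 1))⁻¹ = g * (g ^ n * v * (g ^ n)⁻¹) * g⁻¹ := by
          rw [pow_succ']; group
        have e2 : g * (d ^ n * v) * g⁻¹ = (g * d ^ n * g⁻¹) * (g * v * g⁻¹) := by group
        have e3 : g * d ^ n * g⁻¹ = d ^ n := by
          have : Commute g (d ^ n) := (show Commute g d from hgd).pow_right n
          rw [this.eq, mul_inv_cancel_right]
        have e4 : g * v * g⁻¹ = d * v := by rw [hd]; group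
        rw [e1, ih, e2, e3, e4, pow_succ, ← mul_assoc]
    have h5 := h4 (orderOf g)
    rw [pow_orderOf_eq_one, one_mul, inv_one, mul_one] at h5
    have h6 : d ^ orderOf g = 1 := (mul_eq_right.1 h5.symm)
    have h7 : d ^ 2 = 1 := SQ1.VOf.MinH.sq hm d h3.1
    obtain ⟨r, hr⟩ := ho
    rw [hr, pow_succ, pow_mul, h7, one_pow, one_mul] at h6
    have e5 : g * v = d * v * g := by rw [hd]; group
    rw [e5, h6, one_mul]
  · exact h2 ⟨hx, mem_kmod.2 ⟨hs.1 hx, h⟩⟩

/-! ### The instance of `TS` -/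

section ts

variable {S : Sylow 2 G} {P B Y U K : Subgroup G} {𝒜 : Set (Subgroup G)} {F : Type} [Field F] [Finite F] [CharP F 2]
  {k : ℕ}

/-- `K` consists of upper unitriangular elements. -/
theorem K_up (wy : WY S P B Y) (ks : KSh S P Y U K 𝒜) (Uc : U ≤ centralizer (U : Set G)) (VU : zl B Y ≤ U)
    (N : NatKM F B Y (zl B Y) (cv B Y) k) (hk : 0 < k) {M : NatC F B Y (zl B Y) (cv B Y) k}
    (hM : M.nat = N.toNatK) : K ≤ TS.UX M := by
  rw [ks.eq]
  have hAB : ∀ A ∈ 𝒜, A ≤ B := fun A hA => (ks.leP A hA).trans wy.QT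
  have hm : MinH Y B := SQ1.FFOne.minH_of wy.syl wy.min wy.c2
  refine sup_le ?_ (sSup_le fun A hA => ?_)
  · refine (DX_le_X _ _ _).trans fun x hx => ?_
    have hxY : x ∈ Y := wy.T_Y (wy.o2Y_T hx)
    exact TS.CY_le_UX M (mem_inf.2 ⟨hxY, mem_centralizer_iff.2 fun v hv => (M.VcQ x hx v hv).symm⟩)
  · intro a ha
    have haY : a ∈ Y := wy.T_Y (hAB A hA ha)
    rcases best_or Uc VU (ks.best A hA) with h1 | h1
    · exact TS.CY_le_UX M (mem_inf.2 ⟨haY, h1 ha⟩)
    · obtain ⟨I, h2, -⟩ := N.offM A (hAB A hA) h1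
      obtain ⟨b, -, hb⟩ := h2 a ha
      exact ⟨haY, b, by rw [hM]; exact hb⟩

/-- `K` induces all upper unitriangular elements. -/
theorem K_full (wy : WY S P B Y) (ks : KSh S P Y U K 𝒜) (Uc : U ≤ centralizer (U : Set G)) (VU : zl B Y ≤ U)
    (N : NatKM F B Y (zl B Y) (cv B Y) k) (hk : 0 < k) {M : NatC F B Y (zl B Y) (cv B Y) k}
    (hM : M.nat = N.toNatK) (b : Fin k → F) : ∃ t ∈ K, ActsSL M.nat.e (zl B Y) (cv B Y) t fun i => up (b i) := by
  classical
  have hm : MinH Y B := SQ1.FFOne.minH_of wy.syl wy.min wy.c2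
  have hAB : ∀ A ∈ 𝒜, A ≤ B := fun A hA => (ks.leP A hA).trans wy.QT
  have hKup := K_up wy ks Uc VU N hk hM
  have hBS : B ≤ (S : Subgroup G) := wy.TS
  have hBY : B ≤ Y := wy.T_Y
  have hcap : B ⊓ centralizer (zl B Y : Set G) ≤ o2 Y := fun x hx => by
    refine capD hm wy.min wy.mv hx.1 fun v hv => ?_
    rw [mem_centralizer_iff.1 hx.2 v hv |>.symm, mul_inv_cancel_right, mul_inv_cancel]
    exact one_mem _
  -- a member which moves `V`
  obtain ⟨A, hA, hAY⟩ := ks.exists_act
  have hAc : ¬ A ≤ centralizer (zl B Y : Set G) := fun hc => hAY ((le_inf (hAB A hA) hc).trans hcap)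
  have hAoff : OffM (zl B Y) A := (best_or Uc VU (ks.best A hA)).resolve_left hAc
  obtain ⟨I, h1, h2⟩ := N.offM A (hAB A hA) hAoff
  rw [← hM] at h1 h2
  -- `I` is not empty
  obtain ⟨i₀, hi₀⟩ : I.Nonempty := by
    by_contra hcon
    rw [Set.not_nonempty_iff_eq_empty] at hcon
    apply hAc
    intro a ha
    obtain ⟨b, hb0, hb⟩ := h1 a ha
    have hb1 : b = 0 := by
      funext l
      exact hb0 l (by rw [hcon]; simp)
    subst hb1
    have hs : a ∈ M.stab := by
      refine ⟨hBY (hAB A hA ha), fun w hw l => ?_, hb.2⟩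
      have h5 : M.nat.e (a * w * a⁻¹) l = ap (up ((0 : Fin k → F) l)) (M.nat.e w l) := hb.1 w hw l
      rw [Pi.zero_apply, up_zero] at h5
      exact h5
    exact mem_centralizer_iff.2 fun w hw => (M.cent_of_stab hm hs hw).symm
  -- the additive subgroup of the induced elements
  let R : AddSubgroup (Fin k → F) :=
    { carrier := {b | ∃ t ∈ K, ActsSL M.nat.e (zl B Y) (cv B Y) t fun i => up (b i)}
      add_mem' := by
        rintro b c ⟨t, ht, htb⟩ ⟨s, hs, hsc⟩
        refine ⟨t * s, mul_mem ht hs, ?_, fun d hd => ?_⟩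
        · have h3 := NatC.acts_mul (M := M) (hBY (wy.QT (ks.le hs))) htb.1 hsc.1
          have e : ((fun i => up (b i)) * fun i => up (c i)) = fun i => up ((b + c) i) := by
            funext i
            rw [Pi.mul_apply, up_mul, Pi.add_apply]
          rwa [e] at h3
        · have e1 : Commute t d := htb.2 d hd
          have e2 : Commute s d := hsc.2 d hd
          exact (e1.mul_left e2).eq
      zero_mem' := ⟨1, one_mem _, by
        have h3 := NatC.acts_one (M := M)
        have e : (1 : Fin k → Matrix.SpecialLinearGroup (Fin 2) F) = fun i => up ((0 : Fin k → F) i) := by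
          funext i
          rw [Pi.zero_apply, up_zero, Pi.one_apply]
        rwa [e] at h3, fun d _ => by simp⟩
      neg_mem' := by
        rintro b ⟨t, ht, htb⟩
        refine ⟨t⁻¹, inv_mem ht, ?_, fun d hd => ?_⟩
        · have h3 := NatC.acts_inv (M := M) (hBY (wy.QT (ks.le ht))) htb.1
          have e : (fun i => up (b i))⁻¹ = fun i => up ((-b) i) := by
            funext i
            rw [Pi.inv_apply, up_inv, Pi.neg_apply]
          rwa [e] at h3
        · have e1 : Commute t d := htb.2 d hd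
          exact e1.inv_left.eq }
  -- the single elements
  have hsing : ∀ i (x : F), Pi.single i x ∈ R := by
    intro i x
    obtain ⟨s, hs, hst⟩ := M.nat.trans i₀ i
    have hA' : cj s A ∈ 𝒜 := ks.conj A hA s (hBS hs)
    have hsY := hBY hs
    -- an element of `A` which acts on the block `i₀` only
    obtain ⟨a, ha, haa⟩ := h2 (Pi.single i₀ 1) fun l hl => by
      rw [Pi.single_eq_of_ne]
      rintro rfl
      exact hl hi₀
    have haY := hBY (hAB A hA ha)
    obtain ⟨v, hv, hev⟩ := M.nat.surj fun _ => ![0, 1]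
    have hav := M.Vn a haY v hv
    set w := a * v * a⁻¹ * v⁻¹ with hw
    have hwV : w ∈ zl B Y := mul_mem hav (inv_mem hv)
    have hw0 : M.nat.e w i₀ ≠ 0 := by
      have h3 : M.nat.e (a * v * a⁻¹) i₀ = ap (up ((Pi.single i₀ 1 : Fin k → F) i₀)) (M.nat.e v i₀) := haa.1 v hv i₀
      rw [hw, M.map_div hav hv, Pi.sub_apply, h3, Pi.single_eq_same, hev]
      intro h4
      have h5 := congrFun h4 0
      rw [Pi.sub_apply, ap_zero', up_00, up_01] at h5
      simp at h5
    have hsw0 : M.nat.e (s * w * s⁻¹) i ≠ 0 := fun h3 => hw0 ((hst w hwV).1 h3)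
    -- the conjugate offender acts on the block `i`
    have hA'c : ¬ cj s A ≤ centralizer (zl B Y : Set G) := by
      intro hc
      apply hsw0
      have h3 : s * a * s⁻¹ ∈ cj s A := ⟨a, ha, rfl⟩
      have h4 := mem_centralizer_iff.1 (hc h3) _ (M.Vn s hsY v hv)
      have h5 : s * w * s⁻¹ = 1 := by
        calc s * w * s⁻¹ = (s * a * s⁻¹) * (s * v * s⁻¹) * (s * a * s⁻¹)⁻¹ * (s * v * s⁻¹)⁻¹ := by rw [hw]; group
          _ = 1 := by rw [← h4]; group
      rw [h5, M.map_one]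
      rfl
    obtain ⟨I', h1', h2'⟩ := N.offM (cj s A) (hAB _ hA') ((best_or Uc VU (ks.best _ hA')).resolve_left hA'c)
    rw [← hM] at h1' h2'
    have hi : i ∈ I' := by
      by_contra hi
      apply hsw0
      have h3 : s * a * s⁻¹ ∈ cj s A := ⟨a, ha, rfl⟩
      obtain ⟨c, hc0, hc⟩ := h1' _ h3
      have hsv := M.Vn s hsY v hv
      have h4 : M.nat.e ((s * a * s⁻¹) * (s * v * s⁻¹) * (s * a * s⁻¹)⁻¹) i =
        ap (up (c i)) (M.nat.e (s * v * s⁻¹) i) := hc.1 _ hsv i
      have h5 := M.Vn _ (hBY (hAB _ hA' h3)) _ hsv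
      have h6 : s * w * s⁻¹ = (s * a * s⁻¹) * (s * v * s⁻¹) * (s * a * s⁻¹)⁻¹ * (s * v * s⁻¹)⁻¹ := by rw [hw]; group
      rw [h6, M.map_div h5 hsv, Pi.sub_apply, h4, hc0 i hi, up_zero, ap_one, sub_self]
    obtain ⟨t, ht, hta⟩ := h2' (Pi.single i x) fun l hl => by
      rw [Pi.single_eq_of_ne]
      rintro rfl
      exact hl hi
    exact ⟨t, ks.mem_le hA' ht, hta⟩
  have h3 : b ∈ R := by
    have h4 : b = ∑ i, Pi.single i (b i) := (Finset.univ_sum_single b).symm
    rw [h4]
    exact sum_mem fun i _ => hsing i (b i)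
  exact h3

/-- **The situation `TS`.** -/
theorem ts_of (wy : WY S P B Y) (ks : KSh S P Y U K 𝒜) (Uc : U ≤ centralizer (U : Set G)) (VU : zl B Y ≤ U)
    (N : NatKM F B Y (zl B Y) (cv B Y) k) (hk : 0 < k) {M : NatC F B Y (zl B Y) (cv B Y) k}
    (hM : M.nat = N.toNatK) {z : G} (hz : z ∈ zc B) (hzD : z ∉ cv B Y)
    (mx : ∀ Y' : Subgroup G, WY S P B Y' → Y' ≤ Y → (∃ y ∈ Y', y * z ≠ z * y) →
      Nat.card (DX (S : Subgroup G) P Y') ≤ Nat.card (DX (S : Subgroup G) P Y)) : TS M (o2 P) K z := by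
  have hm : MinH Y B := SQ1.FFOne.minH_of wy.syl wy.min wy.c2
  have hBS : B ≤ (S : Subgroup G) := wy.TS
  have hBY : B ≤ Y := wy.T_Y
  have hup := K_up wy ks Uc VU N hk hM
  have hPS : (S : Subgroup G) ≤ P := wy.parP.le
  exact
    { hm := hm
      min := wy.min
      QB := wy.QT
      BQ := (hBS.trans hPS).trans (ZN.le_normalizer_o2 _)
      KQ := ks.le
      KR := hup.trans (TS.UX_le M)
      KM := K_full wy ks Uc VU N hk hM
      Kc := by
        have hc : K ≤ centralizer (X0 M : Set G) := by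
          rw [ks.eq]
          refine sup_le ?_ (sSup_le fun A hA => ?_)
          · exact fun x hx => mem_centralizer_iff.2 fun v hv =>
              (M.VcQ x (DX_le_X _ _ _ hx) v (X0_le M hv)).symm
          · intro a ha
            refine mem_centralizer_iff.2 fun v hv => ?_
            refine (cent_natL hm N hk Uc VU ((ks.leP A hA).trans wy.QT) (ks.best A hA) hv.1 (fun i => ?_) ha).symm
            have := hv.2 i
            rwa [hM] at this
        exact hc
      zV := SQ1.VOf.zc_le_zl hz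
      zB := fun b hb => (ChoiceBase.mem_zc.1 hz).2.2 b hb
      zD := hzD
      NB := inf_le_right.trans (WC.norm_le wy.cl.wc wy.QT hBS)
      Kw := fun R h1 h2 => WC.norm_le ks.wc h1 (h2.trans hBS)
      mp := by
        intro Y' hY' hYY hYK hmv
        have hBY' : B ≤ Y' := hY'.le
        have hsyl : Syl B Y' := ⟨hBY', hm.syl.2.1, fun R hR hR2 hBR => hm.syl.2.2 R (hR.trans hYY) hR2 hBR⟩
        by_cases hQ : o2 P ≤ o2 Y'
        · exact (ZN.le_normalizer_o2 _).trans
            (WC.norm_le wy.cl.wc hQ ((ChoiceSit.o2_le_syl hsyl).trans hBS))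
        · exfalso
          have hKB : K ≤ B := ks.le.trans wy.QT
          have hK2 : IsPGroup 2 K := hm.syl.2.1.to_le hKB
          have hKo : K ≤ o2 Y' := MinSimple.VModule.le_o2 (hKB.trans hBY') hK2 hYK
          have hoo : o2 Y ≤ o2 Y' := MinSimple.VModule.le_o2 (wy.o2Y_T.trans hBY')
            (hm.syl.2.1.to_le wy.o2Y_T) (hYY.trans (ZN.le_normalizer_o2 _))
          have hwy : WY S P B Y' := WY.of_mv wy.cl hBS wy.QT hsyl hY'
            (le_trans (inf_le_inf hYY (centralizer_le hoo)) (wy.c2.trans hoo))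
            (fun hc => by
              obtain ⟨y, hy, hne⟩ := hmv
              exact hne ((mem_centralizer_iff.1 (hc hy) z hz).symm))
            hQ ((wy.jD.trans ks.DX_le).trans hKo)
          have h1 := mx Y' hwy hYY hmv
          have h2 := ks.card_lt_of_le hKo
          omega }

end ts

end Cfsg.Agent.Omega.CaseLQ.Torus
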