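import Cfsg.Agent.Omega.CaseLQ.FiveFr
import Cfsg.Agent.Omega.CaseLQ.FiveFacts
import Cfsg.Agent.Omega.CaseLQ.PsiTwo
import Cfsg.Agent.Omega.CaseLQ.TorusOf
import Cfsg.Agent.Omega.NO3S.WY.Tor.LitS
import Cfsg.Agent.Omega.NO3S.Sym.IdFive
import Cfsg.Agent.Omega.CaseLQ.TorusNat
import Cfsg.Agent.Omega.Node.NoWFivePlug

/-!
# One `S₅`, the weird parabolics: (TOR') (#25080 (b), (d))

`FS S P p Y`, `T = Std.T S p`, `|DX S P Y|` maximal (`mx`).

* `FS.exists_nat` : `Y` has natural blocks over a field of order at least 4;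
* `FS.ts` : helper425's `TS`; `FS.one_of` : one block, `|F| = 4`, `X0 = V_τ D`;
* **`FS.torS`** : `TorS S P p Y`;
* **`torSOf : TorSOf K`**.
-/

set_option autoImplicit false
set_option linter.unusedSectionVars false

namespace Cfsg.Agent.Omega.CaseLQ.FiveI

open Subgroup Cfsg Cfsg.Agent.ZN Cfsg.Agent.ZN.ChoiceBase
open Cfsg.Agent.ZN.ChoiceSit (Syl)
open Cfsg.Agent.MinSimple.VModule (oddGen)
open Cfsg.Agent.Omega.FFThm (OffM ElemM NoOverM StmtM NatKM ActsSL)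
open Cfsg.Agent.Omega.FrameFF (cv)
open Cfsg.Agent.Omega.NTwo
open Cfsg.Agent.Omega.NO3S.RedC (MaxMin DX GX)
open Cfsg.Agent.Omega.NO3S.OneLine (NatC natC_of)
open Cfsg.Agent.Omega.NO3S.WY
open Cfsg.Agent.Omega.NO3S.WY.Tor.SFive (TorS)
open Cfsg.Agent.Omega.NO3S.Sym.Light (FiveL)
open Cfsg.Agent.Omega.CaseLQ.PsiYB
open Cfsg.Agent.Omega.CaseLQ.Torus
open Cfsg.Agent.Omega.SQ1.Bau (card_sup_comm)
open Cfsg.Agent.Lib.SL2Mat (up)

universe u w

theorem card_four {F : Type} [Field F] [Finite F] [CharP F 2] (h : ∃ x : F, x ≠ 0 ∧ x ≠ 1) : 4 ≤ Nat.card F := by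
  classical
  have := Fintype.ofFinite F
  obtain ⟨n, -, hn⟩ := FiniteField.card F 2
  obtain ⟨x, h0, h1⟩ := h
  rw [Nat.card_eq_fintype_card]
  have h3 : 2 < Fintype.card F := Fintype.two_lt_card_iff.2 ⟨0, 1, x, zero_ne_one, h0.symm, h1.symm⟩
  rw [hn] at h3 ⊢
  have h4 : 2 ≤ (n : ℕ) := by
    by_contra hc
    have h4 : (n : ℕ) ≤ 1 := by omega
    have h5 := Nat.pow_le_pow_right (n := 2) (by omega) h4
    omega
  calc 4 = 2 ^ 2 := rfl
    _ ≤ 2 ^ (n : ℕ) := Nat.pow_le_pow_right (by omega) h4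

variable {G : Type u} [Group G] [Finite G] {S : Sylow 2 G} {P : Subgroup G} {p : Fin 5 → G} {Y : Subgroup G}

namespace FS

variable (f : FS S P p Y)
include f

theorem hex : ∃ E, E ≤ Std.T (S : Subgroup G) p ∧ MaxMin (UU (S : Subgroup G) P p Y) (HH (S : Subgroup G) P p Y) E ∧
    ¬ E ≤ o2 Y := by
  obtain ⟨-, E, hE, hET, hEY⟩ := f.exists_E
  exact ⟨E, hET, hE, hEY⟩

theorem noV : NoOverM (zl (Std.T (S : Subgroup G) p) Y) Y :=
  (f.ys.exists_concl FF.Glob.ffthmM f.hex).1.noOver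

/-- **`Y` has natural blocks over a field of order at least 4.** -/
theorem exists_nat : ∃ (F : Type) (_ : Field F) (_ : Finite F) (_ : CharP F 2) (k : ℕ), 0 < k ∧ (∃ x : F, x ≠ 0 ∧ x ≠ 1) ∧
    Nonempty (NatKM F (Std.T (S : Subgroup G) p) Y (zl (Std.T (S : Subgroup G) p) Y)
      (cv (Std.T (S : Subgroup G) p) Y) k) := by
  refine TvTwo.nat_four f.ys FF.Glob.ffthmM (Q := o2 P) (V := Vt p) (z := aa p) (Lam := zpowers (nn p))
    (P := XT (S : Subgroup G) P p) (fun hc => f.fr_of hc.yb hc.ex hc.cen)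
    (fun E hE m => f.exists_E.1 E m hE) f.hex f.Vt_le_U le_sup_left f.T_X inf_le_right ?_
    (le_centralizer_iff.1 f.X_C) ?_
  · intro u hu huT
    have h1 := f.loc.cUT (mem_inf.2 ⟨hu, huT⟩)
    rcases f.five.std.mem_zcT.1 h1 with rfl | rfl | rfl | rfl
    · exact Or.inl (one_mem _)
    · exact Or.inl (mem_zpowers _)
    · right; rw [mul_inv_cancel]; exact one_mem _
    · right
      rw [← f.five.std.na, mul_inv_cancel_right]
      exact mem_zpowers _
  · obtain ⟨x, hx, hσ⟩ := XT_full f.five (σ := Equiv.swap 3 4) (by decide) (by decide)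
    refine ⟨x, hx, fun e => ?_⟩
    have h1 : x * (p 2 * p 3) * x⁻¹ = p 2 * p 4 := hσ 2 3 (by decide) (by decide) (by decide)
    have h2 : p 2 * p 4 = p 2 * p 3 := h1.symm.trans e
    exact absurd (f.five.std.inj (mul_left_cancel h2)) (by decide)

/-- `⟨n⟩ ≤ C_V(O²(Y))` -/
theorem n_cv : zpowers (nn p) ≤ cv (Std.T (S : Subgroup G) p) Y := by
  rw [zpowers_le]
  refine mem_inf.2 ⟨MinSimple.VModule.zc_le_zl _ _ f.n_zc, mem_centralizer_iff.2 fun y hy => ?_⟩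
  exact mem_centralizer_singleton_iff.1 (f.cen (MinSimple.VModule.oddGen_le Y hy))

theorem a_cv : aa p ∉ cv (Std.T (S : Subgroup G) p) Y := by
  intro h
  apply f.mv
  have h1 : Y ≤ centralizer ({aa p} : Set G) := by
    rw [← NO3b.EZero.oddGen_sup_syl f.wy.syl]
    refine sup_le (fun y hy => ?_) fun x hx => mem_cent.2 (f.five.std.T_a hx)
    exact mem_centralizer_singleton_iff.2 (mem_centralizer_iff.1 (mem_inf.1 h).2 y hy)
  have h2 : centralizer ({aa p} : Set G) ≤ centralizer (zpowers (aa p) : Set G) := by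
    rw [le_centralizer_iff, zpowers_le]
    exact mem_centralizer_iff.2 fun x hx => mem_centralizer_singleton_iff.1 hx
  exact (h1.trans h2).trans (centralizer_le_normalizer _)

theorem hVQ : zl (Std.T (S : Subgroup G) p) Y ⊓ centralizer (o2 P : Set G) ≤ zl (S : Subgroup G) P :=
  (inf_le_inf_right _ f.VU').trans f.loc.cUQ

section one

variable {F : Type} [Field F] [Finite F] [CharP F 2] {k : ℕ}
  {M : NatC F (Std.T (S : Subgroup G) p) Y (zl (Std.T (S : Subgroup G) p) Y) (cv (Std.T (S : Subgroup G) p) Y) k}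
  {K : Subgroup G}

/-- **(d)** : one block, `|F| = 4`, `X0 = V_τ D`. -/
theorem one_of (t : TS M (o2 P) K (aa p)) (h4 : 4 ≤ Nat.card F) :
    (∃ E1 : Subgroup G, E1 ≤ X0 M ∧ o2 P ≤ centralizer (E1 : Set G) ∧
      ∀ v ∈ X0 M, ∃ c ∈ E1, M.nat.e c = M.nat.e v) ∧ k = 1 ∧ Nat.card F = 4 ∧
      X0 M = Vt p ⊔ cv (Std.T (S : Subgroup G) p) Y := by
  have hF : ∀ a : F, ∃ c : F, c ≠ 0 ∧ c ≠ a := fun a => TS.exists_ne_two h4 0 a
  obtain ⟨E1, hE, hEQ, hED, hEB, hEc⟩ := t.main hF (hF 1)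
  have hEV : E1 ≤ zl (S : Subgroup G) P := fun x hx => f.hVQ ⟨(hE hx).1, (le_centralizer_iff.1 hEQ) hx⟩
  have hft : FiveFacts.Vt p = Vt p := (FiveFacts.Vt_eq f.five.std.toFv).symm
  have hEn : E1 ⊓ zpowers (nn p) = ⊥ := by
    rw [eq_bot_iff, ← hED]
    exact inf_le_inf_left _ f.n_cv
  have hle : E1 ≤ Vt p ⊔ zpowers (nn p) := by
    intro u hu
    rw [← hft]
    refine FiveFacts.cent_le f.five.toFive (hEV hu) fun b hb => ?_
    have h1 := FiveFacts.comm_T f.five.toFive hb u (hEV hu)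
    have h2 : b * u * b⁻¹ * u⁻¹ ∈ E1 := mul_mem ((mem_normalizer_iff.1 (hEB hb.1) u).1 hu) (inv_mem hu)
    have h3 : b * u * b⁻¹ * u⁻¹ ∈ E1 ⊓ zpowers (nn p) := mem_inf.2 ⟨h2, h1⟩
    rw [hEn, mem_bot] at h3
    exact mul_inv_eq_iff_eq_mul.1 (mul_inv_eq_one.1 h3)
  have hVc : ∀ a ∈ zl (S : Subgroup G) P, ∀ b ∈ zl (S : Subgroup G) P, a * b = b * a := fun a ha b hb =>
    f.five.toFive.V_comm ha hb
  have hnV : zpowers (nn p) ≤ zl (S : Subgroup G) P := zpowers_le.2 f.five.n_mem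
  have c1 := card_sup_comm (A := E1) (B := zpowers (nn p)) fun a ha b hb => hVc a (hEV ha) b (hnV hb)
  have c2 := card_sup_comm (A := Vt p) (B := zpowers (nn p)) fun a ha b hb => hVc a (f.Vt_V ha) b (hnV hb)
  rw [hEn, card_bot, mul_one] at c1
  rw [card_Vt f.five.std.toFv] at c2
  have hp : 0 < Nat.card ↥(zpowers (nn p)) := Nat.card_pos
  have hp' : 0 < Nat.card ↥(Vt p ⊓ zpowers (nn p)) := Nat.card_pos
  have hle' : E1 ⊔ zpowers (nn p) ≤ Vt p ⊔ zpowers (nn p) := sup_le hle le_sup_right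
  have c3 := Subgroup.card_le_of_le hle'
  have c4 : Nat.card ↥(Vt p ⊔ zpowers (nn p)) ≤ 4 * Nat.card ↥(zpowers (nn p)) := by
    rw [← c2]
    exact Nat.le_mul_of_pos_right _ hp'
  have h3 : Nat.card E1 ≤ 4 := by
    rw [c1] at c3
    exact Nat.le_of_mul_le_mul_right (c3.trans c4) hp
  have hk : 0 < k := M.pos
  have hcard := TS.card_E (M := M) hE hED hEc
  have hk1 : k = 1 := by
    by_contra hne
    have hk2 : 2 ≤ k := by omega
    have h6 : 4 ^ 2 ≤ Nat.card F ^ k :=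
      (Nat.pow_le_pow_left h4 2).trans (Nat.pow_le_pow_right (by omega) hk2)
    omega
  have hc4 : Nat.card F = 4 := by
    rw [hk1, pow_one] at hcard
    omega
  have hE4 : Nat.card E1 = 4 := by rw [hcard, hk1, pow_one, hc4]
  have h6 : E1 ⊔ zpowers (nn p) = Vt p ⊔ zpowers (nn p) := by
    refine Subgroup.eq_of_le_of_card_ge hle' ?_
    rw [c1, hE4]
    exact c4
  refine ⟨⟨E1, hE, hEQ, hEc⟩, hk1, hc4, le_antisymm ?_ (sup_le ?_ (D_le_X0 M))⟩
  · intro v hv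
    obtain ⟨c, hc, ec⟩ := hEc v hv
    have h7 := div_mem M hv.1 (hE hc).1 ec.symm
    have h8 : v = v * c⁻¹ * c := by group
    rw [h8]
    refine mul_mem (mem_sup_right h7) ?_
    exact (hle.trans (sup_le le_sup_left (f.n_cv.trans le_sup_right))) hc
  · refine (le_sup_left.trans h6.ge).trans (sup_le hE (f.n_cv.trans (D_le_X0 M)))

end one

/-- **(TOR')** for one `S₅`. -/
theorem torS (mx : ∀ Y' : Subgroup G, WY S P (Std.T (S : Subgroup G) p) Y' → Y' ≤ Y →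
      Nat.card (DX (S : Subgroup G) P Y') ≤ Nat.card (DX (S : Subgroup G) P Y)) : TorS S P p Y where
  five := f.five
  wy := f.wy
  cen := f.cen
  fam := by
    obtain ⟨F, _, _, _, k, hk, -, ⟨N⟩⟩ := f.exists_nat
    exact (f.exists_fam f.noV N hk).2
  nat := by
    obtain ⟨F, _, _, _, k, hk, hx, ⟨N⟩⟩ := f.exists_nat
    obtain ⟨K, 𝒜, ks⟩ := (f.exists_fam f.noV N hk).1
    have h4 := card_four hx
    have hm := f.ys.hm
    have t : TS (natC_of hm hk N.toNatK) (o2 P) K (aa p) :=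
      ts_of f.wy ks f.ys.Uc f.ys.VU N hk rfl f.a_zc f.a_cv fun Y' h1 h2 _ => mx Y' h1 h2
    obtain ⟨⟨E1, hE, hEQ, hEc⟩, rfl, hc4, hX⟩ := f.one_of t h4
    refine ⟨F, inferInstance, inferInstance, inferInstance, N, hc4, fun v hv => ?_, fun q hq => ?_⟩
    · change N.e v 0 1 = 0 ↔ v ∈ Vt p ⊔ cv (Std.T (S : Subgroup G) p) Y
      rw [← hX]
      constructor
      · intro h0
        refine ⟨hv, fun i => ?_⟩
        rw [Subsingleton.elim i 0]
        exact h0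
      · intro h0
        exact h0.2 0
    · obtain ⟨b, hb⟩ := t.up_of (fun x hx hxD => capD hm f.wy.min f.wy.mv hx hxD) hE hEQ hEc hq
      refine ⟨b 0, fun v hv i => ?_, hb.2⟩
      have := hb.1 v hv i
      rw [Subsingleton.elim i 0] at this ⊢
      exact this

end FS

/-- **The infinite stage of `NoWFive`.** -/
theorem torSOf {K : Frame.Cls.{u}} : Node.NoWFivePlug.TorSOf K := by
  intro G _ _ _ S P B ZJ ι L W Z C A hM _ p hp Y hw hm wy
  have := hM.fin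
  obtain ⟨e, hid⟩ := NO3S.Sym.LowFive.exists_id5 hp hM.fr (hM.eB.trans_le inf_le_left) hM.two hM.eB
  have hBT : B = Std.T (S : Subgroup G) p := hid.BT
  have hzc : zc B = ZJ := Node.NoWFiveSel.zc_B hM
  have hbb : BB (S : Subgroup G) P = B := hM.eqB.symm
  subst hBT
  have f : FS S P p Y := ⟨hp, hbb, wy, hw.cen⟩
  refine f.torS fun Y' h1 h2 => hm Y' ⟨h1.min, h1.syl, h1.c2, h2.trans hw.cen, h1.nQ, ?_⟩
  rw [← hzc]
  exact h1.mv

end Cfsg.Agent.Omega.CaseLQ.FiveI
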