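import Cfsg.Agent.Omega.CaseLQ.Crd
import Cfsg.Agent.Omega.CaseLQ.OneY
import Cfsg.Agent.Omega.CaseLQ.GlueC
import Cfsg.Agent.Omega.NO3S.WY.Loc

/-!
# The instance of `SitC` for `MulL` (helper952 #24536, helper509 #25180), any `q`

* `not_norm_of_mv` : `Y` does not normalise `Z j` if it moves `C_{Z j}(T)` and `O₂(P) ≰ O₂(Y)`;
* `exists_cj_mv` : an `A ≤ S` which moves `V_P` has a conjugate under `S` which moves `W j`;
* **`sitC_of`** : `SitC (X ⊔ Y) (zl T (X ⊔ Y)) T (o2 P) (W j) (Z j) Λ X Y`, `X = Pj P T (W j) (C j)`, and the data for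
  `PsiYC.now_false`.
-/

set_option autoImplicit false
set_option linter.unusedSectionVars false

namespace Cfsg.Agent.Omega.CaseLQ

open Subgroup Cfsg Cfsg.Agent.ZN Cfsg.Agent.ZN.ChoiceBase
open Cfsg.Agent.ZN.ChoiceSit (Syl)
open Cfsg.Agent.MinSimple.MinParabolic (IsMinPar)
open Cfsg.Agent.MinSimple.VModule (oddGen)
open Cfsg.Agent.Omega.FFThm (NatKM OffM ElemM NoOverM StmtM)
open Cfsg.Agent.Omega.FrameFF (cv)
open Cfsg.Agent.Omega.NO3S.ThmB (Nb)
open Cfsg.Agent.Omega.NO3S.EThree.Frame (Bg Fg)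
open Cfsg.Agent.Omega.NO3S.RedC (MaxMin)
open Cfsg.Agent.Omega.NO1.BestOff (Best)
open Cfsg.Agent.Omega.NO3S.WY (Loc BB)
open Cfsg.Agent.Omega.NO3S.Level (nxt)
open Cfsg.Agent.Omega.Node.MulX (MulL)

universe u

variable {G : Type u} [Group G] [Finite G]

/-- `Y` does not normalise `Z` if it moves `C_Z(T)`, and some subgroup of `C_T(Z)` is not in `O₂(Y)`. -/
theorem not_norm_of_mv {T Y Q Z : Subgroup G} (syl : Syl T Y) (min : IsMinPar T Y) (QT : Q ≤ T)
    (QZ : Q ≤ centralizer (Z : Set G)) (nQ : ¬ Q ≤ o2 Y)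
    (mvZ : ¬ Y ≤ centralizer ((Z ⊓ centralizer (T : Set G) : Subgroup G) : Set G)) : ¬ Y ≤ normalizer (Z : Set G) := by
  intro hn
  have hYY : Y ≤ normalizer ((Y ⊓ centralizer (Z : Set G) : Subgroup G) : Set G) :=
    NO3b.EZero.le_normalizer_inf_cent hn
  rcases NO3b.K0.min_or syl min (K := Y ⊓ centralizer (Z : Set G)) inf_le_left hYY with h2 | h2
  · apply mvZ
    rw [← NO3b.EZero.oddGen_sup_syl syl]
    refine sup_le (h2.trans (inf_le_right.trans (centralizer_le inf_le_left))) ?_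
    exact NO3b.EZero.cent_symm inf_le_right
  · exact nQ ((le_inf QT (le_inf (QT.trans syl.1) QZ)).trans h2)

section bg

variable {S : Sylow 2 G} {P B ZJ : Subgroup G} {ι : Type} {L W Z C : ι → Subgroup G} {q : ℕ}

/-- `A ≤ S` moves `V_P`: a conjugate under `S` moves `W j`. -/
theorem exists_cj_mv (h : Bg S P B ZJ L W Z C q) (j : ι) {A U : Subgroup G} (hA : A ≤ (S : Subgroup G))
    (hAP : ¬ A ≤ o2 P) (hU : W j ≤ U) : ∃ s ∈ (S : Subgroup G), ¬ cj s A ≤ centralizer (U : Set G) := by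
  by_contra hcon
  push Not at hcon
  apply hAP
  have hSP : (S : Subgroup G) ≤ P := h.hyp.toHyp.star.le
  -- `A` centralises all `W i`
  have h1 : ∀ i, ∀ a ∈ A, ∀ w ∈ W i, a * w = w * a := by
    intro i a ha w hw
    obtain ⟨s, hs, hsW⟩ := h.trans i j
    have h2 : s * w * s⁻¹ ∈ W j := hsW ▸ ⟨w, hw, rfl⟩
    have h3 : s * a * s⁻¹ ∈ centralizer (U : Set G) := hcon s hs ⟨a, ha, rfl⟩
    have h4 := mem_centralizer_iff.1 h3 _ (hU h2)
    have h5 : s * (w * a) * s⁻¹ = s * (a * w) * s⁻¹ := by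
      calc s * (w * a) * s⁻¹ = s * w * s⁻¹ * (s * a * s⁻¹) := by group
        _ = s * a * s⁻¹ * (s * w * s⁻¹) := h4
        _ = s * (a * w) * s⁻¹ := by group
    exact (mul_left_cancel (mul_right_cancel h5)).symm
  -- so it centralises `V_P`
  have h2 : ∀ a ∈ A, ∀ v ∈ zl (S : Subgroup G) P, a * v = v * a := by
    intro a ha v hv
    have hVn : a * v * a⁻¹ ∈ zl (S : Subgroup G) P := (mem_normalizer_iff.1 (le_normalizer_zl _ _ (hSP (hA ha))) v).1 hv
    have h3 : a * v * a⁻¹ * v⁻¹ = 1 := by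
      refine h.fr.C0 _ (mul_mem hVn (inv_mem hv)) fun i => ?_
      obtain ⟨w, hw, c, hc, rfl⟩ := h.fr.WC i v hv
      obtain ⟨σ, hσ⟩ := h.perm a (hSP (hA ha))
      have h4 : σ i = i := by
        by_contra hne
        have h5 : W i ≤ W (σ i) := by
          rw [← (hσ i).1]
          intro x hx
          exact ⟨x, hx, mul_inv_eq_iff_eq_mul.2 (h1 i a ha x hx)⟩
        have h6 := h.W_disj (Ne.symm hne)
        rw [inf_eq_left.2 h5] at h6
        exact h.Z_ne i (le_bot_iff.1 (h6 ▸ (h.fr.blk i).ZV))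
      have h5 : a * c * a⁻¹ ∈ C i := by
        have h6 := (hσ i).2
        rw [h4] at h6
        exact h6 ▸ ⟨c, hc, rfl⟩
      have h6 : a * w * a⁻¹ = w := mul_inv_eq_iff_eq_mul.2 (h1 i a ha w hw)
      have hcV := h.fr.CV i hc
      have hwV := h.fr.WV i hw
      have h7 : a * (w * c) * a⁻¹ * (w * c)⁻¹ = a * c * a⁻¹ * c⁻¹ := by
        calc a * (w * c) * a⁻¹ * (w * c)⁻¹ = a * w * a⁻¹ * (a * c * a⁻¹) * c⁻¹ * w⁻¹ := by group
          _ = w * (a * c * a⁻¹ * c⁻¹) * w⁻¹ := by rw [h6]; group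
          _ = a * c * a⁻¹ * c⁻¹ := by
            rw [h.fr.Vc hwV (h.fr.CV i (mul_mem h5 (inv_mem hc)))]
            group
      rw [h7]
      exact mul_mem h5 (inv_mem hc)
    exact mul_inv_eq_iff_eq_mul.1 (mul_inv_eq_one.1 h3)
  intro a ha
  have haB : a ∈ B := h.cent_le ⟨hA ha, mem_centralizer_iff.2 fun v hv => (h2 a ha v hv).symm⟩
  exact (h.fr.mem_Q a haB).2 (h2 a ha)

end bg

section inst

variable {S : Sylow 2 G} {P B ZJ : Subgroup G} {k : ℕ} {L W Z C A : Fin k → Subgroup G} {q : ℕ}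

/-- The data of a weird `Y`. -/
structure WData (S : Sylow 2 G) (P B ZJ : Subgroup G) {k : ℕ} (Z C : Fin k → Subgroup G) (j : Fin k)
    (T Y D Λ : Subgroup G) : Prop where
  BT : B ≤ T
  TS : T ≤ (S : Subgroup G)
  TZ : T ≤ normalizer (Z j : Set G)
  DZ : D ≤ ZJ
  D0 : D ≠ ⊥
  DC : D ≤ C j
  hT : Syl T (centralizer (D : Set G))
  YD : Y ≤ centralizer (D : Set G)
  syl : Syl T Y
  min : IsMinPar T Y
  c2 : Y ⊓ centralizer (o2 Y : Set G) ≤ o2 Y
  nQ : ¬ o2 P ≤ o2 Y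
  ΛC : Λ ≤ C j
  ΛT : T ≤ centralizer (Λ : Set G)
  zT : zc T ≤ Z j ⊔ Λ
  mvZ : ¬ Y ≤ centralizer ((Z j ⊓ centralizer (T : Set G) : Subgroup G) : Set G)
  cnt : ∀ F ≤ Λ, F ⊓ centralizer (Y : Set G) = ⊥ → Nat.card F < Nat.card ↥(Z j ⊓ centralizer (T : Set G))

/-- what `PsiYC.now_false` needs -/
structure InstC (S : Sylow 2 G) (P W Z T Y Λ X : Subgroup G) : Prop where
  sit : SitC (X ⊔ Y) (zl T (X ⊔ Y)) T (o2 P) W Z Λ X Y
  loc : ∃ D, Loc S P T Y D (X ⊔ Y) (zl T (X ⊔ Y))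
  hT : Syl T (X ⊔ Y)
  hoff : ∃ A ≤ X ⊔ Y, OffM (zl T (X ⊔ Y)) A
  gen : ∀ A ≤ T, A ≤ centralizer (W : Set G) → X ≤ normalizer (A : Set G) → Y ≤ normalizer (A : Set G) →
    A ≤ centralizer (zl T (X ⊔ Y) : Set G)
  mv : ¬ Y ≤ centralizer (zc T : Set G)
  VU : zl T Y ≤ zl T (X ⊔ Y)
  CQ : zl T (X ⊔ Y) ⊓ centralizer (o2 P : Set G) ≤ zl (S : Subgroup G) P

variable {F : Type} [Field F] [Finite F] [CharP F 2]
  {N : NatKM F (S : Subgroup G) P (zl (S : Subgroup G) P) (cv (S : Subgroup G) P) k}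

/-- **The instance.** -/
theorem sitC_of (h : MulL S P B ZJ L W Z C A q) (hn : Nb N) {j : Fin k} (b : BlkJ N j (W j) (Z j) (C j))
    (hFF : StmtM.{u}) {T Y D Λ : Subgroup G} (d : WData S P B ZJ Z C j T Y D Λ) :
    InstC S P (W j) (Z j) T Y Λ (Pj P T (W j) (C j)) := by
  set X := Pj P T (W j) (C j) with hX
  have hSP : (S : Subgroup G) ≤ P := h.bg.hyp.toHyp.star.le
  have TP : T ≤ P := d.TS.trans hSP
  have nt := natT_of hn b TP d.TZ
  have T2 : IsPGroup 2 T := d.hT.2.1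
  have QB : o2 P ≤ B := h.bg.fr.QB
  have QT : o2 P ≤ T := QB.trans d.BT
  have QW : o2 P ≤ centralizer (W j : Set G) := fun x hx =>
    mem_centralizer_iff.2 fun w hw => (h.bg.fr.cQ hx (h.bg.fr.WV j hw)).symm
  have ZW : Z j ≤ W j := (h.bg.fr.blk j).ZV
  have QZ : o2 P ≤ centralizer (Z j : Set G) := QW.trans (centralizer_le ZW)
  have ZT : Z j ≤ T := (ZW.trans (h.bg.fr.WV j)).trans (h.bg.fr.VB.trans d.BT)
  have TX : T ≤ X := le_Pj hn b TP d.TZ
  have XP : X ≤ P := Pj_le_P TP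
  have XQ : X ≤ normalizer (o2 P : Set G) := XP.trans (le_normalizer_o2 P)
  have hH : P ⊓ centralizer (C j : Set G) ≤ centralizer (D : Set G) := inf_le_right.trans (centralizer_le d.DC)
  have XD : X ≤ centralizer (D : Set G) := Pj_le_of d.hT.1 hH
  have hZ0 : Z j ⊓ zc T ≠ ⊥ := by
    obtain ⟨z, hz, hz1, hfix⟩ := NO3S.OneLine.exists_fixed T2 ZT d.TZ
      (fun h0 => h.bg.Z_ne j (le_bot_iff.1 h0) : ¬ Z j ≤ (⊥ : Subgroup G))
    rw [mem_bot] at hz1
    intro h0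
    refine hz1 (mem_bot.1 (h0 ▸ ⟨hz, ChoiceBase.mem_zc.2 ⟨ZT hz, h.bg.fr.Vsq (h.bg.fr.ZV j hz), fun t ht => ?_⟩⟩))
    have h1 := mem_bot.1 (hfix t ht)
    have e1 : t * z = (t * z * t⁻¹ * z⁻¹) * z * t := by group
    rw [e1, h1, one_mul]
  have hZc : Z j ⊓ centralizer (T : Set G) ≤ zc T := fun z hz =>
    ChoiceBase.mem_zc.2 ⟨ZT hz.1, h.bg.fr.Vsq (h.bg.fr.ZV j hz.1), fun t ht => mem_centralizer_iff.1 hz.2 t ht⟩
  have mv : ¬ Y ≤ centralizer (zc T : Set G) := fun h0 => d.mvZ (h0.trans (centralizer_le hZc))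
  have hWX : W j ≤ zl T X := le_zl_Pj hn b TP d.TZ d.hT hH hZ0
  have BT' : BB (S : Subgroup G) P ≤ T := by
    have h1 : BB (S : Subgroup G) P = B := by rw [h.eB, h.eZ]
    rw [h1]
    exact d.BT
  have DZ' : D ≤ NO3S.WY.ZJ (S : Subgroup G) P := by
    have h1 := d.DZ
    rw [h.eZ] at h1
    exact h1
  obtain ⟨m, E, hET, hEb, hEn⟩ := NO3S.WY.exists_loc (X := X) h.cl d.TS QT d.syl d.min d.c2 mv d.nQ BT' DZ' d.D0 d.hT d.YD
    TX XQ XD fun A hA hAP => exists_cj_mv h.bg j hA hAP hWX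
  have zlX : zl T X ≤ zl T (X ⊔ Y) :=
    ZN.zl_le (ChoiceSit.zc_le_zl _ _) ((le_sup_left : X ≤ X ⊔ Y).trans (ZN.le_normalizer_zl _ _))
  have zlY : zl T Y ≤ zl T (X ⊔ Y) :=
    ZN.zl_le (ChoiceSit.zc_le_zl _ _) ((le_sup_right : Y ≤ X ⊔ Y).trans (ZN.le_normalizer_zl _ _))
  have hTH : Syl T (X ⊔ Y) :=
    ⟨m.TH, T2, fun R hR hp hTR => d.hT.2.2 R (hR.trans m.HC) hp hTR⟩
  have hq1 : 1 < Nat.card F := Finite.one_lt_card
  refine
    { sit :=
        { Uc := m.Uc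
          Us := m.Us
          HU := m.Un
          TH := m.TH
          T2 := T2
          QT := QT
          TZ := d.TZ
          UT := m.UT
          NU := hWX.trans zlX
          QN := QW
          ZN := ZW
          Zne := h.bg.Z_ne j
          card := by
            rw [nt.card_Z, nt.card_N]
            calc Nat.card F = Nat.card F ^ 1 := (pow_one _).symm
              _ < Nat.card F ^ 2 := Nat.pow_lt_pow_right hq1 (by norm_num)
          PH := le_sup_left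
          TP := TX
          PN := Pj_norm_W hn b TP d.TZ
          PQ := XQ
          PC := Pj_norm_T
          YH := le_sup_right
          TY := d.syl.1
          sylY := d.syl
          oY := ChoiceSit.o2_le_syl d.syl
          mv := not_norm_of_mv d.syl d.min QT QZ d.nQ d.mvZ
          PL := Pj_cent d.ΛC d.ΛT
          fix := m.cUT.trans d.zT
          cnt := d.cnt
          noN := fun E hE hm hne => nt.no hE hm hne
          lineN := fun E hE ho => ?_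
          irrN := fun E hE ho K hK hcl => nt.irr (Pj_norm_W hn b TP d.TZ) (Pj_lift hn b TP d.TZ d.hT hH) hE ho hK hcl
          oneY := oneY_of hFF m.Uc m.Us m.Un d.syl d.min d.c2 mv le_sup_right zlY QT QZ d.nQ d.TZ }
      loc := ⟨D, m⟩
      hT := hTH
      hoff := ⟨E, hET.trans m.TH, hEb.offM le_rfl hEn⟩
      gen := fun A hA _ hAX hAY => ?_
      mv := mv
      VU := zlY
      CQ := m.cUQ }
  · obtain ⟨h1, h2⟩ := nt.comm hE ho
    refine ⟨nt.cent_eq hE ho, h1, fun Z' hZ' z hz => ?_⟩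
    obtain ⟨v, hv, hvZ⟩ : ∃ v ∈ W j, v ∉ Z j := by
      by_contra hcon
      push Not at hcon
      have h3 : W j = Z j := le_antisymm (fun v hv => hcon v hv) ZW
      have h4 := nt.card_N
      rw [h3, nt.card_Z] at h4
      have h5 : Nat.card F < Nat.card F ^ 2 := by
        calc Nat.card F = Nat.card F ^ 1 := (pow_one _).symm
          _ < Nat.card F ^ 2 := Nat.pow_lt_pow_right hq1 (by norm_num)
      omega
    obtain ⟨t, ht, rfl⟩ := h2 v hv hvZ z hz
    exact hZ' t ht v hv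
  · have h1 : zc T ≤ centralizer (A : Set G) := fun z hz =>
      mem_centralizer_iff.2 fun a ha => (ChoiceBase.mem_zc.1 hz).2.2 a (hA ha)
    have h2 : X ⊔ Y ≤ normalizer ((centralizer (A : Set G) : Subgroup G) : Set G) :=
      (sup_le hAX hAY).trans (normalizer_le_of_cj (F := fun T => centralizer (T : Set G))
        (fun g T => (cj_centralizer g T).symm) A)
    exact NO3b.EZero.cent_symm (ZN.zl_le h1 h2)

end inst

end Cfsg.Agent.Omega.CaseLQ
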