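import Cfsg.Agent.Omega.CaseLQ.GlueC
import Cfsg.Agent.Omega.Node.MulX

/-!
# NoW, `q = 2`: the facts on the block `L j` for the instance of `Sit`

* over `h : FB B L W Z 2`, `hZ : |Z| = 2`: `card_W`, `cent_E`, `noN`, `lineN`, `irrN`, `norm_C`, `W_le`;
* over `MulL .. 2`: `Lam`, `ZJ_eq` (`Ω₁Z(B) = Z j Λ`), `L_norm_Q`, `L_cent`, `not_norm`;
* `gen`.
-/

set_option autoImplicit false
set_option linter.unusedSectionVars false

namespace Cfsg.Agent.Omega.CaseLQ.InstB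

open Subgroup Cfsg Cfsg.Agent.ZN Cfsg.Agent.ZN.ChoiceBase Cfsg.Agent.ZN.ChoiceSit
open Cfsg.Agent.Omega.OM.Uni (Md FB)
open Cfsg.Agent.Omega.FFThm (OffM ElemM)
open Cfsg.Agent.Omega.NO3b.EZero (cl cj_le_cl le_cl cl_le)
open Cfsg.Agent.Omega.Node.MulX (MulL)

universe u

variable {G : Type u} [Group G]

section fb

variable {B L W Z : Subgroup G} (h : FB B L W Z 2)
include h

theorem card_W (hZ : Nat.card Z = 2) : Nat.card W = 4 := by rw [h.card, hZ]

theorem exists_mv {E : Subgroup G} (hne : ¬ E ≤ centralizer (W : Set G)) : ∃ e ∈ E, ¬ ∀ u ∈ W, e * u = u * e := by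
  by_contra hcon
  push Not at hcon
  exact hne fun e he => mem_centralizer_iff.2 fun u hu => (hcon e he u hu).symm

/-- `C_W(E) = Z` for every `E ≤ B` which moves `W` -/
theorem cent_E {E : Subgroup G} (hE : E ≤ B) (hne : ¬ E ≤ centralizer (W : Set G)) :
    W ⊓ centralizer (E : Set G) = Z := by
  obtain ⟨e, he, hne'⟩ := exists_mv h hne
  apply le_antisymm
  · rintro v ⟨hv, hvc⟩
    exact h.mem_Z (hE he) hne' hv (mem_centralizer_iff.1 hvc e he)
  · exact le_inf h.ZV fun z hz => mem_centralizer_iff.2 fun e he => h.cZ e (hE he) z hz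

/-- **`noN`** -/
theorem noN [Finite G] (hZ : Nat.card Z = 2) : ∀ E ≤ B, ElemM W E → ¬ E ≤ centralizer (W : Set G) →
    Nat.card E * Nat.card ↥(W ⊓ centralizer (E : Set G)) ≤ Nat.card W * Nat.card ↥(E ⊓ centralizer (W : Set G)) := by
  intro E hE _ hne
  rw [cent_E h hE hne, card_W h hZ, hZ]
  have h1 := h.card_le hE
  omega

theorem eq_of_mem (hZ : Nat.card Z = 2) {z x : G} (hz : z ∈ Z) (z1 : z ≠ 1) (hx : x ∈ Z) : x = 1 ∨ x = z := by
  have hf : Finite Z := Nat.finite_of_card_ne_zero (by omega)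
  by_contra hcon
  push Not at hcon
  have h1 : ({1, z, x} : Set G) ⊆ (Z : Set G) := by
    rintro y (rfl | rfl | rfl)
    · exact one_mem _
    · exact hz
    · exact hx
  have h4 : ({1, z, x} : Set G).ncard = 3 := by
    rw [Set.ncard_eq_three]
    exact ⟨1, z, x, z1.symm, fun e => hcon.1 e.symm, fun e => hcon.2 e.symm, rfl⟩
  have h5 := Set.ncard_le_ncard h1 (Set.toFinite (Z : Set G))
  rw [h4] at h5
  have h6 : (Z : Set G).ncard = Nat.card Z := rfl
  omega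

/-- **`lineN`** -/
theorem lineN (hZ : Nat.card Z = 2) : ∀ E ≤ B, OffM W E → W ⊓ centralizer (E : Set G) = Z ∧ CommIn E W Z ∧
    ∀ Z' : Subgroup G, CommIn E W Z' → Z ≤ Z' := by
  intro E hE ho
  refine ⟨cent_E h hE ho.ne, fun e he u hu => h.com e (hE he) u hu, fun Z' hZ' z hz => ?_⟩
  obtain ⟨e, he, hne'⟩ := exists_mv h ho.ne
  push Not at hne'
  obtain ⟨u, hu, hne⟩ := hne'
  have h1 := hZ' e he u hu
  have h2 := h.com e (hE he) u hu
  have h3 : e * u * e⁻¹ * u⁻¹ ≠ 1 := fun h0 => hne (by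
    have : e * u = (e * u * e⁻¹ * u⁻¹) * (u * e) := by group
    rw [this, h0, one_mul])
  rcases eq_of_mem h hZ h2 h3 hz with rfl | rfl
  · exact one_mem _
  · exact h1

theorem W_le_sup : ∃ l ∈ L, W ≤ Z ⊔ cj l Z := by
  obtain ⟨l, hl, hs⟩ := h.sup
  have h1 : ⁅W, B⁆ ≤ Z := h.comm_le le_rfl
  exact ⟨l, hl, hs.trans (sup_le (h1.trans le_sup_left) ((cj_mono l h1).trans le_sup_right))⟩

/-- **`irrN`** -/
theorem irrN [Finite G] (hZ : Nat.card Z = 2) : ∀ E ≤ B, OffM W E → ∀ K ≤ W, cl E L ≤ normalizer (K : Set G) →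
    K = ⊥ ∨ K = W := by
  intro E hE ho K hK hn
  obtain ⟨l, hl, hs⟩ := W_le_sup h
  have hW := card_W h hZ
  have hd : Nat.card K ∣ 4 := hW ▸ Subgroup.card_dvd_of_le hK
  have hle : Nat.card K ≤ 4 := Nat.le_of_dvd (by norm_num) hd
  have hpos : 0 < Nat.card K := Nat.card_pos
  by_cases h1 : Nat.card K = 1
  · exact Or.inl (Subgroup.card_eq_one.1 h1)
  by_cases h4 : Nat.card K = 4
  · exact Or.inr (Subgroup.eq_of_le_of_card_ge hK (by rw [hW, h4]))
  exfalso
  have h2 : Nat.card K = 2 := by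
    have h3 : Nat.card K ≠ 3 := fun h3 => by rw [h3] at hd; omega
    omega
  obtain ⟨x, hx, hx1⟩ : ∃ x ∈ K, x ≠ 1 := by
    by_contra hcon
    push Not at hcon
    have : K = ⊥ := (Subgroup.eq_bot_iff_forall K).2 hcon
    rw [this, Subgroup.card_bot] at h2
    omega
  -- `⟨E^L⟩` centralises `x`
  have hfix : ∀ g ∈ cl E L, g * x * g⁻¹ = x := by
    intro g hg
    have h3 : g * x * g⁻¹ ∈ K := (mem_normalizer_iff.1 (hn hg) x).1 hx
    by_contra hne
    have h5 : g * x * g⁻¹ ≠ 1 := fun h0 => hx1 (by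
      have : x = g⁻¹ * (g * x * g⁻¹) * g := by group
      rw [this, h0]; group)
    have h6 : ({1, x, g * x * g⁻¹} : Set G) ⊆ (K : Set G) := by
      rintro y (rfl | rfl | rfl)
      · exact one_mem _
      · exact hx
      · exact h3
    have h7 : ({1, x, g * x * g⁻¹} : Set G).ncard = 3 := by
      rw [Set.ncard_eq_three]
      exact ⟨1, x, _, hx1.symm, h5.symm, fun e => hne e.symm, rfl⟩
    have h8 := Set.ncard_le_ncard h6 (Set.toFinite _)
    rw [h7] at h8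
    have h9 : (K : Set G).ncard = Nat.card K := rfl
    omega
  have hcomm : ∀ g ∈ cl E L, g * x = x * g := fun g hg => mul_inv_eq_iff_eq_mul.1 (hfix g hg)
  -- `x ∈ Z`
  have hxZ : x ∈ Z := by
    rw [← cent_E h hE ho.ne]
    exact ⟨hK hx, mem_centralizer_iff.2 fun e he => hcomm e (le_cl E L he)⟩
  -- `x ∈ cj l Z`
  have hxl : l⁻¹ * x * l ∈ Z := by
    rw [← cent_E h hE ho.ne]
    refine ⟨h.nV' hl (hK hx), mem_centralizer_iff.2 fun e he => ?_⟩
    have h3 := hcomm (l * e * l⁻¹) (cj_le_cl hl ⟨e, he, rfl⟩)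
    calc e * (l⁻¹ * x * l) = l⁻¹ * ((l * e * l⁻¹) * x) * l := by group
      _ = l⁻¹ * (x * (l * e * l⁻¹)) * l := by rw [h3]
      _ = l⁻¹ * x * l * e := by group
  -- so `cj l Z = Z`
  have hZZ : cj l Z ≤ Z := by
    rintro _ ⟨z, hz, rfl⟩
    have hne : l⁻¹ * x * l ≠ 1 := fun h0 => hx1 (by
      have : x = l * (l⁻¹ * x * l) * l⁻¹ := by group
      rw [this, h0]; group)
    rcases eq_of_mem h hZ hxl hne hz with rfl | rfl
    · simp
    · have : (MulEquiv.toMonoidHom (MulAut.conj l)) (l⁻¹ * x * l) = x := by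
        simp only [MulEquiv.coe_toMonoidHom, MulAut.conj_apply]
        group
      rw [this]
      exact hxZ
  have h3 := Subgroup.card_le_of_le (hs.trans (sup_le le_rfl hZZ))
  omega

/-- **`C_B(W)` is normal in `L`** -/
theorem norm_C [Finite G] : L ≤ normalizer ((B ⊓ centralizer (W : Set G) : Subgroup G) : Set G) := by
  have key : ∀ l ∈ L, cj l (B ⊓ centralizer (W : Set G)) ≤ B ⊓ centralizer (W : Set G) := by
    rintro l hl _ ⟨x, ⟨hx, hxc⟩, rfl⟩
    simp only [MulEquiv.coe_toMonoidHom, MulAut.conj_apply]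
    refine ⟨h.cor l hl x hx fun v hv => (mem_centralizer_iff.1 hxc v hv).symm, mem_centralizer_iff.2 fun v hv => ?_⟩
    have h1 := mem_centralizer_iff.1 hxc _ (h.nV' hl hv)
    calc v * (l * x * l⁻¹) = l * ((l⁻¹ * v * l) * x) * l⁻¹ := by group
      _ = l * (x * (l⁻¹ * v * l)) * l⁻¹ := by rw [h1]
      _ = l * x * l⁻¹ * v := by group
  intro l hl
  exact mem_normalizer_of_cj_le (key l hl)

theorem L_norm_W [Finite G] : L ≤ normalizer (W : Set G) := fun l hl => mem_normalizer_of_cj_le (by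
  rintro _ ⟨x, hx, rfl⟩
  exact h.nV l hl x hx)

/-- `W ≤ U` if `Z ≤ U` and `L` normalises `U` -/
theorem W_le {U : Subgroup G} (hZU : Z ≤ U) (hLU : L ≤ normalizer (U : Set G)) : W ≤ U := by
  obtain ⟨l, hl, hs⟩ := W_le_sup h
  refine hs.trans (sup_le hZU ?_)
  have h1 := cj_mono l hZU
  rwa [cj_eq_of_mem_normalizer (hLU hl)] at h1

end fb

section mul

variable [Finite G] {S : Sylow 2 G} {P B ZJ : Subgroup G} {k : ℕ} {L W Z C A : Fin k → Subgroup G}

/-- `Λ = ⟨Z l : l ≠ j⟩` -/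
def Lam (Z : Fin k → Subgroup G) (j : Fin k) : Subgroup G := ⨆ l ∈ {l | l ≠ j}, Z l

theorem Z_le_Lam {Z : Fin k → Subgroup G} {j l : Fin k} (hl : l ≠ j) : Z l ≤ Lam Z j :=
  le_iSup₂_of_le (f := fun l (_ : l ∈ {l | l ≠ j}) => Z l) l hl le_rfl

theorem Lam_le {Z : Fin k → Subgroup G} {j : Fin k} {X : Subgroup G} (h : ∀ l, l ≠ j → Z l ≤ X) : Lam Z j ≤ X :=
  iSup₂_le fun l hl => h l hl

variable (h : MulL S P B ZJ L W Z C A 2)
include h

theorem ZJ_le_sup : ZJ = ⨆ i, Z i := by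
  classical
  refine le_antisymm (fun z hz => ?_) (iSup_le h.fr.Z_le)
  have key : ∀ s : Finset (Fin k), ∃ u ∈ ⨆ i, Z i, ∀ i ∈ s, u⁻¹ * z ∈ C i := by
    intro s
    induction s using Finset.induction_on with
    | empty => exact ⟨1, one_mem _, by simp⟩
    | insert i s hi ih =>
      obtain ⟨u, hu, hus⟩ := ih
      have huJ : u ∈ ZJ := (iSup_le h.fr.Z_le : (⨆ i, Z i) ≤ ZJ) hu
      obtain ⟨w, hw, c, hc, hcJ, e⟩ := h.fr.split_ZJ i (mul_mem (inv_mem huJ) hz)
      refine ⟨u * w, mul_mem hu (mem_iSup_of_mem i hw), fun l hl => ?_⟩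
      rcases Finset.mem_insert.1 hl with rfl | hl
      · have e1 : (u * w)⁻¹ * z = c := by
          calc (u * w)⁻¹ * z = w⁻¹ * (u⁻¹ * z) := by group
            _ = w⁻¹ * (w * c) := by rw [e]
            _ = c := by group
        rw [e1]; exact hc
      · have hli : l ≠ i := fun e => hi (e ▸ hl)
        have e2 : (u * w)⁻¹ * z = w⁻¹ * (u⁻¹ * z) := by group
        rw [e2]
        exact mul_mem (inv_mem (h.fr.WjC l i hli ((h.fr.blk i).ZV hw))) (hus l hl)
  obtain ⟨u, hu, hus⟩ := key Finset.univ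
  have huJ : u ∈ ZJ := (iSup_le h.fr.Z_le : (⨆ i, Z i) ≤ ZJ) hu
  have h1 : u⁻¹ * z = 1 := h.fr.C0 _ (h.fr.ZJV (mul_mem (inv_mem huJ) hz)) fun i => hus i (Finset.mem_univ i)
  rw [← inv_mul_eq_one.1 h1]
  exact hu

/-- **`Ω₁Z(B) = Z j Λ`** -/
theorem zcB_eq (j : Fin k) : zc B = Z j ⊔ Lam Z j := by
  rw [h.fr.zcB, ZJ_le_sup h]
  refine le_antisymm (iSup_le fun i => ?_) (sup_le (le_iSup Z j) (Lam_le fun l _ => le_iSup Z l))
  by_cases hi : i = j
  · rw [hi]; exact le_sup_left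
  · exact (Z_le_Lam hi).trans le_sup_right

theorem Lam_le_ZJ (j : Fin k) : Lam Z j ≤ ZJ := Lam_le fun l _ => h.fr.Z_le l

/-- `L j` normalises `Q` -/
theorem L_norm_Q (j : Fin k) : L j ≤ normalizer (o2 P : Set G) := fun l hl => mem_normalizer_of_cj_le (by
  rintro _ ⟨x, hx, rfl⟩
  exact h.fr.LQ j l hl x hx)

/-- `L j` centralises `Λ` -/
theorem L_cent (j : Fin k) : L j ≤ centralizer (Lam Z j : Set G) := by
  rw [le_centralizer_iff]
  refine Lam_le fun l hl z hz => mem_centralizer_iff.2 fun x hx => ?_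
  exact h.fr.LC j x hx z (h.fr.Z_le l hz) (h.fr.WjC j l hl.symm ((h.fr.blk l).ZV hz))

/-- `Y` moves `Z j` -/
theorem not_norm {j : Fin k} {Y : Subgroup G} (hY : ∀ l, l ≠ j → Y ≤ centralizer (Z l : Set G))
    (hm : ¬ Y ≤ centralizer (zc B : Set G)) : ¬ Y ≤ normalizer (Z j : Set G) := by
  intro hn
  apply hm
  rw [zcB_eq h j, le_centralizer_iff]
  refine sup_le (fun z hz => mem_centralizer_iff.2 fun y hy => ?_) (Lam_le fun l hl => le_centralizer_iff.1 (hY l hl))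
  by_cases z1 : z = 1
  · rw [z1]; simp
  have h1 : y * z * y⁻¹ ∈ Z j := (mem_normalizer_iff.1 (hn hy) z).1 hz
  rcases eq_of_mem (h.fr.blk j) (h.fr.cardZ j) hz z1 h1 with h2 | h2
  · exfalso
    apply z1
    calc z = y⁻¹ * (y * z * y⁻¹) * y := by group
      _ = 1 := by rw [h2]; group
  · exact mul_inv_eq_iff_eq_mul.1 h2

end mul

/-- **the hypothesis `gen` of `SitC.exists_E`** -/
theorem gen [Finite G] {B X Y A : Subgroup G} (hA : A ≤ B) (hX : X ≤ normalizer (A : Set G))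
    (hY : Y ≤ normalizer (A : Set G)) : A ≤ centralizer (zl B (X ⊔ Y) : Set G) := by
  rw [le_centralizer_iff]
  refine ZN.zl_le ?_ ((sup_le hX hY).trans (normalizer_le_of_cj (F := fun T => centralizer (T : Set G))
    (fun g T => (cj_centralizer g T).symm) A))
  rw [← le_centralizer_iff]
  exact hA.trans (NO3S.Level.le_centralizer_zc _)

end Cfsg.Agent.Omega.CaseLQ.InstB
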