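import Cfsg.Agent.Omega.CaseLQ.GlueC
import Cfsg.Agent.Omega.CaseLQ.OneY
import Cfsg.Agent.Omega.CaseLQ.Rt
import Cfsg.Agent.Omega.NO3S.WY.Loc

/-!
# CaseL, weird `Y`, the instance of `SitC` from the group `P_j`, any `Λ` with (CNT)

* `PJ T Q D N Z Λ X` : what is used of the group `X = P_j`;
* `exists_E_of` : `T` Sylow in `C_G(D)`, `1 ≠ D ≤ Z_J`, `Y ≤ C_G(D)` a minimal parabolic over `T` which moves
  `C_Z(T)`, `O₂(P) ≰ O₂(Y)`, (CNT): all members `≤ T` of the extremal class on `U = ⟨Ω₁Z(T)^⟨X,Y⟩⟩` centralise `N`,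
  and one of them is not in `O₂(Y)`.
-/

set_option autoImplicit false
set_option linter.unusedSectionVars false

namespace Cfsg.Agent.Omega.CaseLQ

open Subgroup Cfsg Cfsg.Agent.ZN Cfsg.Agent.ZN.ChoiceBase Cfsg.Agent.ZN.ChoiceSit
open Cfsg.Agent.Omega.MinPar (IsParS)
open Cfsg.Agent.MinSimple.MinParabolic (IsMinPar)
open Cfsg.Agent.MinSimple.VModule (oddGen)
open Cfsg.Agent.Omega.FFThm (OffM ElemM NoOverM StmtM)
open Cfsg.Agent.Omega.NO1.BestOff (Best)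
open Cfsg.Agent.Omega.NO3S.RedC (MaxMin exists_maxMin)
open Cfsg.Agent.Omega.NO3S.Level (CaseL)
open Cfsg.Agent.Omega.NO3S.WY (BB ZJ Loc exists_loc)
open Cfsg.Agent.Omega.NO3b.EZero (cl cj_le_cl le_cl cl_le le_normalizer_cl cent_symm cj_cent)
open Cfsg.Agent.Omega.NO3S.NotFF (le_normalizer_of_forall)
open Cfsg.Agent.Omega.NO3b.K0 (conj_mem' cj_of_le cj_self)

universe u

variable {G : Type u} [Group G] [Finite G]

/-- What is used of `X = P_j` (`T ≤ X`, `N` the block, `Z` its `T`-line). -/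
structure PJ (T Q D N Z Λ X : Subgroup G) : Prop where
  TX : T ≤ X
  XQ : X ≤ normalizer (Q : Set G)
  XD : X ≤ centralizer (D : Set G)
  XN : X ≤ normalizer (N : Set G)
  XC : X ≤ normalizer ((T ⊓ centralizer (N : Set G) : Subgroup G) : Set G)
  XΛ : X ≤ centralizer (Λ : Set G)
  ZN : Z ≤ N
  Zne : Z ≠ ⊥
  card : Nat.card Z < Nat.card N
  TZ : T ≤ normalizer (Z : Set G)
  irr : ∀ K ≤ N, X ≤ normalizer (K : Set G) → K = ⊥ ∨ K = N
  noN : ∀ E ≤ T, ElemM N E → ¬ E ≤ centralizer (N : Set G) →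
    Nat.card E * Nat.card ↥(N ⊓ centralizer (E : Set G)) ≤ Nat.card N * Nat.card ↥(E ⊓ centralizer (N : Set G))
  lineN : ∀ E ≤ T, OffM N E → N ⊓ centralizer (E : Set G) = Z ∧ CommIn E N Z ∧
    ∀ Z' : Subgroup G, CommIn E N Z' → Z ≤ Z'
  irrN : ∀ E ≤ T, OffM N E → ∀ K ≤ N, cl E X ≤ normalizer (K : Set G) → K = ⊥ ∨ K = N

variable {S : Sylow 2 G} {P T Y D N Z Λ X : Subgroup G}

/-- `1 ≠ C_Z(T)` -/
theorem PJ.exists_z (p : PJ T (o2 P) D N Z Λ X) (hT : IsPGroup 2 T) (NT : N ≤ T) :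
    ∃ z ∈ Z ⊓ centralizer (T : Set G), z ≠ 1 := by
  obtain ⟨z, hz, hz1, hfix⟩ := NO3S.OneLine.exists_fixed hT (p.ZN.trans NT) p.TZ
    (fun h0 => p.Zne (le_bot_iff.1 h0) : ¬ Z ≤ (⊥ : Subgroup G))
  rw [mem_bot] at hz1
  exact ⟨z, mem_inf.2 ⟨hz, mem_centralizer_iff.2 fun t ht => by
    have h1 := mem_bot.1 (hfix t ht)
    have e1 : t * z = (t * z * t⁻¹ * z⁻¹) * z * t := by group
    rw [e1, h1, one_mul]⟩, hz1⟩

/-- `N ≤ ⟨Ω₁Z(T)^X⟩` -/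
theorem PJ.N_le (p : PJ T (o2 P) D N Z Λ X) (hT : IsPGroup 2 T) (NT : N ≤ T) (Nsq : ∀ v ∈ N, v ^ 2 = 1) :
    N ≤ ZN.zl T X := by
  obtain ⟨z, hz, hz1⟩ := p.exists_z hT NT
  have hzc : z ∈ zc T := ChoiceBase.mem_zc.2 ⟨NT (p.ZN hz.1), Nsq z (p.ZN hz.1),
    fun t ht => mem_centralizer_iff.1 hz.2 t ht⟩
  have h1 : z ∈ N ⊓ ZN.zl T X := ⟨p.ZN hz.1, MinSimple.VModule.zc_le_zl _ _ hzc⟩
  have h2 := (p.irr (N ⊓ ZN.zl T X) inf_le_left (le_normalizer_of_forall fun x hx v hv =>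
    ⟨conj_mem' p.XN hx hv.1, conj_mem' (ZN.le_normalizer_zl T X) hx hv.2⟩)).resolve_left fun h0 => by
      rw [h0, mem_bot] at h1
      exact hz1 h1
  exact inf_eq_left.1 h2

/-- **The instance of `SitC`.** -/
theorem exists_E_of (hFF : StmtM.{u}) (cl : CaseL S P) (TS : T ≤ (S : Subgroup G)) (QT : o2 P ≤ T) (syl : Syl T Y)
    (min : IsMinPar T Y) (c2 : Y ⊓ centralizer (o2 Y : Set G) ≤ o2 Y) (nQ : ¬ o2 P ≤ o2 Y)
    (BT : BB (S : Subgroup G) P ≤ T) (DZ : D ≤ ZJ (S : Subgroup G) P) (Dn : D ≠ ⊥)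
    (hT : Syl T (centralizer (D : Set G))) (YD : Y ≤ centralizer (D : Set G))
    (p : PJ T (o2 P) D N Z Λ X) (NV : N ≤ ZN.zl (S : Subgroup G) P)
    (hN : ∀ A : Subgroup G, A ≤ (S : Subgroup G) → ¬ A ≤ o2 P → ∃ s ∈ (S : Subgroup G), ¬ cj s A ≤ centralizer (N : Set G))
    (fix : zc T ≤ Z ⊔ Λ) (mv : ¬ Y ≤ centralizer ((Z ⊓ centralizer (T : Set G) : Subgroup G) : Set G))
    (cnt : ∀ F ≤ Λ, F ⊓ centralizer (Y : Set G) = ⊥ → Nat.card F < Nat.card ↥(Z ⊓ centralizer (T : Set G))) :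
    Loc S P T Y D (X ⊔ Y) (ZN.zl T (X ⊔ Y)) ∧ N ≤ ZN.zl T (X ⊔ Y) ∧
      (∀ E, MaxMin (ZN.zl T (X ⊔ Y)) (X ⊔ Y) E → E ≤ T → E ≤ centralizer (N : Set G)) ∧
      ∃ E, MaxMin (ZN.zl T (X ⊔ Y)) (X ⊔ Y) E ∧ E ≤ T ∧ ¬ E ≤ o2 Y := by
  have hT2 : IsPGroup 2 T := syl.2.1
  have hVQ : ZN.zl (S : Subgroup G) P ≤ zc (o2 P) := cl.zc_eq.ge
  have NQ : N ≤ o2 P := NV.trans (hVQ.trans (ZN.zc_le _))
  have NT : N ≤ T := NQ.trans QT
  have Nsq : ∀ v ∈ N, v ^ 2 = 1 := fun v hv => (ChoiceBase.mem_zc.1 (hVQ (NV hv))).2.1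
  have QN : o2 P ≤ centralizer (N : Set G) := fun x hx => mem_centralizer_iff.2 fun v hv =>
    ((ChoiceBase.mem_zc.1 (hVQ (NV hv))).2.2 x hx).symm
  have hNX := p.N_le hT2 NT Nsq
  have hZ0 : Z ⊓ centralizer (T : Set G) ≤ zc T := fun z hz => ChoiceBase.mem_zc.2
    ⟨NT (p.ZN hz.1), Nsq z (p.ZN hz.1), fun t ht => mem_centralizer_iff.1 hz.2 t ht⟩
  have mv' : ¬ Y ≤ centralizer (zc T : Set G) := fun h => mv (h.trans (centralizer_le hZ0))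
  obtain ⟨m, A, hAT, hA, hAn⟩ := exists_loc cl TS QT syl min c2 mv' nQ BT DZ Dn hT YD p.TX p.XQ p.XD
    (fun A hA hAP => by
      obtain ⟨s, hs, hne⟩ := hN A hA hAP
      exact ⟨s, hs, fun hc => hne (hc.trans (centralizer_le hNX))⟩)
  set H := X ⊔ Y with hH
  set U := ZN.zl T H with hU
  have hXU : ZN.zl T X ≤ U := ZN.zl_le (MinSimple.VModule.zc_le_zl _ _)
    ((le_sup_left : X ≤ X ⊔ Y).trans (ZN.le_normalizer_zl _ _))
  have hYU : ZN.zl T Y ≤ U := ZN.zl_le (MinSimple.VModule.zc_le_zl _ _)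
    ((le_sup_right : Y ≤ X ⊔ Y).trans (ZN.le_normalizer_zl _ _))
  have NU : N ≤ U := hNX.trans hXU
  -- `Y` moves `Z`
  have mvZ : ¬ Y ≤ normalizer (Z : Set G) := by
    intro h
    have hK : Y ≤ normalizer ((Y ⊓ centralizer (Z : Set G) : Subgroup G) : Set G) :=
      NO3b.EZero.le_normalizer_inf_cent h
    rcases NO3b.K0.min_or syl min (K := Y ⊓ centralizer (Z : Set G)) inf_le_left hK with h2 | h2
    · refine mv ?_
      rw [← NO3b.EZero.oddGen_sup_syl syl]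
      exact sup_le (h2.trans (inf_le_right.trans (centralizer_le inf_le_left))) (cent_symm inf_le_right)
    · exact nQ ((le_inf QT (le_inf (QT.trans syl.1) (QN.trans (centralizer_le p.ZN)))).trans h2)
  have s : SitC H U T (o2 P) N Z Λ X Y :=
    { Uc := m.Uc, Us := m.Us, HU := m.Un, TH := m.TH, T2 := hT2, QT := QT, TZ := p.TZ, UT := m.UT, NU := NU, QN := QN
      ZN := p.ZN, Zne := p.Zne, card := p.card, PH := le_sup_left, TP := p.TX, PN := p.XN, PQ := p.XQ, PC := p.XC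
      YH := le_sup_right, TY := syl.1, sylY := syl, oY := ChoiceSit.o2_le_syl syl, mv := mvZ, PL := p.XΛ
      fix := m.cUT.trans fix
      cnt := cnt, noN := p.noN, lineN := p.lineN, irrN := p.irrN
      oneY := oneY_of hFF m.Uc m.Us m.Un syl min c2 mv' le_sup_right hYU QT (QN.trans (centralizer_le p.ZN)) nQ p.TZ }
  have hTH : Syl T H := ⟨m.TH, hT2, fun R hR hR2 hTR => hT.2.2 R (hR.trans m.HC) hR2 hTR⟩
  refine ⟨m, NU, s.exists_E hTH ⟨A, hAT.trans m.TH, (best_or m.Uc le_rfl hA).resolve_left hAn⟩ ?_⟩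
  intro A' hA' hA'N hXA hYA
  have h1 : H ≤ normalizer (A' : Set G) := sup_le hXA hYA
  refine cent_symm (ZN.zl_le (cent_symm fun x hx => NO3S.Level.le_centralizer_zc _ (hA' hx)) ?_)
  exact h1.trans (normalizer_le_of_cj (F := fun T => centralizer (T : Set G))
    (fun g T => (cj_centralizer g T).symm) A')

end Cfsg.Agent.Omega.CaseLQ
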