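import Cfsg.Agent.Omega.CaseLQ.PsiBg

/-!
# A subgroup of `S` outside `O₂(P)` moves `V_j` after conjugation in `S`

`Bg S P B ZJ L W Z C q` (several blocks).

* `le_Q_of` : a subgroup of `S` which centralises all `W l` lies in `O₂(P)`;
* `hN_of` : **`A ≤ S`, `A ≰ O₂(P)` : some `cj s A`, `s ∈ S`, moves `W j`**.
-/

set_option autoImplicit false
set_option linter.unusedSectionVars false

namespace Cfsg.Agent.Omega.CaseLQ.TwoN

open Subgroup Cfsg Cfsg.Agent.ZN Cfsg.Agent.ZN.ChoiceBase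
open Cfsg.Agent.Omega.OM
open Cfsg.Agent.Omega.NO3S.EThree.Frame (Bg Fg)
open Cfsg.Agent.Omega.CaseLQ.Psi

universe u

variable {G : Type u} [Group G] [Finite G] {S : Sylow 2 G} {P B ZJ : Subgroup G} {ι : Type}
  {L W Z C : ι → Subgroup G} {q : ℕ} (h : Bg S P B ZJ L W Z C q)
include h

theorem W_inj {i m : ι} (e : W i = W m) : i = m := by
  by_contra hne
  obtain ⟨v, hv, hvZ⟩ := exists_v h i
  have h1 : v ∈ C i := h.fr.WjC i m hne (e ▸ hv)
  have h2 : v ∈ W i ⊓ C i := ⟨hv, h1⟩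
  rw [h.fr.dir i, mem_bot] at h2
  exact hvZ (h2 ▸ one_mem _)

/-- a subgroup of `S` which centralises all `W l` lies in `O₂(P)` -/
theorem le_Q_of {A : Subgroup G} (hA : A ≤ (S : Subgroup G)) (hc : ∀ l, A ≤ centralizer (W l : Set G)) :
    A ≤ o2 P := by
  have hSP : (S : Subgroup G) ≤ P := h.hyp.toHyp.star.isLoc.le
  have hcV : A ≤ centralizer (zl (S : Subgroup G) P : Set G) := by
    intro a ha
    rw [mem_centralizer_iff]
    intro v hv
    obtain ⟨σ, hσ⟩ := h.perm a (hSP (hA ha))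
    have hW : ∀ i, cj a (W i) = W i := by
      intro i
      have h1 : a ∈ centralizer (W i : Set G) := hc i ha
      exact cj_eq_of_mem_normalizer (centralizer_le_normalizer _ h1)
    have hσi : ∀ i, σ i = i := fun i => W_inj h ((hσ i).1.symm.trans (hW i))
    have hC : ∀ i, cj a (C i) = C i := fun i => by
      have h1 := (hσ i).2
      rwa [hσi i] at h1
    have key : a * v * a⁻¹ * v⁻¹ = 1 := by
      have hVn : a * v * a⁻¹ ∈ zl (S : Subgroup G) P := by
        have h1 := MinSimple.VModule.le_normalizer_zl (S : Subgroup G) P (hSP (hA ha))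
        exact (mem_normalizer_iff.1 h1 v).1 hv
      refine h.fr.C0 _ (mul_mem hVn (inv_mem hv)) fun i => ?_
      obtain ⟨w, hw, c, hc', rfl⟩ := h.fr.WC i v hv
      have haw : w * a = a * w := mem_centralizer_iff.1 (hc i ha) w hw
      have hac : a * c * a⁻¹ ∈ C i := by
        rw [← hC i]
        exact ⟨c, hc', rfl⟩
      have hwV := h.fr.WV i hw
      have hcV := h.fr.CV i hc'
      have hacV := h.fr.CV i hac
      have e1 : a * (w * c) * a⁻¹ * (w * c)⁻¹ = (a * w * a⁻¹) * (a * c * a⁻¹) * c⁻¹ * w⁻¹ := by group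
      have e2 : a * w * a⁻¹ = w := by rw [← haw, mul_inv_cancel_right]
      have e3 : w * (a * c * a⁻¹) * c⁻¹ * w⁻¹ = (a * c * a⁻¹) * c⁻¹ := by
        rw [h.fr.Vc hwV hacV]
        have e4 : a * c * a⁻¹ * w * c⁻¹ * w⁻¹ = a * c * a⁻¹ * (w * c⁻¹) * w⁻¹ := by group
        rw [e4, h.fr.Vc hwV (inv_mem hcV)]
        group
      rw [e1, e2, e3]
      exact mul_mem hac (inv_mem hc')
    have h2 : a * v * a⁻¹ = v := mul_inv_eq_one.1 key
    exact (mul_inv_eq_iff_eq_mul.1 h2).symm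
  intro a ha
  have haB : a ∈ B := h.cent_le ⟨hA ha, hcV ha⟩
  exact (h.fr.mem_Q a haB).2 fun v hv => (mem_centralizer_iff.1 (hcV ha) v hv).symm

/-- **`A ≤ S`, `A ≰ O₂(P)` : some conjugate under `S` moves `W j`.** -/
theorem hN_of (j : ι) {A : Subgroup G} (hA : A ≤ (S : Subgroup G)) (hP : ¬ A ≤ o2 P) :
    ∃ s ∈ (S : Subgroup G), ¬ cj s A ≤ centralizer (W j : Set G) := by
  by_contra hcon
  push Not at hcon
  refine hP (le_Q_of h hA fun l => ?_)
  obtain ⟨s, hs, e⟩ := h.trans l j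
  have h1 := hcon s hs
  rw [← e, ← cj_centralizer, cj_le_iff, cj_inv_cj] at h1
  exact h1

end Cfsg.Agent.Omega.CaseLQ.TwoN
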