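import Cfsg.Agent.Omega.CaseLQ.GlueC
import Cfsg.Agent.Omega.CaseLQ.OneY
import Cfsg.Agent.Omega.NO3S.WY.Loc
import Cfsg.Agent.Omega.NO3S.WY.Tor.Lit
import Cfsg.Agent.Omega.FFThmM
import Cfsg.Agent.Omega.EK3.Base
import Cfsg.Agent.Omega.CaseLQ.InstB
import Cfsg.Agent.Omega.CaseLQ.TwoN

/-!
# CaseL, weird `Y`, `q = 2`: the instance of `LMd` and `Sit` over `MulX.MulL .. 2` (#24136 (0), (i))

`Λ = ⟨Z l : l ≠ j⟩`, `H = ⟨L j, Y⟩`, `U = ⟨Ω₁(Z(B))^H⟩`.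

* `Lam`, `Lam_le`, `Lam_ne`, `Y_Lam`, `L_Lam`, `syl_Lam` : `B` is a Sylow 2-subgroup of `C_G(Λ)`;
* `lmd` : `LMd S P B Y Λ H U`;
* `exists_inst` : the literal of helper459 (#26523).
-/

set_option autoImplicit false
set_option linter.unusedSectionVars false

namespace Cfsg.Agent.Omega.CaseLQ.InstTwo

open Subgroup Cfsg Cfsg.Agent.ZN Cfsg.Agent.ZN.ChoiceBase Cfsg.Agent.Omega.MinPar Cfsg.Agent.Omega.Frame
open Cfsg.Agent.ZN.ChoiceSit (Syl)
open Cfsg.Agent.MinSimple.MinParabolic (IsMinPar)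
open Cfsg.Agent.Omega.NO3S.Level
open Cfsg.Agent.Omega.NO3S.RedC
open Cfsg.Agent.Omega.NO3S.WY
open Cfsg.Agent.Omega.NO1.BestOff (Best)
open Cfsg.Agent.Omega.FFThm (OffM ElemM NoOverM)
open Cfsg.Agent.Omega.Node.MulX (MulL)
open Cfsg.Agent.Omega.NO3S.EThree.Frame (Bg Fg)
open Cfsg.Agent.Omega.OM
open Cfsg.Agent.Omega.OM.Uni (FB)

universe u

variable {G : Type u} [Group G] [Finite G] {S : Sylow 2 G} {P B ZJ₀ : Subgroup G} {k : ℕ}
  {L W Z C A : Fin k → Subgroup G} {j : Fin k} {Y : Subgroup G}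

/-- `Λ_j = ⟨Z l : l ≠ j⟩` -/
abbrev Lam (Z : Fin k → Subgroup G) (j : Fin k) : Subgroup G := ⨆ l ∈ {l : Fin k | l ≠ j}, Z l

theorem Lam_le_of {X : Subgroup G} (h : ∀ l, l ≠ j → Z l ≤ X) : Lam Z j ≤ X := iSup₂_le fun l hl => h l hl

theorem Z_le_Lam {l : Fin k} (hl : l ≠ j) : Z l ≤ Lam Z j := le_iSup₂ (f := fun l (_ : l ∈ {l : Fin k | l ≠ j}) => Z l) l hl

theorem cent_Lam {X : Subgroup G} (h : ∀ l, l ≠ j → X ≤ centralizer (Z l : Set G)) : X ≤ centralizer (Lam Z j : Set G) := by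
  rw [le_centralizer_iff]
  exact Lam_le_of fun l hl => le_centralizer_iff.1 (h l hl)

section any

variable {q : ℕ} (h : MulL S P B ZJ₀ L W Z C A q)
include h

theorem Lam_le : Lam Z j ≤ ZJ₀ := Lam_le_of fun l _ => h.fr.Z_le l

theorem Lam_ne : Lam Z j ≠ ⊥ := by
  obtain ⟨l, hl⟩ : ∃ l : Fin k, l ≠ j := h.bg.two j
  exact fun e => h.bg.Z_ne l (le_bot_iff.1 (e ▸ Z_le_Lam hl))

theorem L_Lam : L j ≤ centralizer (Lam Z j : Set G) := cent_Lam fun l hl => fun x hx =>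
  mem_centralizer_iff.2 fun z hz =>
    (h.fr.LC j x hx z (h.fr.Z_le l hz) (h.fr.WjC j l (Ne.symm hl) ((h.fr.blk l).ZV hz))).symm

theorem LQ : L j ≤ normalizer (o2 P : Set G) := fun x hx => mem_normalizer_of_cj_le fun y hy => by
  obtain ⟨z, hz, rfl⟩ := hy
  exact h.fr.LQ j x hx z hz

end any

omit [Finite G] in
/-- the normaliser of a group of order 2 centralises it -/
theorem normalizer_le_of_two {X : Subgroup G} (hX : Nat.card X = 2) : normalizer (X : Set G) ≤ centralizer (X : Set G) := by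
  intro r hr
  rw [mem_centralizer_iff]
  intro z hz
  obtain ⟨y, hy, huniq⟩ := (Nat.card_eq_two_iff' (1 : X)).1 hX
  have h1 : r * z * r⁻¹ ∈ X := (mem_normalizer_iff.1 hr z).1 hz
  by_cases hz1 : z = 1
  · rw [hz1]; group
  have e1 := huniq ⟨z, hz⟩ fun e => hz1 (congrArg Subtype.val e)
  have e2 := huniq ⟨r * z * r⁻¹, h1⟩ fun e => hz1 (by
    have h2 : r * z * r⁻¹ = 1 := congrArg Subtype.val e
    have h3 : z = r⁻¹ * (r * z * r⁻¹) * r := by group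
    rw [h3, h2]; group)
  have e3 : r * z * r⁻¹ = z := congrArg Subtype.val (e2.trans e1.symm)
  exact (mul_inv_eq_iff_eq_mul.1 e3).symm

/-- a 2-group over `B` in `C_G(Z l : l ≠ j)` centralises `Z_J` (`q = 2`) -/
theorem le_cent_ZJ (h : MulL S P B ZJ₀ L W Z C A 2) {R : Subgroup G} (hR : IsPGroup 2 R) (hB : B ≤ R)
    (hc : ∀ l, l ≠ j → R ≤ centralizer (Z l : Set G)) : R ≤ centralizer (ZJ₀ : Set G) := by
  have hRB : R ≤ normalizer (B : Set G) := h.bg.le_norm_B hR hB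
  have hR' : ∀ l, R ≤ centralizer (Z l : Set G) := by
    intro l
    by_cases hlj : l = j
    · subst hlj
      intro r hr
      have hl : ∀ m, m ≠ l → cj r (Z m) = Z m := fun m hm =>
        cj_eq_of_mem_normalizer (centralizer_le_normalizer _ (hc m hm hr))
      obtain ⟨m, hm, -⟩ := (h.bg.nrm r (hRB hr)).2 l
      have hml : m = l := by
        by_contra hml
        have h1 : cj r (Z l) = cj r (Z m) := by rw [hm, hl m hml]
        exact hml (h.bg.Z_inj (Subgroup.map_injective (MulEquiv.injective _) h1)).symm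
      rw [hml] at hm
      exact normalizer_le_of_two (h.fr.cardZ l) (mem_normalizer_iff_cj.2 hm)
    · exact hc l hlj
  rw [le_centralizer_iff]
  exact (EK3.ZJ_le h.bg).trans (iSup_le fun l => le_centralizer_iff.1 (hR' l))

/-- `B` is a Sylow 2-subgroup of `C_G(Λ)` -/
theorem syl_Lam (h : MulL S P B ZJ₀ L W Z C A 2) : Syl B (centralizer (Lam Z j : Set G)) := by
  refine ⟨?_, h.bg.bau_two, fun R hRL hR hBR => ?_⟩
  · exact (h.bg.syl_B.1).trans (centralizer_le (Lam_le h))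
  · refine h.bg.syl_B.2.2 R (le_cent_ZJ (j := j) h hR hBR fun l hl => ?_) hR hBR
    exact hRL.trans (centralizer_le (Z_le_Lam hl))

section weird

variable (h : MulL S P B ZJ₀ L W Z C A 2) (w : WJ S P B Z j Y)
include h w

theorem Y_Lam : Y ≤ centralizer (Lam Z j : Set G) := cent_Lam w.cen

theorem BB_eq : BB (S : Subgroup G) P = B := h.eqB.symm

theorem lmd : LMd S P B Y (Lam Z j) (L j ⊔ Y) (ZN.zl B (L j ⊔ Y)) :=
  LMd.zl w.toWY (BB_eq h w).le ((Lam_le h).trans h.eZ.le) (Lam_ne h) (syl_Lam h)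
    ((h.fr.blk j).BL.trans le_sup_left) le_sup_right
    (sup_le ((h.bg.LP j).trans w.P_le) w.Y_le) (sup_le (L_Lam h) (Y_Lam h w))

/-- **The situation** of `PartI`, with `X = L j`. -/
theorem sit (hFF : Omega.FFThm.StmtM.{u}) :
    Sit (L j ⊔ Y) (ZN.zl B (L j ⊔ Y)) B (o2 P) (W j) (Z j) (Lam Z j) (L j) Y := by
  have m := (lmd h w).toLoc
  have fb := h.fr.blk j
  have cz := h.fr.cardZ j
  have VU : ZN.zl B Y ≤ ZN.zl B (L j ⊔ Y) :=
    ZN.zl_le (ChoiceSit.zc_le_zl _ _) ((le_sup_right : Y ≤ L j ⊔ Y).trans (ZN.le_normalizer_zl _ _))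
  have QW : o2 P ≤ centralizer (W j : Set G) := fun x hx =>
    mem_centralizer_iff.2 fun v hv => (h.bg.fr.cQ hx (h.fr.WV j hv)).symm
  have QZ : o2 P ≤ centralizer (Z j : Set G) := QW.trans (centralizer_le fb.ZV)
  have BZ : B ≤ normalizer (Z j : Set G) := by
    have h1 : B ≤ centralizer (Z j : Set G) := fun b hb => mem_centralizer_iff.2 fun z hz => (fb.cZ b hb z hz).symm
    exact h1.trans (centralizer_le_normalizer _)
  have zU : Z j ≤ ZN.zl B (L j ⊔ Y) := by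
    refine le_trans ?_ (ChoiceSit.zc_le_zl B (L j ⊔ Y))
    rw [InstB.zcB_eq h j]
    exact le_sup_left
  exact
    { Uc := m.Uc
      Us := m.Us
      HU := m.Un
      TH := m.TH
      T2 := h.bg.bau_two
      QT := h.bg.fr.QB
      TZ := BZ
      UT := m.UT
      NU := InstB.W_le fb zU (le_sup_left.trans m.Un)
      QN := QW
      ZN := fb.ZV
      Zne := h.bg.Z_ne j
      card := by
        rw [InstB.card_W fb cz, cz]
        norm_num
      PH := le_sup_left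
      TP := fb.BL
      PN := InstB.L_norm_W fb
      PQ := InstB.L_norm_Q h j
      PC := InstB.norm_C fb
      YH := le_sup_right
      TY := m.syl.1
      oY := ChoiceSit.o2_le_syl m.syl
      mv := InstB.not_norm h w.cen w.mv
      HL := m.HC
      fix := m.cUT.trans (InstB.zcB_eq h j).le
      noN := InstB.noN fb cz
      lineN := InstB.lineN fb cz
      irrN := InstB.irrN fb cz
      oneY := oneY_of hFF m.Uc m.Us m.Un m.syl m.min m.c2 w.mv le_sup_right VU h.bg.fr.QB QZ m.nQ BZ }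

/-- **The instance**, `q = 2`. -/
theorem exists_E (hFF : Omega.FFThm.StmtM.{u}) :
    W j ≤ ZN.zl B (L j ⊔ Y) ∧ Lam Z j ≤ ZN.zl B (L j ⊔ Y) ∧
      (∀ E ≤ B, MaxMin (ZN.zl B (L j ⊔ Y)) (L j ⊔ Y) E → E ≤ centralizer (W j : Set G)) ∧
        ∃ E, E ≤ B ∧ MaxMin (ZN.zl B (L j ⊔ Y)) (L j ⊔ Y) E ∧ ¬ E ≤ o2 Y := by
  have m := lmd h w
  have s := sit h w hFF
  have hT : Syl B (L j ⊔ Y) :=
    ⟨m.TH, h.bg.bau_two, fun R hR hp hBR => (syl_Lam (j := j) h).2.2 R (hR.trans m.HC) hp hBR⟩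
  have hoff : ∃ A ≤ L j ⊔ Y, OffM (ZN.zl B (L j ⊔ Y)) A := by
    obtain ⟨E, hE, hb, hne⟩ := m.exists_best fun A hA hP => by
      obtain ⟨t, ht, hn⟩ := TwoN.hN_of h.bg j hA hP
      exact ⟨t, ht, fun hc => hn (hc.trans (centralizer_le s.NU))⟩
    exact ⟨E, hE.trans m.TH, hb.offM le_rfl hne⟩
  obtain ⟨h1, E, hm, hE, hEY⟩ := (s.toC m.wq.syl).exists_E hT hoff
    fun A hA _ hX hY => InstB.gen hA hX hY
  refine ⟨s.NU, ?_, fun E hE hm => h1 E hm hE, E, hE, hm, hEY⟩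
  refine le_trans ?_ (ChoiceSit.zc_le_zl B (L j ⊔ Y))
  rw [InstB.zcB_eq h j]
  exact le_sup_right

end weird

/-- **helper459 (#26523)** -/
theorem exists_inst (h : MulL S P B ZJ₀ L W Z C A 2) (_hk : 2 ≤ k) (hFF : Omega.FFThm.StmtM.{u})
    (wj : WJ S P B Z j Y) : ∃ H U : Subgroup G,
      LMd S P B Y (⨆ l ∈ {l | l ≠ j}, Z l) H U ∧ W j ≤ U ∧ (⨆ l ∈ {l | l ≠ j}, Z l) ≤ U ∧
        (∀ E ≤ B, MaxMin U H E → E ≤ centralizer (W j : Set G)) ∧ ∃ E, E ≤ B ∧ MaxMin U H E ∧ ¬ E ≤ o2 Y :=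
  ⟨L j ⊔ Y, ZN.zl B (L j ⊔ Y), lmd h wj, exists_E h wj hFF⟩

/-- the same with `L j ≤ H` (helper602) -/
theorem exists_instL (h : MulL S P B ZJ₀ L W Z C A 2) (_hk : 2 ≤ k) (hFF : Omega.FFThm.StmtM.{u})
    (wj : WJ S P B Z j Y) : ∃ H U : Subgroup G,
      LMd S P B Y (⨆ l ∈ {l | l ≠ j}, Z l) H U ∧ L j ≤ H ∧ W j ≤ U ∧ (⨆ l ∈ {l | l ≠ j}, Z l) ≤ U ∧
        (∀ E ≤ B, MaxMin U H E → E ≤ centralizer (W j : Set G)) ∧ ∃ E, E ≤ B ∧ MaxMin U H E ∧ ¬ E ≤ o2 Y :=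
  ⟨L j ⊔ Y, ZN.zl B (L j ⊔ Y), lmd h wj, le_sup_left, exists_E h wj hFF⟩

end Cfsg.Agent.Omega.CaseLQ.InstTwo
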