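import Cfsg.Agent.Omega.CaseLQ.TwoFr
import Cfsg.Agent.Omega.CaseLQ.TwoN
import Cfsg.Agent.Omega.CaseLQ.FamOf
import Cfsg.Agent.Omega.EK3.Base
import Cfsg.Agent.Omega.NO3S.WY.NoWSel
import Cfsg.Agent.Omega.NO3S.WY.Loc
import Cfsg.Agent.Omega.NOThreeL.StarEnd

/-!
# NoW, `q = 2`: the assembly of (ii), version 2 (#25080)

`MulL S P B ZJ L W Z C A 2`, `WJ S P B Z j Y`, `Λ = ⟨Z l : l ≠ j⟩`.

* `zT : Ω₁Z(B) ≤ Λ Z_j`, `YΛ : Y ≤ C(Λ)`, `ys_of : YS U H B Y` from `LMd`;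
* `ksh_of` : natural blocks of `Y`: `KSh S P Y U K 𝒜` and `FamT S P Y V 𝓕`.
-/

set_option autoImplicit false
set_option linter.unusedSectionVars false

namespace Cfsg.Agent.Omega.CaseLQ.TorOf

open Subgroup Cfsg Cfsg.Agent.ZN Cfsg.Agent.ZN.ChoiceBase Cfsg.Agent.Omega.MinPar Cfsg.Agent.Omega.Frame
open Cfsg.Agent.ZN.ChoiceSit (Syl)
open Cfsg.Agent.Omega.NO3S.Level
open Cfsg.Agent.Omega.NO3S.RedC
open Cfsg.Agent.Omega.NO3S.WY Cfsg.Agent.Omega.NO3S.WY.Sel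
open Cfsg.Agent.Omega.OM
open Cfsg.Agent.Omega.FFThm (OffM ElemM NoOverM StmtM NatKM)
open Cfsg.Agent.Omega.FrameFF (cv)
open Cfsg.Agent.Omega.NO1.BestOff (Best)
open Cfsg.Agent.Omega.Node.MulX (MulL)
open Cfsg.Agent.Omega.CaseLQ Cfsg.Agent.Omega.CaseLQ.PsiYB Cfsg.Agent.Omega.CaseLQ.TwoFr Cfsg.Agent.Omega.CaseLQ.TwoN

universe u

variable {G : Type u} [Group G] [Finite G] {S : Sylow 2 G} {P B ZJ : Subgroup G} {k : ℕ}
  {L W Z C A : Fin k → Subgroup G}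

/-- `Λ_j = ⟨Z l : l ≠ j⟩` -/
abbrev Lm (Z : Fin k → Subgroup G) (j : Fin k) : Subgroup G := ⨆ l ∈ {l | l ≠ j}, Z l

/-- `Z_J ≤ Λ_j Z_j` -/
theorem ZJ_le_Lm (h : MulL S P B ZJ L W Z C A 2) (j : Fin k) : ZJ ≤ Lm Z j ⊔ Z j := by
  refine (EK3.ZJ_le h.bg).trans (iSup_le fun l => ?_)
  by_cases hl : l = j
  · subst hl; exact le_sup_right
  · exact (le_iSup₂_of_le (f := fun l (_ : l ∈ {l | l ≠ j}) => Z l) l hl le_rfl).trans le_sup_left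

theorem zT (h : MulL S P B ZJ L W Z C A 2) (j : Fin k) : zc B ≤ Lm Z j ⊔ Z j := by
  rw [zc_B h]
  exact ZJ_le_Lm h j

theorem cenLm {j : Fin k} {Y : Subgroup G} (hc : ∀ l, l ≠ j → Y ≤ centralizer (Z l : Set G)) :
    Y ≤ centralizer (Lm Z j : Set G) := by
  rw [le_centralizer_iff]
  exact iSup₂_le fun l hl => le_centralizer_iff.1 (hc l hl)

/-- **`YS` from `LMd`.** -/
theorem ys_of {Y R H U : Subgroup G} (m : LMd S P B Y R H U) (wy : WY S P B Y) (ZU : zc B ≤ U) : YS U H B Y where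
  Uc := m.Uc
  Us := m.toLoc.Us
  HU := m.Un
  UT := m.toLoc.UT
  syl := m.wq.syl
  min := m.wq.min
  c2 := m.wq.c2
  mv := wy.mv
  YH := m.YH
  VU := ZN.zl_le ZU (m.YH.trans m.Un)

/-- **`K♯` and the passive family**, natural blocks of `Y`. -/
theorem ksh_of (h : MulL S P B ZJ L W Z C A 2) {j : Fin k} {Y H U : Subgroup G} (wj : WJ S P B Z j Y)
    (m : LMd S P B Y (Lm Z j) H U) (WU : W j ≤ U) (ΛU : Lm Z j ≤ U)
    (cen : ∀ E ≤ B, MaxMin U H E → E ≤ centralizer (W j : Set G))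
    (hex : ∃ E, E ≤ B ∧ MaxMin U H E ∧ ¬ E ≤ o2 Y) (noV : NoOverM (zl B Y) Y) {F : Type} [Field F] [Finite F]
    [CharP F 2] {n : ℕ} (N : NatKM F B Y (zl B Y) (cv B Y) n) (hn : 0 < n) :
    (∃ (K : Subgroup G) (𝒜 : Set (Subgroup G)), KSh S P Y U K 𝒜) ∧
      ∃ (V : Subgroup G) (𝓕 : Set (Subgroup G)), FamT S P Y V 𝓕 := by
  have ZU : zc B ≤ U := (zT h j).trans (sup_le ΛU ((h.bg.fr.blk j).ZV.trans WU))
  have s := ys_of m wj.toWY ZU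
  have hloc := hloc_of h.bg s noV N hn WU m.toLoc.cUQ cen hex (cenLm wj.cen) ΛU (zT h j)
  exact exists_fam m hloc fun A hA hP => hN_of h.bg j hA hP

end Cfsg.Agent.Omega.CaseLQ.TorOf
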