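import Cfsg.Agent.Omega.CaseLQ.TwoFr

/-!
# NoW, `q = 2`: `PsiT.FrG` and `hloc`, abstract in the pair `(V_j, z_j)`

* `PJ B Q Vj U z` : the facts on `V_j` (the fields `QB .. tr` of helper602's `PsiT.FrG`); `pj_of_bg`;
* `frG_of_pj` : the frame over any `YB B X Ni c`, `V_j ≤ X ≤ U`;
* `exists_yb` : helper335's / helper373's blocks of `Y` on `C_U(⟨Fam⟩)`, natural type, with the position of the lines;
* `hloc_abs` : natural blocks: **every best offender `A ≤ B` on `U` centralises `V_j`**.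
-/

set_option autoImplicit false
set_option linter.unusedSectionVars false

namespace Cfsg.Agent.Omega.CaseLQ.TwoAbs

open Subgroup Cfsg Cfsg.Agent.ZN Cfsg.Agent.ZN.ChoiceBase
open Cfsg.Agent.ZN.ChoiceSit (Syl)
open Cfsg.Agent.Omega.OM
open Cfsg.Agent.Omega.OM.GLev (GE)
open Cfsg.Agent.Omega.OM.Lev.Low (YB Mv)
open Cfsg.Agent.Omega.NO3S.EThree.Frame (Bg Fg)
open Cfsg.Agent.Omega.NO3S.RedC (MaxMin)
open Cfsg.Agent.Omega.NO3S.CaseLW.YBX (Xc mem_Xc Xc_le)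
open Cfsg.Agent.Omega.FFThm (OffM ElemM NoOverM StmtM NatKM)
open Cfsg.Agent.Omega.FrameFF (cv)
open Cfsg.Agent.Omega.NO1.BestOff (Best)
open Cfsg.Agent.Omega.CaseLQ Cfsg.Agent.Omega.CaseLQ.Psi Cfsg.Agent.Omega.CaseLQ.PsiYB
open Cfsg.Agent.Omega.CaseLQ.TwoFr

universe u w

variable {G : Type u} [Group G]

/-- **The facts on `V_j`**, `q = 2`. -/
structure PJ (B Q Vj U : Subgroup G) (z : G) : Prop where
  QB : Q ≤ B
  VU : Vj ≤ U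
  BV : B ≤ normalizer (Vj : Set G)
  VQ : Vj ≤ centralizer (Q : Set G)
  zV : z ∈ Vj
  z1 : z ≠ 1
  mv : ∀ v ∈ Vj, v ≠ 1 → v = z ∨ ∃ b ∈ B, b * v * b⁻¹ * v⁻¹ = z
  tr : ∃ v ∈ Vj, ∃ b ∈ B, b * v * b⁻¹ * v⁻¹ = z ∧
    ∀ u ∈ U, u ∈ centralizer (Q : Set G) → b * u * b⁻¹ * u⁻¹ = 1 ∨ b * u * b⁻¹ * u⁻¹ = z

variable {B Q Vj U : Subgroup G} {z : G}

/-- **The frame of (ii), version 2.** -/
theorem frG_of_pj {κ : Type w} (p : PJ B Q Vj U z) {X Lam : Subgroup G} {Ni c : κ → Subgroup G} (yb : YB B X Ni c)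
    (XU : X ≤ U) (VX : Vj ≤ X) (nz : ∃ i, z ∉ Ni i) (LN : ∀ i, ∀ x ∈ Lam, x ∈ X → x ∈ Ni i) :
    PsiT.FrG X B Q Vj z Lam Ni c where
  comm := yb.ab
  BU := yb.norm
  QB := p.QB
  perm := fun t ht i => yb.perm t ht i
  cU := yb.cX
  ne := yb.ne
  inf := yb.triv
  cm := fun i m hm => yb.comm m i hm
  VU := VX
  BV := p.BV
  VQ := p.VQ
  cov := fun i w hw => yb.fix i w (VX hw)
  zV := p.zV
  mv := p.mv
  tr := by
    obtain ⟨v, hv, b, hb, h1, h2⟩ := p.tr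
    exact ⟨v, hv, b, hb, h1, fun u hu huQ => h2 u (XU hu) huQ⟩
  nz := nz
  LamN := LN

variable [Finite G] {H Y Λ : Subgroup G}

theorem VX_of (VU : Vj ≤ U)
    (cen : ∀ E ≤ B, MaxMin U H E → E ≤ centralizer (Vj : Set G)) : Vj ≤ Xc U (Fam U H B) := by
  intro w hw
  refine mem_Xc.2 ⟨VU hw, fun A hA a ha => ?_⟩
  rcases hA.2 with h1 | h1
  · exact ((mem_centralizer_iff.1 (cen A hA.1 h1 ha)) w hw).symm
  · exact ((mem_centralizer_iff.1 (h1 ha)) w (VU hw)).symm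

theorem ge_of (s : YS U H B Y) (noV : NoOverM (zl B Y) Y) : GE B Y U (Fam U H B) where
  hm := s.hm
  fam := bfam (s.TY.trans s.YH)
  elem := Cfsg.Agent.PLocal.ThompsonJ.isElementaryAbelian_iff.2 ⟨s.U_mul, s.Us⟩
  norm := s.YH.trans s.HU
  VX := s.VU
  QC := s.cap
  noOver := noV

/-- the blocks of `Y` on `C_U(⟨Fam⟩)`, natural type, the lines, and `PsiT.FrG` -/
theorem exists_frG (p : PJ B Q Vj U z) (s : YS U H B Y) (noV : NoOverM (zl B Y) Y) {F : Type} [Field F] [Finite F]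
    [CharP F 2] {k : ℕ} (N : NatKM F B Y (zl B Y) (cv B Y) k) (hk : 0 < k)
    (cen : ∀ E ≤ B, MaxMin U H E → E ≤ centralizer (Vj : Set G))
    (hex : ∃ E, E ≤ B ∧ MaxMin U H E ∧ ¬ E ≤ o2 Y) (YΛ : Y ≤ centralizer (Λ : Set G)) (ΛU : Λ ≤ U)
    (zT : zc B ≤ Λ ⊔ zpowers z) : ∃ Ni c : Fin k → Subgroup G, YB B (Xc U (Fam U H B)) Ni c ∧
      PsiT.FrG (Xc U (Fam U H B)) B Q Vj z Λ Ni c ∧ (∀ l, Λ ≤ Ni l) ∧
        ∀ i, ∀ v ∈ c i, v ∈ zl B Y ∧ ∀ l, N.e v l 1 = 0 := by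
  obtain ⟨E, hEB, hE, hEY⟩ := hex
  have hEF : E ∈ Fam U H B := ⟨hEB, Or.inl hE⟩
  obtain ⟨Ni, c, yb, hex', hcen, hline⟩ := exists_ybxL (ge_of s noV) N hk ⟨E, hEF, hEY⟩ s.mv
  have WX : Vj ≤ Xc U (Fam U H B) := VX_of p.VU cen
  have hΛ : ∀ l, Λ ≤ Ni l := fun l x hx => hcen x (ΛU hx) (fun A hA y hy a ha => by
    have h1 : y * a * y⁻¹ ∈ Y := mul_mem (mul_mem hy (s.TY (hA.1 ha))) (inv_mem hy)
    exact ((mem_centralizer_iff.1 (YΛ h1)) x hx).symm) l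
  have nz : ∃ i, z ∉ Ni i := by
    obtain ⟨l, hl⟩ := hex'
    exact ⟨l, fun hzl => hl (zT.trans (sup_le (hΛ l) (zpowers_le.2 hzl)))⟩
  exact ⟨Ni, c, yb, frG_of_pj p yb (Xc_le _ _) WX nz fun l x hx _ => hΛ l hx, hΛ, hline⟩

/-- **natural blocks: every best offender `A ≤ B` on `U` centralises `V_j`.** -/
theorem hloc_abs (p : PJ B Q Vj U z) (s : YS U H B Y) (noV : NoOverM (zl B Y) Y) {F : Type} [Field F] [Finite F]
    [CharP F 2] {k : ℕ} (N : NatKM F B Y (zl B Y) (cv B Y) k) (hk : 0 < k)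
    (cen : ∀ E ≤ B, MaxMin U H E → E ≤ centralizer (Vj : Set G))
    (hex : ∃ E, E ≤ B ∧ MaxMin U H E ∧ ¬ E ≤ o2 Y) (YΛ : Y ≤ centralizer (Λ : Set G)) (ΛU : Λ ≤ U)
    (zT : zc B ≤ Λ ⊔ zpowers z) : ∀ A : Subgroup G, A ≤ B → Best U A → A ≤ centralizer (Vj : Set G) := by
  obtain ⟨Ni, c, -, fr, -, hline⟩ := exists_frG p s noV N hk cen hex YΛ ΛU zT
  intro A hA hB a ha
  rw [mem_centralizer_iff]
  intro v hv
  exact (fr.fix (hA ha) (fun i x hx => cent_natL s.hm N hk s.Uc s.VU hA hB (hline i x hx).1 (hline i x hx).2 ha)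
    v hv).symm

/-- **`PJ` from `Bg`.** -/
theorem pj_of_bg {S : Sylow 2 G} {P B ZJ : Subgroup G} {ι : Type} {L W Z C : ι → Subgroup G}
    (h : Bg S P B ZJ L W Z C 2) {j : ι} {U : Subgroup G} (WU : W j ≤ U)
    (CQ : U ⊓ centralizer (o2 P : Set G) ≤ zl (S : Subgroup G) P) {z : G} (hz : z ∈ Z j) (z1 : z ≠ 1) :
    PJ B (o2 P) (W j) U z where
  QB := h.fr.QB
  VU := WU
  BV := by
    intro t ht
    rw [mem_normalizer_iff_cj]
    refine Subgroup.eq_of_le_of_card_ge ?_ (card_cj _ _).ge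
    rintro _ ⟨w, hw, rfl⟩
    exact (h.fr.blk j).BV ht hw
  VQ := fun w hw => mem_centralizer_iff.2 fun x hx => h.fr.cQ hx (h.fr.WV j hw)
  zV := (h.fr.blk j).ZV hz
  z1 := z1
  mv := fun v hv hv1 => by
    by_cases hvZ : v ∈ Z j
    · exact Or.inl ((eq_z h hz z1 hvZ).resolve_left hv1)
    · obtain ⟨b, hb, -, hbe⟩ := h.root j v hv hvZ z hz
      exact Or.inr ⟨b, hb, hbe⟩
  tr := by
    obtain ⟨v, hv, hvZ⟩ := exists_v h j
    obtain ⟨b, hb, hbC, hbe⟩ := h.root j v hv hvZ z hz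
    refine ⟨v, hv, b, hb, hbe, fun u hu huQ => ?_⟩
    obtain ⟨w, hw, c, hc, rfl⟩ := h.fr.WC j u (CQ ⟨hu, huQ⟩)
    have h1 : c * b = b * c := mem_centralizer_iff.1 hbC c hc
    have e : b * (w * c) * b⁻¹ * (w * c)⁻¹ = b * w * b⁻¹ * w⁻¹ := by
      have e1 : b * (w * c) * b⁻¹ * (w * c)⁻¹ = b * w * (c * b⁻¹ * c⁻¹) * w⁻¹ := by group
      have e2 : c * b⁻¹ * c⁻¹ = b⁻¹ := by
        have e3 : c * b⁻¹ * c⁻¹ = (c * b * c⁻¹)⁻¹ := by group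
        rw [e3, h1, mul_inv_cancel_right]
      rw [e1, e2]
    rw [e]
    exact eq_z h hz z1 ((h.fr.blk j).com b hb w hw)

end Cfsg.Agent.Omega.CaseLQ.TwoAbs
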