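import Cfsg.Agent.Omega.CaseLQ.PsiTwo
import Cfsg.Agent.Omega.CaseLQ.TwoAbs
import Cfsg.Agent.Omega.CaseLQ.TorOf
import Cfsg.Agent.Omega.CaseLQ.InstB

/-!
# NoW, `q = 2`, part (ii): `Y` has natural blocks over a field of order at least `4`

* `nat4` : over `PJ B Q Vj U z` (any frame: `MulL`, one `S₅`);
* `nat4_mul` : over `MulL .. 2`, `WJ`, `LMd S P B Y (Lm Z j) H U` with `L j ≤ H`.
-/

set_option autoImplicit false
set_option linter.unusedSectionVars false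

namespace Cfsg.Agent.Omega.CaseLQ.NatFour

open Subgroup Cfsg Cfsg.Agent.ZN Cfsg.Agent.ZN.ChoiceBase
open Cfsg.Agent.Omega.NO3S.RedC (MaxMin)
open Cfsg.Agent.Omega.NO3S.WY Cfsg.Agent.Omega.NO3S.WY.Sel
open Cfsg.Agent.Omega.NO3S.CaseLW.YBX (Xc mem_Xc Xc_le Concl)
open Cfsg.Agent.Omega.FFThm (OffM ElemM NoOverM StmtM NatKM)
open Cfsg.Agent.Omega.FrameFF (cv)
open Cfsg.Agent.Omega.Node.MulX (MulL)
open Cfsg.Agent.Omega.CaseLQ Cfsg.Agent.Omega.CaseLQ.PsiYB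
open Cfsg.Agent.Omega.CaseLQ.TwoAbs Cfsg.Agent.Omega.CaseLQ.TorOf

universe u

variable {G : Type u} [Group G] [Finite G]

/-- **`Y` has natural blocks over a field of order at least `4`**, over `PJ`. `R` = `P_j`. -/
theorem nat4 {B Q Vj U H Y Λ R : Subgroup G} {z : G} (p : PJ B Q Vj U z) (s : YS U H B Y) (hFF : StmtM.{u})
    (cen : ∀ E ≤ B, MaxMin U H E → E ≤ centralizer (Vj : Set G))
    (hex : ∃ E, E ≤ B ∧ MaxMin U H E ∧ ¬ E ≤ o2 Y) (YΛ : Y ≤ centralizer (Λ : Set G)) (ΛU : Λ ≤ U)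
    (zT : zc B ≤ Λ ⊔ zpowers z) (RH : R ≤ H) (BR : B ≤ R)
    (RC : R ≤ normalizer ((B ⊓ centralizer (Vj : Set G) : Subgroup G) : Set G))
    (RΛ : R ≤ centralizer (Λ : Set G)) (hmv : ∃ g ∈ R, g * z * g⁻¹ ≠ z) :
    ∃ (F : Type) (_ : Field F) (_ : Finite F) (_ : CharP F 2) (k : ℕ), 0 < k ∧ 4 ≤ Nat.card F ∧
      Nonempty (NatKM F B Y (zl B Y) (cv B Y) k) := by
  have hz2 : z * z = 1 := by
    have := s.Us z (p.VU p.zV)
    rwa [pow_two] at this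
  have hCB : ∀ u ∈ U, u ∈ centralizer (B : Set G) → u ∈ Λ ∨ u * z⁻¹ ∈ Λ := by
    intro u hu huB
    have h1 : u ∈ zc B := mem_zc.2 ⟨s.UT hu, s.Us u hu, fun b hb => mem_centralizer_iff.1 huB b hb⟩
    obtain ⟨l, hl, x, hx, rfl⟩ := SQ1.Bau.mem_sup_comm (A := Λ) (B := zpowers z)
      (fun a ha b hb => s.U_mul a (ΛU ha) b (zpowers_le.2 (p.VU p.zV) hb)) (zT h1)
    obtain ⟨n, rfl⟩ := mem_zpowers_iff.1 hx
    rcases Int.even_or_odd n with ⟨r, rfl⟩ | ⟨r, rfl⟩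
    · left
      rw [← two_mul, zpow_mul, zpow_ofNat, pow_two, hz2, one_zpow, mul_one]
      exact hl
    · right
      rw [zpow_add, zpow_mul, zpow_ofNat, pow_two, hz2, one_zpow, one_mul, zpow_one, mul_inv_cancel_right]
      exact hl
  obtain ⟨F, i1, i2, i3, k, hk, ⟨x, hx0, hx1⟩, hN⟩ := TvTwo.nat_four (Q := Q) (z := z) (Lam := Λ) s hFF
    (fun {κ} _ {Ni c} hc => by
      have hΛ : ∀ l, Λ ≤ Ni l := fun l x hx => hc.cen x (ΛU hx) (fun A hA y hy a ha => by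
        have h1 : y * a * y⁻¹ ∈ Y := mul_mem (mul_mem hy (s.TY (hA.1 ha))) (inv_mem hy)
        exact ((mem_centralizer_iff.1 (YΛ h1)) x hx).symm) l
      have nz : ∃ i, z ∉ Ni i := by
        obtain ⟨l, hl⟩ := hc.ex
        exact ⟨l, fun hzl => hl (zT.trans (sup_le (hΛ l) (zpowers_le.2 hzl)))⟩
      exact frG_of_pj p hc.yb (Xc_le _ _) (VX_of p.VU cen) nz fun l x hx _ => hΛ l hx)
    cen hex p.VU RH BR RC hCB (NO3b.EZero.cent_symm RΛ) hmv
  refine ⟨F, i1, i2, i3, k, hk, ?_, hN⟩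
  -- `|F| ≥ 4`
  classical
  have := Fintype.ofFinite F
  have h1 : ∃ n : ℕ+, Nat.card F = 2 ^ (n : ℕ) := by
    obtain ⟨n, hn, h2⟩ := FiniteField.card F 2
    exact ⟨n, by rw [Nat.card_eq_fintype_card, h2]⟩
  obtain ⟨n, hn⟩ := h1
  by_contra hlt
  have h3 : Nat.card F = 2 := by
    have h4 : (n : ℕ) < 2 := by
      by_contra h5
      have h6 : 2 ^ 2 ≤ 2 ^ (n : ℕ) := Nat.pow_le_pow_right (by norm_num) (by omega)
      omega
    have h5 : (n : ℕ) = 1 := by have := n.pos; omega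
    rw [hn, h5, pow_one]
  rw [Nat.card_eq_fintype_card] at h3
  have h4 : ({0, 1, x} : Finset F).card ≤ 2 := by
    rw [← h3]
    exact Finset.card_le_univ _
  have h5 : ({0, 1, x} : Finset F).card = 3 := by
    rw [Finset.card_insert_of_notMem (by simp [hx0.symm]), Finset.card_insert_of_notMem (by simp [hx1.symm]),
      Finset.card_singleton]
  omega

/-- **over `MulL`** -/
theorem nat4_mul {S : Sylow 2 G} {P B ZJ : Subgroup G} {k : ℕ} {L W Z C A : Fin k → Subgroup G}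
    (h : MulL S P B ZJ L W Z C A 2) (hFF : StmtM.{u}) {j : Fin k} {Y H U : Subgroup G} (wj : WJ S P B Z j Y)
    (m : LMd S P B Y (Lm Z j) H U) (LH : L j ≤ H) (WU : W j ≤ U) (ΛU : Lm Z j ≤ U)
    (cen : ∀ E ≤ B, MaxMin U H E → E ≤ centralizer (W j : Set G))
    (hex : ∃ E, E ≤ B ∧ MaxMin U H E ∧ ¬ E ≤ o2 Y) :
    ∃ (F : Type) (_ : Field F) (_ : Finite F) (_ : CharP F 2) (n : ℕ), 0 < n ∧ 4 ≤ Nat.card F ∧
      Nonempty (NatKM F B Y (zl B Y) (cv B Y) n) := by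
  have hb := h.bg.fr.blk j
  have hcZ := h.bg.fr.cardZ j
  have ZU : zc B ≤ U := (zT h j).trans (sup_le ΛU (hb.ZV.trans WU))
  have s := ys_of m wj.toWY ZU
  obtain ⟨z, hz, z1⟩ : ∃ z ∈ Z j, z ≠ 1 := by
    by_contra hcon
    push Not at hcon
    have h1 : Z j = ⊥ := (Subgroup.eq_bot_iff_forall _).2 hcon
    rw [h1, Subgroup.card_bot] at hcZ
    omega
  have hZz : Z j = zpowers z := by
    refine le_antisymm (fun x hx => ?_) (zpowers_le.2 hz)
    rcases InstB.eq_of_mem hb hcZ hz z1 hx with h1 | h1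
    · rw [h1]; exact one_mem _
    · rw [h1]; exact mem_zpowers z
  refine nat4 (pj_of_bg h.bg WU m.toLoc.cUQ hz z1) s hFF cen hex (cenLm wj.cen) ΛU (by rw [← hZz]; exact zT h j) LH hb.BL
    (InstB.norm_C hb) (InstB.L_cent h j) ?_
  by_contra hcon
  push Not at hcon
  obtain ⟨l, hl, hs⟩ := InstB.W_le_sup hb
  have h1 : cj l (Z j) ≤ Z j := by
    rintro _ ⟨x, hx, rfl⟩
    rcases InstB.eq_of_mem hb hcZ hz z1 hx with h1 | h1
    · subst h1; simp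
    · subst h1
      have h2 := hcon l hl
      simp only [MulEquiv.coe_toMonoidHom, MulAut.conj_apply]
      rw [h2]; exact hx
  have h2 := Subgroup.card_le_of_le (hs.trans (sup_le le_rfl h1))
  rw [InstB.card_W hb hcZ, hcZ] at h2
  omega

end Cfsg.Agent.Omega.CaseLQ.NatFour
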