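import Mathlib
import Cfsg.Agent.Omega.FFThmM
import Cfsg.Agent.Omega.NO3S.SLTwo.Aut

/-!
# A 2-group acting semilinearly on a natural module: offenders

`NatT F N Z T e` : `N = F²` (coordinates `e`), `T` acts semilinearly on `N` and normalises the line
`Z = {e v 1 = 0}`.

* `NatT.no` : no over-offender; `NatT.line` : an offender on `N` in `T` is the full root group of `Z`.
-/

set_option autoImplicit false
set_option linter.unusedSectionVars false

namespace Cfsg.Agent.Omega.CaseLQ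

open Subgroup Cfsg
open Cfsg.Agent.Omega.FFThm (OffM ElemM)

universe u

variable {G : Type u} [Group G]

/-- `T` acts semilinearly on `N = F²` and normalises the line `Z`. -/
structure NatT (F : Type) [Field F] (N Z T : Subgroup G) (e : G → Fin 2 → F) : Prop where
  mul : ∀ v ∈ N, ∀ w ∈ N, e (v * w) = e v + e w
  surj : ∀ x, ∃ v ∈ N, e v = x
  inj : ∀ v ∈ N, e v = 0 → v = 1
  TN : ∀ t ∈ T, ∀ v ∈ N, t * v * t⁻¹ ∈ N
  memZ : ∀ v, v ∈ Z ↔ v ∈ N ∧ e v 1 = 0
  semi : ∀ t ∈ T, ∃ τ : F ≃+* F, ∀ c : F, ∀ v ∈ N, ∀ w ∈ N, e w = c • e v →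
    e (t * w * t⁻¹) = τ c • e (t * v * t⁻¹)
  line : ∀ t ∈ T, ∀ v ∈ N, e v 1 = 0 → e (t * v * t⁻¹) 1 = 0

namespace NatT

variable {F : Type} [Field F] {N Z T : Subgroup G} {e : G → Fin 2 → F} (h : NatT F N Z T e)
include h

theorem e_one : e 1 = 0 := by
  have h1 := h.mul 1 (one_mem _) 1 (one_mem _)
  rw [one_mul] at h1
  exact left_eq_add.1 h1

theorem e_inv {v : G} (hv : v ∈ N) : e v⁻¹ = - e v := by
  have h1 := h.mul v hv v⁻¹ (inv_mem hv)
  rw [mul_inv_cancel, h.e_one] at h1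
  exact (neg_eq_of_add_eq_zero_right h1.symm).symm

theorem ext {v w : G} (hv : v ∈ N) (hw : w ∈ N) (e1 : e v = e w) : v = w := by
  have h1 : e (v * w⁻¹) = 0 := by rw [h.mul v hv _ (inv_mem hw), h.e_inv hw, e1, add_neg_cancel]
  exact mul_inv_eq_one.1 (h.inj _ (mul_mem hv (inv_mem hw)) h1)

theorem cm {v w : G} (hv : v ∈ N) (hw : w ∈ N) : v * w = w * v :=
  h.ext (mul_mem hv hw) (mul_mem hw hv) (by rw [h.mul v hv w hw, h.mul w hw v hv, add_comm])

theorem ZN : Z ≤ N := fun v hv => ((h.memZ v).1 hv).1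

/-- `t` acts linearly -/
def Lin (_ : NatT F N Z T e) (t : G) : Prop :=
  ∀ c : F, ∀ v ∈ N, ∀ w ∈ N, e w = c • e v → e (t * w * t⁻¹) = c • e (t * v * t⁻¹)

theorem conj_mul {t v w : G} (ht : t ∈ T) (hv : v ∈ N) (hw : w ∈ N) :
    e (t * (v * w) * t⁻¹) = e (t * v * t⁻¹) + e (t * w * t⁻¹) := by
  rw [show t * (v * w) * t⁻¹ = t * v * t⁻¹ * (t * w * t⁻¹) by group]
  exact h.mul _ (h.TN t ht v hv) _ (h.TN t ht w hw)

variable [CharP F 2]

/-- a linear element acting as an involution on `N` acts as an upper unitriangular matrix -/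
theorem up_of_lin {t : G} (ht : t ∈ T) (hl : h.Lin t) (h2 : t ^ 2 ∈ centralizer (N : Set G)) :
    ∃ b : F, ∀ v ∈ N, e (t * v * t⁻¹) = ![e v 0 + b * e v 1, e v 1] := by
  obtain ⟨v0, hv0, e0⟩ := h.surj ![1, 0]
  obtain ⟨v1, hv1, e1⟩ := h.surj ![0, 1]
  have key : ∀ v ∈ N, e (t * v * t⁻¹) = e v 0 • e (t * v0 * t⁻¹) + e v 1 • e (t * v1 * t⁻¹) := by
    intro v hv
    obtain ⟨w0, hw0, f0⟩ := h.surj (e v 0 • e v0)
    obtain ⟨w1, hw1, f1⟩ := h.surj (e v 1 • e v1)
    have h1 : v = w0 * w1 := by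
      refine h.ext hv (mul_mem hw0 hw1) ?_
      rw [h.mul _ hw0 _ hw1, f0, f1, e0, e1]
      funext i
      fin_cases i <;> simp
    rw [h1, h.conj_mul ht hw0 hw1, hl _ v0 hv0 w0 hw0 f0, hl _ v1 hv1 w1 hw1 f1, ← h1]
  set a := e (t * v0 * t⁻¹) 0 with ha
  have ha1 : e (t * v0 * t⁻¹) 1 = 0 := h.line t ht v0 hv0 (by rw [e0]; rfl)
  have ha' : e (t * v0 * t⁻¹) = ![a, 0] := by
    funext i; fin_cases i
    · rfl
    · exact ha1
  set b := e (t * v1 * t⁻¹) 0 with hb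
  set d := e (t * v1 * t⁻¹) 1 with hd
  have hb' : e (t * v1 * t⁻¹) = ![b, d] := by
    funext i; fin_cases i <;> rfl
  have key2 : ∀ v ∈ N, e (t * v * t⁻¹) = ![a * e v 0 + b * e v 1, d * e v 1] := by
    intro v hv
    rw [key v hv, ha', hb']
    funext i
    fin_cases i <;> simp [mul_comm]
  have hsq : ∀ v ∈ N, t * (t * v * t⁻¹) * t⁻¹ = v := by
    intro v hv
    have h3 := mem_centralizer_iff.1 h2 v hv
    rw [sq] at h3
    calc t * (t * v * t⁻¹) * t⁻¹ = t * t * v * (t * t)⁻¹ := by group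
      _ = v := by rw [← h3]; group
  have hda : a * a = 1 := by
    have h3 := congrFun (congrArg e (hsq v0 hv0)) 0
    rw [key2 _ (h.TN t ht v0 hv0), ha', e0] at h3
    simpa using h3
  have hdd : d * d = 1 := by
    have h3 := congrFun (congrArg e (hsq v1 hv1)) 1
    rw [key2 _ (h.TN t ht v1 hv1), hb', e1] at h3
    simpa using h3
  have hsq1 : ∀ x : F, x * x = 1 → x = 1 := by
    intro x hx
    have h4 : (x + 1) * (x + 1) = 0 := by
      have h5 : (x + 1) * (x + 1) = x * x + 1 + (x + x) := by ring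
      rw [h5, hx, CharTwo.add_self_eq_zero x, add_zero, CharTwo.add_self_eq_zero]
    have h5 := mul_self_eq_zero.1 h4
    calc x = x + (1 + 1) := by rw [CharTwo.add_self_eq_zero, add_zero]
      _ = (x + 1) + 1 := by ring
      _ = 1 := by rw [h5, zero_add]
  refine ⟨b, fun v hv => ?_⟩
  rw [key2 v hv, hsq1 a hda, hsq1 d hdd, one_mul, one_mul]

/-- the linear elements of `E` -/
def lin (E : Subgroup G) (hE : E ≤ T) : Subgroup G where
  carrier := {t | t ∈ E ∧ h.Lin t}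
  mul_mem' := by
    rintro a b ⟨ha, ha'⟩ ⟨hb, hb'⟩
    refine ⟨mul_mem ha hb, fun c v hv w hw hc => ?_⟩
    have h1 := ha' c _ (h.TN b (hE hb) v hv) _ (h.TN b (hE hb) w hw) (hb' c v hv w hw hc)
    rw [show a * b * w * (a * b)⁻¹ = a * (b * w * b⁻¹) * a⁻¹ by group,
      show a * b * v * (a * b)⁻¹ = a * (b * v * b⁻¹) * a⁻¹ by group]
    exact h1
  one_mem' := ⟨one_mem _, fun c v hv w hw hc => by rw [inv_one, mul_one, mul_one, one_mul, one_mul]; exact hc⟩
  inv_mem' := by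
    rintro a ⟨ha, ha'⟩
    refine ⟨inv_mem ha, fun c v hv w hw hc => ?_⟩
    have hv' := h.TN a⁻¹ (inv_mem (hE ha)) v hv
    obtain ⟨u, hu, hu'⟩ := h.surj (c • e (a⁻¹ * v * a⁻¹⁻¹))
    have h1 := ha' c _ hv' u hu hu'
    rw [show a * (a⁻¹ * v * a⁻¹⁻¹) * a⁻¹ = v by group, ← hc] at h1
    have h2 := h.ext (h.TN a (hE ha) u hu) hw h1
    rw [← hu', ← h2]
    congr 1
    group

theorem mem_lin {E : Subgroup G} {hE : E ≤ T} {t : G} : t ∈ h.lin E hE ↔ t ∈ E ∧ h.Lin t := Iff.rfl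

/-- a vector fixed by a nonlinear element, times the scalar, is not fixed -/
theorem eq_one_of_fix {t : G} {τ : F ≃+* F}
    (hτ : ∀ c : F, ∀ v ∈ N, ∀ w ∈ N, e w = c • e v → e (t * w * t⁻¹) = τ c • e (t * v * t⁻¹)) {c : F} (hc : τ c ≠ c)
    {v w : G} (hv : v ∈ N) (hw : w ∈ N) (hwv : e w = c • e v) (hv' : t * v * t⁻¹ = v) (hw' : t * w * t⁻¹ = w) :
    v = 1 := by
  have h1 := hτ c v hv w hw hwv
  rw [hv', hw', hwv] at h1
  have h2 : (τ c - c) • e v = 0 := by rw [sub_smul, ← h1, sub_self]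
  rcases smul_eq_zero.1 h2 with h3 | h3
  · exact absurd (sub_eq_zero.1 h3) hc
  · exact h.inj v hv h3

/-- `|C|² ≤ |M|` for `C ≤ M` fixed by `t`, `M` closed under the scalar `c`. -/
theorem card_sq_le [Finite G] {t : G} (_ : t ∈ T) {τ : F ≃+* F}
    (hτ : ∀ c : F, ∀ v ∈ N, ∀ w ∈ N, e w = c • e v → e (t * w * t⁻¹) = τ c • e (t * v * t⁻¹)) {c : F} (hc : τ c ≠ c)
    {C M : Subgroup G} (hCM : C ≤ M) (hMN : M ≤ N) (hM : ∀ v ∈ M, ∀ w ∈ N, e w = c • e v → w ∈ M)
    (hC : ∀ v ∈ C, t * v * t⁻¹ = v) : Nat.card C ^ 2 ≤ Nat.card M := by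
  have hs : ∀ v : C, ∃ w ∈ N, e w = c • e (v : G) := fun v => h.surj _
  choose s hs1 hs2 using hs
  have hsM : ∀ v : C, s v ∈ M := fun v => hM _ (hCM v.2) _ (hs1 v) (hs2 v)
  rw [sq, ← Nat.card_prod]
  refine Nat.card_le_card_of_injective (fun x : C × C => (⟨(x.1 : G) * s x.2, mul_mem (hCM x.1.2) (hsM x.2)⟩ : M)) ?_
  rintro ⟨x, y⟩ ⟨x', y'⟩ hxy
  have h1 : (x : G) * s y = x' * s y' := congrArg Subtype.val hxy
  have hx := hMN (hCM x.2)
  have hx' := hMN (hCM x'.2)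
  have hy := hMN (hCM y.2)
  have hy' := hMN (hCM y'.2)
  -- `x'⁻¹ x = s y' (s y)⁻¹`
  have h2 : (x' : G)⁻¹ * x = s y' * (s y)⁻¹ := by
    rw [inv_mul_eq_iff_eq_mul, ← mul_assoc, eq_mul_inv_iff_mul_eq]
    exact h1
  have h3 : e ((x' : G)⁻¹ * x) = c • e ((y' : G) * (y : G)⁻¹) := by
    rw [h2, h.mul _ (hs1 y') _ (inv_mem (hs1 y)), h.e_inv (hs1 y), hs2, hs2, h.mul _ hy' _ (inv_mem hy), h.e_inv hy,
      smul_add, smul_neg]
  have h4 := h.eq_one_of_fix hτ hc (mul_mem hy' (inv_mem hy)) (mul_mem (inv_mem hx') hx) h3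
    (hC _ (mul_mem y'.2 (inv_mem y.2))) (hC _ (mul_mem (inv_mem x'.2) x.2))
  have h5 : y = y' := Subtype.ext (mul_inv_eq_one.1 h4).symm
  subst h5
  exact Prod.ext (Subtype.ext (mul_right_cancel h1)) rfl

/-- the offset of a linear involution -/
theorem card_lin [Finite G] [Finite F] {E : Subgroup G} (hE : E ≤ T) (hm : ElemM N E) :
    ∃ X : AddSubgroup F, Nat.card (h.lin E hE) = Nat.card ↥(E ⊓ centralizer (N : Set G)) * Nat.card X ∧
      (∀ b ∈ X, ∃ t ∈ h.lin E hE, ∀ v ∈ N, e (t * v * t⁻¹) = ![e v 0 + b * e v 1, e v 1]) ∧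
      ∀ t ∈ h.lin E hE, ∃ b ∈ X, ∀ v ∈ N, e (t * v * t⁻¹) = ![e v 0 + b * e v 1, e v 1] := by
  have hb : ∀ t : h.lin E hE, ∃ b : F, ∀ v ∈ N, e ((t : G) * v * (t : G)⁻¹) = ![e v 0 + b * e v 1, e v 1] :=
    fun t => h.up_of_lin (hE t.2.1) t.2.2 (hm.sq _ t.2.1)
  choose b hb using hb
  obtain ⟨v1, hv1, e1⟩ := h.surj ![0, 1]
  have hbe : ∀ t : h.lin E hE, e ((t : G) * v1 * (t : G)⁻¹) 0 = b t := by
    intro t
    rw [hb t v1 hv1, e1]
    simp
  let β : h.lin E hE →* Multiplicative F :=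
    { toFun := fun t => Multiplicative.ofAdd (b t)
      map_one' := by
        rw [← hbe]
        simp only [OneMemClass.coe_one, one_mul, inv_one, mul_one]
        rw [e1]
        rfl
      map_mul' := fun s t => by
        rw [← ofAdd_add, ← hbe (s * t)]
        congr 1
        have h1 : ((s * t : h.lin E hE) : G) * v1 * ((s * t : h.lin E hE) : G)⁻¹ =
            (s : G) * ((t : G) * v1 * (t : G)⁻¹) * (s : G)⁻¹ := by
          rw [Subgroup.coe_mul]; group
        rw [h1, hb s _ (h.TN _ (hE t.2.1) v1 hv1), hb t v1 hv1, e1]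
        simp [add_comm] }
  have hβ : ∀ t, β t = Multiplicative.ofAdd (b t) := fun t => rfl
  have hker : ∀ t : h.lin E hE, t ∈ β.ker ↔ (t : G) ∈ centralizer (N : Set G) := by
    intro t
    rw [MonoidHom.mem_ker, hβ, ofAdd_eq_one]
    constructor
    · intro h0
      refine mem_centralizer_iff.2 fun v hv => ?_
      have h1 := hb t v hv
      rw [h0, zero_mul, add_zero] at h1
      have h2 := h.ext (h.TN _ (hE t.2.1) v hv) hv (h1.trans (by funext i; fin_cases i <;> rfl))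
      exact (mul_inv_eq_iff_eq_mul.1 h2).symm
    · intro hc
      have h1 : (t : G) * v1 * (t : G)⁻¹ = v1 := mul_inv_eq_iff_eq_mul.2 (mem_centralizer_iff.1 hc v1 hv1).symm
      rw [← hbe, h1, e1]
      rfl
  refine ⟨(Subgroup.toAddSubgroup β.range : AddSubgroup (Additive (Multiplicative F))), ?_, ?_, ?_⟩
  · have h1 : Nat.card (h.lin E hE) = Nat.card β.ker * Nat.card β.range := by
      rw [Subgroup.card_eq_card_quotient_mul_card_subgroup β.ker, mul_comm]
      congr 1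
      exact Nat.card_congr (QuotientGroup.quotientKerEquivRange β).toEquiv
    have h2 : Nat.card β.ker = Nat.card ↥(E ⊓ centralizer (N : Set G)) := by
      refine Nat.card_congr ⟨fun t => ⟨t.1, t.1.2.1, (hker _).1 t.2⟩, fun t => ⟨⟨t.1, t.2.1, ?_⟩, ?_⟩, fun t => rfl,
        fun t => rfl⟩
      · intro c v hv w hw hc
        have e1 : (t : G) * v * (t : G)⁻¹ = v := mul_inv_eq_iff_eq_mul.2 (mem_centralizer_iff.1 t.2.2 v hv).symm
        have e2 : (t : G) * w * (t : G)⁻¹ = w := mul_inv_eq_iff_eq_mul.2 (mem_centralizer_iff.1 t.2.2 w hw).symm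
        rw [e1, e2]
        exact hc
      · exact (hker _).2 t.2.2
    rw [h1, h2]
    rfl
  · rintro _ ⟨t, rfl⟩
    exact ⟨t, t.2, hb t⟩
  · intro t ht
    exact ⟨b ⟨t, ht⟩, ⟨⟨t, ht⟩, rfl⟩, hb ⟨t, ht⟩⟩

theorem card_N [Finite G] [Finite F] : Nat.card N = Nat.card F ^ 2 := by
  have h1 : Nat.card (Fin 2 → F) = Nat.card F ^ 2 := by rw [Nat.card_fun, Nat.card_fin]
  rw [← h1]
  refine Nat.card_congr (Equiv.ofBijective (fun v : N => e v) ⟨fun v w hvw => Subtype.ext (h.ext v.2 w.2 hvw), ?_⟩)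
  intro x
  obtain ⟨v, hv, hx⟩ := h.surj x
  exact ⟨⟨v, hv⟩, hx⟩

theorem card_Z [Finite G] [Finite F] : Nat.card Z = Nat.card F := by
  refine Nat.card_congr (Equiv.ofBijective (fun v : Z => e v 0) ⟨fun v w hvw => Subtype.ext ?_, ?_⟩)
  · refine h.ext (h.ZN v.2) (h.ZN w.2) ?_
    funext i
    fin_cases i
    · exact hvw
    · exact ((h.memZ _).1 v.2).2.trans ((h.memZ _).1 w.2).2.symm
  · intro x
    obtain ⟨v, hv, hx⟩ := h.surj ![x, 0]
    exact ⟨⟨v, (h.memZ v).2 ⟨hv, by rw [hx]; rfl⟩⟩, congrFun hx 0⟩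

/-- if a linear element of `E` moves `N` then `C_N(E) ≤ Z` -/
theorem cent_le_Z {E : Subgroup G} {t : G} (htE : t ∈ E) {b : F} (hb0 : b ≠ 0)
    (hb : ∀ v ∈ N, e (t * v * t⁻¹) = ![e v 0 + b * e v 1, e v 1]) : N ⊓ centralizer (E : Set G) ≤ Z := by
  rintro v ⟨hv, hvE⟩
  refine (h.memZ v).2 ⟨hv, ?_⟩
  have h1 : t * v * t⁻¹ = v := mul_inv_eq_iff_eq_mul.2 (mem_centralizer_iff.1 hvE t htE)
  have h2 := congrFun (hb v hv) 0
  rw [h1] at h2
  have h3 : b * e v 1 = 0 := by simpa using h2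
  exact (mul_eq_zero.1 h3).resolve_left hb0

/-- nonlinear elements: `|E| |C_N(E)| < |N| |C_E(N)|`. -/
theorem lt_of_nonlin [Finite G] [Finite F] {E : Subgroup G} (hE : E ≤ T) (hm : ElemM N E) {t : G} (htE : t ∈ E)
    (hnl : ¬ h.Lin t) : Nat.card E * Nat.card ↥(N ⊓ centralizer (E : Set G)) <
      Nat.card N * Nat.card ↥(E ⊓ centralizer (N : Set G)) := by
  obtain ⟨τ, hτ⟩ := h.semi t (hE htE)
  have hτ1 : ∃ c, τ c ≠ c := by
    by_contra hcon
    push Not at hcon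
    exact hnl fun c v hv w hw hc => by rw [hτ c v hv w hw hc, hcon c]
  obtain ⟨c, hc⟩ := hτ1
  obtain ⟨v1, hv1, e1⟩ := h.surj ![0, 1]
  have htv1 : e v1 ≠ 0 := fun h0 => by
    have h2 := congrFun (e1.symm.trans h0) 1
    simp at h2
  -- the automorphism of an element of `E` is an involution
  have hsqE : ∀ s ∈ E, ∀ v ∈ N, s * (s * v * s⁻¹) * s⁻¹ = v := by
    intro s hs v hv
    have h3 := mem_centralizer_iff.1 (hm.sq s hs) v hv
    rw [sq] at h3
    calc s * (s * v * s⁻¹) * s⁻¹ = s * s * v * (s * s)⁻¹ := by group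
      _ = v := by rw [← h3]; group
  have hinv : ∀ s ∈ E, ∀ σ : F ≃+* F, (∀ c : F, ∀ v ∈ N, ∀ w ∈ N, e w = c • e v →
      e (s * w * s⁻¹) = σ c • e (s * v * s⁻¹)) → σ * σ = 1 := by
    intro s hs σ hσ
    ext a
    obtain ⟨w, hw, hw'⟩ := h.surj (a • e v1)
    have h1 := hσ a v1 hv1 w hw hw'
    have h2 := hσ _ _ (h.TN s (hE hs) v1 hv1) _ (h.TN s (hE hs) w hw) h1
    rw [hsqE s hs w hw, hsqE s hs v1 hv1, hw'] at h2
    have h3 : (a - σ (σ a)) • e v1 = 0 := by rw [sub_smul, h2, sub_self]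
    rcases smul_eq_zero.1 h3 with h4 | h4
    · exact (sub_eq_zero.1 h4).symm
    · exact absurd h4 htv1
  have hone : ∀ s ∈ E, ∀ σ : F ≃+* F, (∀ c : F, ∀ v ∈ N, ∀ w ∈ N, e w = c • e v →
      e (s * w * s⁻¹) = σ c • e (s * v * s⁻¹)) → ¬ h.Lin s → σ ≠ 1 := by
    rintro s hs σ hσ hl rfl
    exact hl fun c v hv w hw hcw => hσ c v hv w hw hcw
  -- `|E| ≤ 2 |lin E|`
  have hE2 : Nat.card E ≤ 2 * Nat.card (h.lin E hE) := by
    have h1 : ∀ s ∈ E, ¬ h.Lin s → t * s ∈ h.lin E hE := by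
      intro s hs hsl
      obtain ⟨σ, hσ⟩ := h.semi s (hE hs)
      have h2 : σ = τ := Cfsg.Agent.Omega.NO3S.SLTwo.ringAut_involution_unique (hinv s hs σ hσ) (hinv t htE τ hτ)
        (hone s hs σ hσ hsl) (hone t htE τ hτ hnl)
      refine ⟨mul_mem htE hs, fun a v hv w hw haw => ?_⟩
      have h3 := hτ _ _ (h.TN s (hE hs) v hv) _ (h.TN s (hE hs) w hw) (hσ a v hv w hw haw)
      have h4 : τ (σ a) = a := by
        rw [h2]
        exact congrArg (fun x : F ≃+* F => x a) (hinv t htE τ hτ)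
      rw [h4] at h3
      rw [show t * s * w * (t * s)⁻¹ = t * (s * w * s⁻¹) * t⁻¹ by group,
        show t * s * v * (t * s)⁻¹ = t * (s * v * s⁻¹) * t⁻¹ by group]
      exact h3
    have h2 : Nat.card (Bool × h.lin E hE) = 2 * Nat.card (h.lin E hE) := by
      rw [Nat.card_prod]; simp
    rw [← h2]
    refine Nat.card_le_card_of_surjective (fun x : Bool × h.lin E hE =>
      (⟨cond x.1 (t⁻¹ * x.2) x.2, by
        cases x.1
        · exact x.2.2.1
        · exact mul_mem (inv_mem htE) x.2.2.1⟩ : E)) ?_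
    rintro ⟨s, hs⟩
    by_cases hsl : h.Lin s
    · exact ⟨(false, ⟨s, hs, hsl⟩), rfl⟩
    · exact ⟨(true, ⟨t * s, h1 s hs hsl⟩), Subtype.ext (by simp)⟩
  -- `|X| |C_N(E)| ≤ q`
  obtain ⟨X, hX, hX1, -⟩ := h.card_lin hE hm
  have hkey : Nat.card X * Nat.card ↥(N ⊓ centralizer (E : Set G)) ≤ Nat.card F := by
    have hfix : ∀ v ∈ N ⊓ centralizer (E : Set G), t * v * t⁻¹ = v := fun v hv =>
      mul_inv_eq_iff_eq_mul.2 (mem_centralizer_iff.1 hv.2 t htE)
    by_cases hX0 : ∀ b ∈ X, b = 0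
    · have h1 : Nat.card X = 1 := by
        have h2 : X = ⊥ := (AddSubgroup.eq_bot_iff_forall _).2 hX0
        rw [h2, AddSubgroup.card_bot]
      have h2 := h.card_sq_le (hE htE) hτ hc (C := N ⊓ centralizer (E : Set G)) (M := N) inf_le_left le_rfl
        (fun _ _ w hw _ => hw) hfix
      rw [h.card_N] at h2
      rw [h1, one_mul]
      exact (Nat.pow_le_pow_iff_left two_ne_zero).1 h2
    · push Not at hX0
      obtain ⟨b, hbX, hb0⟩ := hX0
      obtain ⟨r, hr, hrb⟩ := hX1 b hbX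
      have h1 := h.cent_le_Z hr.1 hb0 hrb
      have h2 := h.card_sq_le (hE htE) hτ hc (C := N ⊓ centralizer (E : Set G)) (M := Z) h1 h.ZN
        (fun v hv w hw hwv => (h.memZ w).2 ⟨hw, by rw [hwv, Pi.smul_apply, ((h.memZ v).1 hv).2, smul_zero]⟩) hfix
      rw [h.card_Z] at h2
      -- `a τ(b) = d b` for all `b ∈ X`
      obtain ⟨v0, hv0, e0⟩ := h.surj ![1, 0]
      set a := e (t * v0 * t⁻¹) 0 with ha
      set d := e (t * v1 * t⁻¹) 1 with hd
      have ha0 : a ≠ 0 := by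
        intro h3
        have h4 : e (t * v0 * t⁻¹) = 0 := by
          funext i
          fin_cases i
          · exact h3
          · exact h.line t (hE htE) v0 hv0 (by rw [e0]; rfl)
        have h5 := h.inj _ (h.TN t (hE htE) v0 hv0) h4
        have h6 : v0 = 1 := by
          have h7 := mul_inv_eq_one.1 h5
          exact mul_left_cancel (h7.trans (mul_one t).symm)
        rw [h6, h.e_one] at e0
        have h8 := congrFun e0 0
        simp at h8
      have hrel : ∀ b ∈ X, a * τ b = d * b := by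
        intro b hb
        obtain ⟨r, hr, hrb⟩ := hX1 b hb
        have h3 := mem_centralizer_iff.1 (hm.comm t htE r hr.1) v1 hv1
        -- `t r v1 r⁻¹ t⁻¹ = r t v1 t⁻¹ r⁻¹`
        have h4 : t * (r * v1 * r⁻¹) * t⁻¹ = r * (t * v1 * t⁻¹) * r⁻¹ := by
          have h5 := mem_centralizer_iff.1 (hm.comm t htE r hr.1) _ (h.TN r (hE hr.1) _ (h.TN t (hE htE) v1 hv1))
          have h6 : r * (t * v1 * t⁻¹) * r⁻¹ =
              t * r * t⁻¹ * r⁻¹ * (r * (t * v1 * t⁻¹) * r⁻¹) * (t * r * t⁻¹ * r⁻¹)⁻¹ := by rw [← h5]; group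
          rw [h6]; group
        obtain ⟨w, hw, hwb⟩ := h.surj (b • e v0)
        have h5 : r * v1 * r⁻¹ = w * v1 := by
          refine h.ext (h.TN r (hE hr.1) v1 hv1) (mul_mem hw hv1) ?_
          rw [hrb v1 hv1, h.mul w hw v1 hv1, hwb, e0, e1]
          funext i
          fin_cases i <;> simp
        have h6 := congrFun (congrArg e h4) 0
        rw [h5, h.conj_mul (hE htE) hw hv1, Pi.add_apply, hτ b v0 hv0 w hw hwb,
          hrb _ (h.TN t (hE htE) v1 hv1)] at h6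
        have h7 : τ b * a + e (t * v1 * t⁻¹) 0 = e (t * v1 * t⁻¹) 0 + b * d := by
          simpa using h6
        have h8 : τ b * a = b * d := by
          have h9 := h7.trans (add_comm _ _)
          exact add_right_cancel h9
        rw [mul_comm a, h8, mul_comm]
      have h3 : Nat.card X ^ 2 ≤ Nat.card F := by
        rw [sq, ← Nat.card_prod]
        refine Nat.card_le_card_of_injective (fun x : X × X => (x.1 : F) + c * x.2) ?_
        rintro ⟨x, y⟩ ⟨x', y'⟩ hxy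
        have h4 : (x : F) + c * y = x' + c * y' := hxy
        have h5 : (x : F) - x' = c * (y' - y) := by linear_combination h4
        have h6 := hrel _ (X.sub_mem x.2 x'.2)
        have h7 := hrel _ (X.sub_mem y'.2 y.2)
        rw [h5, map_mul] at h6
        have h8 : (τ c - c) * (a * τ ((y' : F) - y)) = 0 := by
          linear_combination h6 - c * h7
        have h9 : τ ((y' : F) - y) = 0 := by
          rcases mul_eq_zero.1 h8 with h9 | h9
          · exact absurd (sub_eq_zero.1 h9) hc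
          · exact (mul_eq_zero.1 h9).resolve_left ha0
        have h10 : (y' : F) - y = 0 := by
          apply τ.injective
          rw [h9, map_zero]
        rw [h10, mul_zero] at h5
        exact Prod.ext (Subtype.ext (sub_eq_zero.1 h5)) (Subtype.ext (sub_eq_zero.1 h10).symm)
      have h4 : (Nat.card X * Nat.card ↥(N ⊓ centralizer (E : Set G))) ^ 2 ≤ Nat.card F ^ 2 := by
        rw [mul_pow, sq (Nat.card F)]
        exact Nat.mul_le_mul h3 h2
      exact (Nat.pow_le_pow_iff_left two_ne_zero).1 h4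
  -- `q > 2`
  have hq : 2 < Nat.card F := by
    have hc0 : c ≠ 0 := fun h0 => hc (by rw [h0, map_zero])
    have hc1 : c ≠ 1 := fun h0 => hc (by rw [h0, map_one])
    have h1 : Nat.card (Fin 3) ≤ Nat.card F := Nat.card_le_card_of_injective ![0, 1, c] (by
      intro i j hij
      fin_cases i <;> fin_cases j <;> simp_all)
    rw [Nat.card_fin] at h1
    exact h1
  have hc0 : 0 < Nat.card ↥(E ⊓ centralizer (N : Set G)) := Nat.card_pos
  rw [h.card_N]
  calc Nat.card E * Nat.card ↥(N ⊓ centralizer (E : Set G))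
      ≤ 2 * (Nat.card ↥(E ⊓ centralizer (N : Set G)) * Nat.card X) * Nat.card ↥(N ⊓ centralizer (E : Set G)) := by
        rw [← hX]; exact Nat.mul_le_mul_right _ hE2
    _ = 2 * Nat.card ↥(E ⊓ centralizer (N : Set G)) *
        (Nat.card X * Nat.card ↥(N ⊓ centralizer (E : Set G))) := by ring
    _ ≤ 2 * Nat.card ↥(E ⊓ centralizer (N : Set G)) * Nat.card F := Nat.mul_le_mul_left _ hkey
    _ = 2 * (Nat.card F * Nat.card ↥(E ⊓ centralizer (N : Set G))) := by ring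
    _ < Nat.card F * (Nat.card F * Nat.card ↥(E ⊓ centralizer (N : Set G))) := by
        refine Nat.mul_lt_mul_of_pos_right hq ?_
        exact Nat.mul_pos (by omega) hc0
    _ = Nat.card F ^ 2 * Nat.card ↥(E ⊓ centralizer (N : Set G)) := by ring

/-- **No over-offender on `N`.** -/
theorem no [Finite G] [Finite F] {E : Subgroup G} (hE : E ≤ T) (hm : ElemM N E) (hne : ¬ E ≤ centralizer (N : Set G)) :
    Nat.card E * Nat.card ↥(N ⊓ centralizer (E : Set G)) ≤
      Nat.card N * Nat.card ↥(E ⊓ centralizer (N : Set G)) := by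
  by_cases hl : ∀ t ∈ E, h.Lin t
  · obtain ⟨X, hX, hX1, hX2⟩ := h.card_lin hE hm
    have h1 : h.lin E hE = E := le_antisymm (fun t ht => ht.1) fun t ht => ⟨ht, hl t ht⟩
    rw [h1] at hX
    obtain ⟨t, ht, htn⟩ := SetLike.not_le_iff_exists.1 hne
    obtain ⟨b, hb, hbt⟩ := hX2 t ⟨ht, hl t ht⟩
    have hb0 : b ≠ 0 := by
      rintro rfl
      refine htn (mem_centralizer_iff.2 fun v hv => ?_)
      have h2 := hbt v hv
      rw [zero_mul, add_zero] at h2
      have h3 := h.ext (h.TN _ (hE ht) v hv) hv (h2.trans (by funext i; fin_cases i <;> rfl))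
      exact (mul_inv_eq_iff_eq_mul.1 h3).symm
    have h2 := Subgroup.card_le_of_le (h.cent_le_Z ht hb0 hbt)
    rw [h.card_Z] at h2
    have h3 : Nat.card X ≤ Nat.card F := Nat.card_le_card_of_injective (fun x : X => (x : F)) Subtype.val_injective
    rw [hX, h.card_N]
    calc _ ≤ Nat.card ↥(E ⊓ centralizer (N : Set G)) * Nat.card F * Nat.card F :=
          Nat.mul_le_mul (Nat.mul_le_mul_left _ h3) h2
      _ = _ := by ring
  · push Not at hl
    obtain ⟨t, ht, htl⟩ := hl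
    exact (h.lt_of_nonlin hE hm ht htl).le

/-- **An offender is the full root group.** -/
theorem full [Finite G] [Finite F] {E : Subgroup G} (hE : E ≤ T) (ho : OffM N E) :
    (∀ t ∈ E, ∃ b : F, ∀ v ∈ N, e (t * v * t⁻¹) = ![e v 0 + b * e v 1, e v 1]) ∧
      ∀ b : F, ∃ t ∈ E, ∀ v ∈ N, e (t * v * t⁻¹) = ![e v 0 + b * e v 1, e v 1] := by
  by_cases hl : ∀ t ∈ E, h.Lin t
  · obtain ⟨X, hX, hX1, hX2⟩ := h.card_lin hE ho.toElemM
    have h1 : h.lin E hE = E := le_antisymm (fun t ht => ht.1) fun t ht => ⟨ht, hl t ht⟩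
    rw [h1] at hX
    obtain ⟨t, ht, htn⟩ := SetLike.not_le_iff_exists.1 ho.ne
    obtain ⟨b, hb, hbt⟩ := hX2 t ⟨ht, hl t ht⟩
    have hb0 : b ≠ 0 := by
      rintro rfl
      refine htn (mem_centralizer_iff.2 fun v hv => ?_)
      have h2 := hbt v hv
      rw [zero_mul, add_zero] at h2
      have h3 := h.ext (h.TN _ (hE ht) v hv) hv (h2.trans (by funext i; fin_cases i <;> rfl))
      exact (mul_inv_eq_iff_eq_mul.1 h3).symm
    have h2 := Subgroup.card_le_of_le (h.cent_le_Z ht hb0 hbt)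
    rw [h.card_Z] at h2
    have h3 := ho.le
    rw [hX, h.card_N] at h3
    have hc0 : 0 < Nat.card ↥(E ⊓ centralizer (N : Set G)) := Nat.card_pos
    have hF0 : 0 < Nat.card F := Nat.card_pos
    have h4 : Nat.card F ≤ Nat.card X := by
      have h5 : Nat.card F * (Nat.card F * Nat.card ↥(E ⊓ centralizer (N : Set G))) ≤
          Nat.card X * (Nat.card F * Nat.card ↥(E ⊓ centralizer (N : Set G))) := by
        calc _ = Nat.card F ^ 2 * Nat.card ↥(E ⊓ centralizer (N : Set G)) := by ring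
          _ ≤ _ := h3
          _ ≤ Nat.card ↥(E ⊓ centralizer (N : Set G)) * Nat.card X * Nat.card F := Nat.mul_le_mul_left _ h2
          _ = _ := by ring
      exact Nat.le_of_mul_le_mul_right h5 (Nat.mul_pos hF0 hc0)
    have hXt : X = ⊤ := AddSubgroup.eq_top_of_le_card X h4
    refine ⟨fun t ht => ?_, fun b => ?_⟩
    · obtain ⟨b, -, hb⟩ := hX2 t ⟨ht, hl t ht⟩
      exact ⟨b, hb⟩
    · obtain ⟨t, ht, hb⟩ := hX1 b (hXt ▸ AddSubgroup.mem_top b)
      exact ⟨t, ht.1, hb⟩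
  · push Not at hl
    obtain ⟨t, ht, htl⟩ := hl
    exact absurd ho.le (not_le.2 (h.lt_of_nonlin hE ho.toElemM ht htl))

/-- `C_N(E) = Z` for an offender `E`. -/
theorem cent_eq [Finite G] [Finite F] {E : Subgroup G} (hE : E ≤ T) (ho : OffM N E) :
    N ⊓ centralizer (E : Set G) = Z := by
  obtain ⟨h1, h2⟩ := h.full hE ho
  refine le_antisymm ?_ fun v hv => ⟨h.ZN hv, ?_⟩
  · obtain ⟨t, ht, hb⟩ := h2 1
    exact h.cent_le_Z ht one_ne_zero hb
  · refine mem_centralizer_iff.2 fun t ht => ?_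
    obtain ⟨b, hb⟩ := h1 t ht
    have hv' := (h.memZ v).1 hv
    have h3 := hb v hv'.1
    rw [hv'.2, mul_zero, add_zero] at h3
    have h4 := h.ext (h.TN t (hE ht) v hv'.1) hv'.1 (h3.trans (by
      funext i
      fin_cases i
      · rfl
      · exact hv'.2.symm))
    exact mul_inv_eq_iff_eq_mul.1 h4

/-- `[N, E] = Z` for an offender `E` (the generation). -/
theorem comm [Finite G] [Finite F] {E : Subgroup G} (hE : E ≤ T) (ho : OffM N E) :
    (∀ t ∈ E, ∀ v ∈ N, t * v * t⁻¹ * v⁻¹ ∈ Z) ∧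
      ∀ v ∈ N, v ∉ Z → ∀ z ∈ Z, ∃ t ∈ E, t * v * t⁻¹ * v⁻¹ = z := by
  obtain ⟨h1, h2⟩ := h.full hE ho
  refine ⟨fun t ht v hv => ?_, fun v hv hvZ z hz => ?_⟩
  · obtain ⟨b, hb⟩ := h1 t ht
    have h3 := h.TN t (hE ht) v hv
    refine (h.memZ _).2 ⟨mul_mem h3 (inv_mem hv), ?_⟩
    rw [h.mul _ h3 _ (inv_mem hv), h.e_inv hv, hb v hv]
    simp
  · have hv1 : e v 1 ≠ 0 := fun h0 => hvZ ((h.memZ v).2 ⟨hv, h0⟩)
    obtain ⟨t, ht, hb⟩ := h2 (e z 0 * (e v 1)⁻¹)
    refine ⟨t, ht, ?_⟩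
    have h3 := h.TN t (hE ht) v hv
    refine h.ext (mul_mem h3 (inv_mem hv)) (h.ZN hz) ?_
    rw [h.mul _ h3 _ (inv_mem hv), h.e_inv hv, hb v hv]
    funext i
    fin_cases i
    · simp [inv_mul_cancel₀ hv1, mul_assoc]
    · have h4 := ((h.memZ z).1 hz).2
      simp [h4]

end NatT

end Cfsg.Agent.Omega.CaseLQ
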