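import Cfsg.Agent.Omega.CaseLQ.NoWEnd
import Cfsg.Agent.Omega.CaseLQ.Core

/-!
# NoW, `q ≥ 3`, over `MulL`: closed

* `noW` : `NoW S P Z j` for every `j`, `k ≥ 2` (helper952, 593, 749, 681, 707, 194, 335);
* `noWQ` : for all groups of the class (the literal `Node.CaseLPQ.NoWQ`).
-/

set_option autoImplicit false
set_option linter.unusedSectionVars false

namespace Cfsg.Agent.Omega.CaseLQ.NoWEnd

open Subgroup Cfsg Cfsg.Agent.Omega.Frame
open Cfsg.Agent.Omega.Node.MulX (MulL)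
open Cfsg.Agent.Omega.KL.QF.KInX (NoW)

universe u

section

variable {G : Type u} [Group G] {k : ℕ} [Finite G] {S : Sylow 2 G} {P B ZJ : Subgroup G}
  {L W Z C A : Fin k → Subgroup G} {q : ℕ}

theorem core (h : MulL S P B ZJ L W Z C A q) (hq : 3 ≤ q) (j : Fin k) : Core S P B ZJ Z j :=
  fun BT TS TZ DC D0 hT YD syl min c2 nQ ΛC ΛT zT mvZ cnt =>
    noW_core' h hq BT TS TZ (DC.trans (Tj.Lam_le_ZJ h.bg j)) D0 DC hT YD syl min c2 nQ ΛC ΛT zT mvZ cnt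

/-- **NoW**, `q ≥ 3`, every `j`. -/
theorem noW (h : MulL S P B ZJ L W Z C A q) (hq : 3 ≤ q) (j : Fin k) : NoW S P Z j := noW_of h j (core h hq j)

end

/-- **NoW**, `q ≥ 4`, class level. -/
theorem noWQ (K : Cls.{u}) : ∀ (G : Type u) [Group G] [Finite G], K G → ∀ (S : Sylow 2 G) (P B ZJ : Subgroup G) (k : ℕ)
    (L W Z C A : Fin k → Subgroup G) (q : ℕ), 2 ≤ k → 4 ≤ q → MulL S P B ZJ L W Z C A q →
      ∀ j, NoW S P Z j :=
  fun _ _ _ _ _ _ _ _ _ _ _ _ _ _ _ _ hq h j => noW h (by omega) j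

end Cfsg.Agent.Omega.CaseLQ.NoWEnd
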