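import Cfsg.Agent.Omega.CaseLQ.OneOrb
import Cfsg.Agent.Omega.NO3S.Fld.FourBase
import Cfsg.Agent.Omega.NO3S.Fld.TrBest

/-!
# CaseL, weird `Y`, `q = 2`: (ii2) second half and (ii3) of bb OMEGA #24136 (helper922), abstract

Over `OneOrb.Orb`:
* `Orb.D_eq` : `C_{X_C}(Q) = V` (`N_B(c i)` acts on `c i` through a cyclic group, `B/Q` elementary abelian, `|V| = 4`);
  `Orb.four_le` : `4 ≤ |c i|`;
* `Orb.one` : one block and `c i = V`, if for every block there is a torus `Θ i` (trivial on the other `c j`, irreducible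
  on `c i`, an element of odd order moves `c i`) which normalises `Q` modulo `C(X_C)`.
-/

set_option autoImplicit false
set_option linter.unusedSectionVars false

namespace Cfsg.Agent.Omega.CaseLQ.OneOrb

open Subgroup Cfsg Cfsg.Agent.ZN.ChoiceBase
open Cfsg.Agent.Omega.NO3b.EZero (cl cj_le_cl le_cl cl_le le_normalizer_cl cj_iSup)
open Cfsg.Agent.Omega.NO3b.ClosedPt (exists_fixed)
open Cfsg.Agent.Omega.OmThm.SideBase (mem_sup_comm)
open Cfsg.Agent.Omega.NO3S.Fld (relIndex_mul_card relIndex_le_of_map)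

universe u v

variable {G : Type u} [Group G] {ι : Type v}

/-- `N_B(c)` acts on `c` through a cyclic group -/
def Cyc (B c : Subgroup G) : Prop :=
  ∃ t ∈ B ⊓ normalizer (c : Set G), ∀ b ∈ B ⊓ normalizer (c : Set G), ∃ k : ℤ, b * t ^ k ∈ centralizer (c : Set G)

namespace Orb

variable {U B Q P X Λ ZJ L V : Subgroup G} {c K : ι → Subgroup G}

/-- an element of `P` which normalises `c i` normalises the other part -/
theorem norm_RR (h : Orb U B Q P X Λ ZJ L V c K) {p : G} (hp : p ∈ P) {i : ι} (hi : p ∈ normalizer (c i : Set G)) :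
    p ∈ normalizer (RR c i : Set G) := by
  refine mem_normalizer_iff_cj.2 (le_antisymm (h.cj_RR hp (cj_eq_of_mem_normalizer hi)) ?_)
  have h1 := cj_mono p (h.cj_RR (inv_mem hp) (cj_eq_of_mem_normalizer (inv_mem hi)))
  rwa [cj_cj_inv] at h1

/-- an element of `B` which centralises `c i` centralises `D` -/
theorem cent_D [Finite G] [Finite ι] (h : Orb U B Q P X Λ ZJ L V c K) {b : G} (hb : b ∈ P) {i : ι}
    (hi : b ∈ centralizer (c i : Set G)) {d : G} (hd : d ∈ (⨆ i, c i) ⊓ centralizer (Q : Set G)) : b * d = d * b := by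
  obtain ⟨a, ha, r, hr, e⟩ := h.split i hd.1
  have h1 : b * r * b⁻¹ ∈ RR c i := conj_mem (h.norm_RR hb (centralizer_le_normalizer _ hi)) hr
  have h2 := mem_centralizer_iff.1 hi a ha
  have hbX := conj_mem (h.PX hb) hd.1
  have hbQ : b * d * b⁻¹ ∈ centralizer (Q : Set G) := by
    have h3 : cj b (centralizer (Q : Set G)) = centralizer (Q : Set G) := by
      rw [cj_centralizer, cj_eq_of_mem_normalizer (h.PQ hb)]
    rw [← h3]
    exact mem_cj' hd.2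
  have h4 : b * d * b⁻¹ * d⁻¹ = (b * r * b⁻¹) * r⁻¹ := by
    have hc : ∀ y ∈ RR c i, a * y = y * a := fun y hy => h.Uc a (h.cU i ha) y (h.RU i hy)
    calc b * d * b⁻¹ * d⁻¹ = (b * a * b⁻¹) * (b * r * b⁻¹) * (a * r)⁻¹ := by rw [e]; group
      _ = a * (b * r * b⁻¹) * (a * r)⁻¹ := by rw [← h2]; group
      _ = a * ((b * r * b⁻¹) * r⁻¹) * a⁻¹ := by group
      _ = ((b * r * b⁻¹) * r⁻¹) * a * a⁻¹ := by rw [hc _ (mul_mem h1 (inv_mem hr))]
      _ = _ := by group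
  have h5 := h.D_inj (mul_mem hbX (inv_mem hd.1)) (mul_mem hbQ (inv_mem hd.2)) (i := i)
    (by rw [h4]; exact mul_mem h1 (inv_mem hr))
  exact mul_inv_eq_iff_eq_mul.1 (mul_inv_eq_one.1 h5)

theorem BD (h : Orb U B Q P X Λ ZJ L V c K) :
    P ≤ normalizer (((⨆ i, c i) ⊓ centralizer (Q : Set G) : Subgroup G) : Set G) := by
  intro x hx
  refine mem_normalizer_iff_cj.2 ?_
  rw [cj_inf, cj_eq_of_mem_normalizer (h.PX hx), cj_centralizer, cj_eq_of_mem_normalizer (h.PQ hx)]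

/-- `|D| ≤ 4` -/
theorem card_D [Finite G] [Finite ι] (h : Orb U B Q P X Λ ZJ L V c K) (Us : ∀ u ∈ U, u ^ 2 = 1)
    (sq : ∀ b ∈ B, b ^ 2 ∈ Q) (cyc : ∃ i, Cyc B (c i)) :
    Nat.card ↥((⨆ i, c i) ⊓ centralizer (Q : Set G) : Subgroup G) ≤ 4 := by
  obtain ⟨i, t, ht, hcyc⟩ := cyc
  obtain ⟨z, hz, hz1, hzB, -⟩ := h.exists_z
  set D := (⨆ i, c i) ⊓ centralizer (Q : Set G) with hD
  have hzU : z ∈ U := h.XU (h.V_le hz).1
  have hBD : B ≤ normalizer (D : Set G) := h.BP.trans h.BD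
  -- `t`-fixed elements are `B`-fixed
  have hfix : ∀ d ∈ D, t * d = d * t → d ∈ zpowers z := by
    intro d hd htd
    by_cases hd1 : d = 1
    · rw [hd1]; exact one_mem _
    · have hdB : d ∈ centralizer (B : Set G) := by
        refine mem_centralizer_iff.2 fun b hb => ?_
        obtain ⟨j, hj⟩ := h.perm b (h.BP hb) i
        obtain ⟨q, hq, hqj⟩ := h.trQ i j
        have hn : q⁻¹ * b ∈ normalizer (c i : Set G) := by
          refine mem_normalizer_iff_cj.2 ?_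
          rw [← cj_cj, hj, ← hqj, cj_inv_cj]
        obtain ⟨k, hk⟩ := hcyc _ ⟨B.mul_mem (B.inv_mem (h.QB hq)) hb, hn⟩
        have h1 := h.cent_D (mul_mem (mul_mem (inv_mem (h.BP (h.QB hq))) (h.BP hb)) (zpow_mem (h.BP ht.1) k)) hk hd
        have h2 : t ^ k * d = d * t ^ k := Commute.zpow_left htd k
        have h3 := mem_centralizer_iff.1 hd.2 q hq
        -- `q⁻¹ b t^k` commutes with `d`
        have h4 : (q⁻¹ * b) * d = d * (q⁻¹ * b) := by
          have h5 : (q⁻¹ * b) * d * t ^ k = d * (q⁻¹ * b) * t ^ k := by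
            calc (q⁻¹ * b) * d * t ^ k = (q⁻¹ * b) * (t ^ k * d) := by rw [h2]; group
              _ = q⁻¹ * b * t ^ k * d := by group
              _ = d * (q⁻¹ * b * t ^ k) := h1
              _ = _ := by group
          exact mul_right_cancel h5
        calc b * d = q * ((q⁻¹ * b) * d) := by group
          _ = q * (d * (q⁻¹ * b)) := by rw [h4]
          _ = (q * d) * (q⁻¹ * b) := by group
          _ = d * b := by rw [h3]; group
      have e := h.fix_eq hd.1 (h.V_le hz).1 hdB hzB hd1 hz1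
      rw [e]
      exact mem_zpowers z
  have hzD := h.V_le hz
  have hCD : zpowers z ≤ D := zpowers_le.2 hzD
  have hcz : Nat.card (zpowers z) ≤ 2 := by
    rw [Nat.card_zpowers]
    exact orderOf_le_of_pow_eq_one (by norm_num) (Us z hzU)
  have hr : (zpowers z).relIndex D ≤ Nat.card (zpowers z) := by
    rw [← relIndex_bot_left (zpowers z)]
    refine relIndex_le_of_map (fun d => t * d * t⁻¹ * d⁻¹) (fun d hd => ?_) ?_
    · have hdt : t * d * t⁻¹ ∈ D := conj_mem (hBD ht.1) hd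
      refine hfix _ (mul_mem hdt (inv_mem hd)) ?_
      have h1 := mem_centralizer_iff.1 hd.2 _ (sq t ht.1)
      have h2 : t * t * d * (t * t)⁻¹ = d := by rw [← pow_two, h1, mul_inv_cancel_right]
      have hU1 : t * d * t⁻¹ ∈ U := h.XU hdt.1
      have hU2 : d ∈ U := h.XU hd.1
      have e1 : t * (t * d * t⁻¹ * d⁻¹) * t⁻¹ = d * (t * d * t⁻¹)⁻¹ := by
        calc t * (t * d * t⁻¹ * d⁻¹) * t⁻¹ = (t * t * d * (t * t)⁻¹) * (t * d * t⁻¹)⁻¹ := by group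
          _ = _ := by rw [h2]
      have e2 : d * (t * d * t⁻¹)⁻¹ = t * d * t⁻¹ * d⁻¹ := by
        have s1 : (t * d * t⁻¹)⁻¹ = t * d * t⁻¹ := by
          rw [inv_eq_iff_mul_eq_one, ← pow_two]; exact Us _ hU1
        have s2 : d⁻¹ = d := by rw [inv_eq_iff_mul_eq_one, ← pow_two]; exact Us _ hU2
        rw [s1, s2]
        exact h.Uc _ hU2 _ hU1
      rw [← mul_inv_eq_iff_eq_mul, e1, e2]
    · intro a ha b hb hab
      refine hfix _ (mul_mem (inv_mem ha) hb) ?_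
      have e0 : t * a * t⁻¹ * a⁻¹ = t * b * t⁻¹ * b⁻¹ := inv_mul_eq_one.1 (mem_bot.1 hab)
      have hU1 : t * a * t⁻¹ ∈ U := h.XU (conj_mem (hBD ht.1) ha).1
      have hU2 : t * b * t⁻¹ ∈ U := h.XU (conj_mem (hBD ht.1) hb).1
      have hUa : a ∈ U := h.XU ha.1
      have hUb : b ∈ U := h.XU hb.1
      rw [← mul_inv_eq_iff_eq_mul]
      calc t * (a⁻¹ * b) * t⁻¹ = (t * a * t⁻¹ * a⁻¹ * a)⁻¹ * (t * b * t⁻¹) := by group
        _ = (t * b * t⁻¹ * b⁻¹ * a)⁻¹ * (t * b * t⁻¹) := by rw [e0]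
        _ = a⁻¹ * (b * ((t * b * t⁻¹)⁻¹ * (t * b * t⁻¹))) := by group
        _ = a⁻¹ * b := by group
  have hm := relIndex_mul_card D (zpowers z)
  rw [inf_eq_right.2 hCD] at hm
  calc Nat.card D = (zpowers z).relIndex D * Nat.card (zpowers z) := hm.symm
    _ ≤ Nat.card (zpowers z) * Nat.card (zpowers z) := Nat.mul_le_mul_right _ hr
    _ ≤ 2 * 2 := Nat.mul_le_mul hcz hcz
    _ = 4 := by norm_num

/-- **`C_{X_C}(Q) = V`** -/
theorem D_eq [Finite G] [Finite ι] (h : Orb U B Q P X Λ ZJ L V c K) (Us : ∀ u ∈ U, u ^ 2 = 1)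
    (sq : ∀ b ∈ B, b ^ 2 ∈ Q) (cyc : ∃ i, Cyc B (c i)) (hV : Nat.card V = 4) :
    (⨆ i, c i) ⊓ centralizer (Q : Set G) = V :=
  (Subgroup.eq_of_le_of_card_ge h.V_le (by rw [hV]; exact h.card_D Us sq cyc)).symm

/-- `|V| ≤ |c i|` -/
theorem card_le [Finite G] [Finite ι] (h : Orb U B Q P X Λ ZJ L V c K) (i : ι) : Nat.card V ≤ Nat.card (c i) := by
  classical
  have key : ∀ v : V, ∃ a ∈ c i, (v : G)⁻¹ * a ∈ RR c i := fun v => by
    obtain ⟨a, ha, r, hr, e⟩ := h.split i (h.V_le v.2).1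
    refine ⟨a, ha, ?_⟩
    have e1 : (v : G)⁻¹ * a = r⁻¹ := by rw [e]; group
    rw [e1]
    exact inv_mem hr
  choose f hf hf' using key
  refine Nat.card_le_card_of_injective (fun v => (⟨f v, hf v⟩ : c i)) fun v w e => ?_
  have e1 : f v = f w := congrArg Subtype.val e
  by_contra hne
  have hvw : (v : G)⁻¹ * (w : G) ≠ 1 := fun h0 => hne (Subtype.ext (inv_mul_eq_one.1 h0))
  refine h.full (mul_mem (inv_mem v.2) w.2) hvw i ?_
  have e2 : (v : G)⁻¹ * (w : G) = ((v : G)⁻¹ * f v) * ((w : G)⁻¹ * f w)⁻¹ := by rw [e1]; group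
  rw [e2]
  exact mul_mem (hf' v) (inv_mem (hf' w))

/-- the tori of the blocks, normalising `Q` modulo `C(X_C)` -/
structure Tori (Q : Subgroup G) (c Θ : ι → Subgroup G) : Prop where
  cent : ∀ i j, j ≠ i → Θ i ≤ centralizer (c j : Set G)
  norm : ∀ i, Θ i ≤ normalizer (c i : Set G)
  irr : ∀ i, ∀ W ≤ c i, Θ i ≤ normalizer (W : Set G) → W = ⊥ ∨ W = c i
  odd : ∀ i, ∃ θ ∈ Θ i, Odd (orderOf θ) ∧ θ ∉ centralizer (c i : Set G)
  Q : ∀ i, ∀ θ ∈ Θ i, ∀ q ∈ Q, ∃ q' ∈ Q, ∀ x ∈ ⨆ i, c i, (θ * q * θ⁻¹) * x * (θ * q * θ⁻¹)⁻¹ = q' * x * q'⁻¹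

/-- one block -/
theorem sub [Finite G] [Finite ι] (h : Orb U B Q P X Λ ZJ L V c K) {Θ : ι → Subgroup G} (ht : Tori Q c Θ) (i j : ι) :
    i = j := by
  by_contra hne
  obtain ⟨q, hq, hqj⟩ := h.trQ i j
  obtain ⟨θ, hθ, hodd, hθc⟩ := ht.odd i
  obtain ⟨q', hq', hact⟩ := ht.Q i θ hθ q hq
  set w := q' * q⁻¹ with hw
  have hwQ : w ∈ Q := mul_mem hq' (inv_mem hq)
  have hXc : ∀ m, ∀ x ∈ c m, x ∈ ⨆ i, c i := fun m x hx => (le_iSup c m) hx
  have hqi : ∀ x ∈ c j, q⁻¹ * x * q ∈ c i := fun x hx => by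
    have h1 : x ∈ cj q (c i) := by rw [hqj]; exact hx
    exact mem_cj.1 h1
  -- the action of `w` on `c j`
  have hwact : ∀ x ∈ c j, w * x * w⁻¹ = q * (θ⁻¹ * (q⁻¹ * x * q) * θ) * q⁻¹ := by
    intro x hx
    have hx1 := hqi x hx
    have hx0 : q⁻¹ * x * q⁻¹⁻¹ ∈ ⨆ i, c i := by
      rw [inv_inv]; exact hXc i _ hx1
    have h1 := hact _ hx0
    have hx2 : θ⁻¹ * (q⁻¹ * x * q) * θ ∈ c i := by
      have := conj_mem (inv_mem (ht.norm i hθ)) hx1
      rwa [inv_inv] at this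
    have hx3 : q * (θ⁻¹ * (q⁻¹ * x * q) * θ) * q⁻¹ ∈ c j := by
      rw [← hqj]; exact mem_cj' hx2
    have h2 := mem_centralizer_iff.1 (ht.cent i j (Ne.symm hne) hθ) _ hx3
    calc w * x * w⁻¹ = q' * (q⁻¹ * x * q⁻¹⁻¹) * q'⁻¹ := by rw [hw]; group
      _ = (θ * q * θ⁻¹) * (q⁻¹ * x * q⁻¹⁻¹) * (θ * q * θ⁻¹)⁻¹ := h1.symm
      _ = θ * (q * (θ⁻¹ * (q⁻¹ * x * q) * θ) * q⁻¹) * θ⁻¹ := by group
      _ = q * (θ⁻¹ * (q⁻¹ * x * q) * θ) * q⁻¹ := by rw [← h2]; group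
  have hwj : ∀ x ∈ c j, w * x * w⁻¹ ∈ c j := fun x hx => by
    rw [hwact x hx, ← hqj]
    refine mem_cj' ?_
    have := conj_mem (inv_mem (ht.norm i hθ)) (hqi x hx)
    rwa [inv_inv] at this
  have hpow : ∀ n : ℕ, ∀ x ∈ c j, w ^ n * x * (w ^ n)⁻¹ = q * (θ⁻¹ ^ n * (q⁻¹ * x * q) * (θ⁻¹ ^ n)⁻¹) * q⁻¹ ∧
      w ^ n * x * (w ^ n)⁻¹ ∈ c j := by
    intro n
    induction n with
    | zero => intro x hx; refine ⟨by group, by simpa using hx⟩
    | succ n ih =>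
      intro x hx
      obtain ⟨h1, h2⟩ := ih x hx
      have h3 := hwact _ h2
      refine ⟨?_, ?_⟩
      · calc w ^ (n + 1) * x * (w ^ (n + 1))⁻¹ = w * (w ^ n * x * (w ^ n)⁻¹) * w⁻¹ := by rw [pow_succ']; group
          _ = q * (θ⁻¹ * (q⁻¹ * (w ^ n * x * (w ^ n)⁻¹) * q) * θ) * q⁻¹ := h3
          _ = _ := by rw [h1, pow_succ']; group
      · have h4 := hwj _ h2
        have e : w ^ (n + 1) * x * (w ^ (n + 1))⁻¹ = w * (w ^ n * x * (w ^ n)⁻¹) * w⁻¹ := by rw [pow_succ']; group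
        rw [e]; exact h4
  have h1 : w ^ orderOf θ ∈ centralizer (c j : Set G) := by
    refine mem_centralizer_iff.2 fun x hx => ?_
    have h2 := (hpow (orderOf θ) x hx).1
    rw [inv_pow, pow_orderOf_eq_one] at h2
    have h3 : w ^ orderOf θ * x * (w ^ orderOf θ)⁻¹ = x := by rw [h2]; group
    rw [mul_inv_eq_iff_eq_mul] at h3
    exact h3.symm
  obtain ⟨m, hm⟩ := h.B2 ⟨w, h.QB hwQ⟩
  have hm' : w ^ 2 ^ m = 1 := by simpa using congrArg Subtype.val hm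
  have hwc : w ∈ centralizer (c j : Set G) := by
    have hco : Nat.Coprime (orderOf θ) (2 ^ m) := Nat.Coprime.pow_right _ (Nat.coprime_two_right.2 hodd)
    have h2 : (w : G) ^ (Nat.gcd (orderOf θ) (2 ^ m) : ℤ) ∈ centralizer (c j : Set G) := by
      rw [Nat.gcd_eq_gcd_ab, zpow_add, zpow_mul, zpow_mul, zpow_natCast, zpow_natCast, hm', one_zpow, mul_one]
      exact zpow_mem h1 _
    rw [hco] at h2
    simpa using h2
  refine hθc (mem_centralizer_iff.2 fun y hy => ?_)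
  have hx : q * y * q⁻¹ ∈ c j := by rw [← hqj]; exact mem_cj' hy
  have h3 := hwact _ hx
  have h4 := mem_centralizer_iff.1 hwc _ hx
  have h5 : w * (q * y * q⁻¹) * w⁻¹ = q * y * q⁻¹ := by rw [← h4]; group
  have h6 : θ⁻¹ * y * θ = y := by
    calc θ⁻¹ * y * θ = q⁻¹ * (q * (θ⁻¹ * (q⁻¹ * (q * y * q⁻¹) * q) * θ) * q⁻¹) * q := by group
      _ = q⁻¹ * (w * (q * y * q⁻¹) * w⁻¹) * q := by rw [h3]
      _ = q⁻¹ * (q * y * q⁻¹) * q := by rw [h5]
      _ = y := by group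
  calc y * θ = θ * (θ⁻¹ * y * θ) := by group
    _ = θ * y := by rw [h6]

/-- **(ii3): one block, `c i = V`** -/
theorem one [Finite G] [Finite ι] (h : Orb U B Q P X Λ ZJ L V c K) {Θ : ι → Subgroup G} (ht : Tori Q c Θ) (i : ι)
    (hD : (⨆ i, c i) ⊓ centralizer (Q : Set G) = V) : c i = V ∧ c i ≤ centralizer (Q : Set G) := by
  have hX : (⨆ j, c j) = c i := by
    refine le_antisymm (iSup_le fun j => ?_) (le_iSup c i)
    rw [h.sub ht j i]
  have hVc : V ≤ c i := by rw [← hX, ← hD]; exact inf_le_left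
  have hVne : V ≠ ⊥ := by
    obtain ⟨z, hz, hz1, -⟩ := h.exists_z
    intro h0
    rw [h0] at hz
    exact hz1 (mem_bot.1 hz)
  have hn : Θ i ≤ normalizer (V : Set G) := by
    have key : ∀ θ ∈ Θ i, ∀ v ∈ V, θ * v * θ⁻¹ ∈ V := by
      intro θ hθ v hv
      rw [← hD] at hv ⊢
      have hv1 : v ∈ c i := by rw [← hX]; exact hv.1
      refine ⟨?_, mem_centralizer_iff.2 fun q hq => ?_⟩
      · rw [hX]; exact conj_mem (ht.norm i hθ) hv1
      · obtain ⟨q', hq', h1⟩ := ht.Q i θ⁻¹ (inv_mem hθ) q hq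
        have h2 := h1 v hv.1
        have h3 := mem_centralizer_iff.1 hv.2 q' hq'
        have h4 : q' * v * q'⁻¹ = v := by rw [h3]; group
        rw [h4] at h2
        calc q * (θ * v * θ⁻¹) = θ * ((θ⁻¹ * q * θ⁻¹⁻¹) * v * (θ⁻¹ * q * θ⁻¹⁻¹)⁻¹) * θ⁻¹ * q := by group
          _ = θ * v * θ⁻¹ * q := by rw [h2]
    intro θ hθ
    rw [mem_normalizer_iff]
    intro v
    refine ⟨key θ hθ v, fun hv => ?_⟩
    have h1 := key θ⁻¹ (inv_mem hθ) _ hv
    have e : θ⁻¹ * (θ * v * θ⁻¹) * θ⁻¹⁻¹ = v := by group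
    rwa [e] at h1
  have e := (ht.irr i V hVc hn).resolve_left hVne
  refine ⟨e.symm, ?_⟩
  rw [← e, ← hD]
  exact inf_le_right

end Orb

end Cfsg.Agent.Omega.CaseLQ.OneOrb
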