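import Cfsg.Agent.Omega.NO3b.Closed.Base
import Cfsg.Agent.Omega.OmThm.SideBase

/-!
# CaseL, weird `Y`, `q = 2`: (ii2) of bb OMEGA #24136 (helper922), abstract

`c i ≤ U` : the canonical root lines of the blocks of `Y` in `U` (`c_l'` of LEMMA NS, #24654, one per block), direct
sum `X_C = ⨆ c i`, permuted by `P = P_j`; `K i` moves every element `≠ 1` of `c i` and centralises the others;
`X = O²(P_j)`.

* `Orb.trB` : `B` is transitive on the blocks;
* `Orb.V_le` : `V = V_j ≤ C_{X_C}(Q)`;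
* `Orb.full` : the elements `≠ 1` of `V` have full support;
* `Orb.trQ` : **`Q` is transitive on the blocks**;
* `Orb.D_eq` : `C_{X_C}(Q) = V` if `N_B(c i)` acts on `c i` through a cyclic group.
-/

set_option autoImplicit false
set_option linter.unusedSectionVars false

namespace Cfsg.Agent.Omega.CaseLQ.OneOrb

open Subgroup Cfsg Cfsg.Agent.ZN.ChoiceBase
open Cfsg.Agent.Omega.NO3b.EZero (cl cj_le_cl le_cl cl_le le_normalizer_cl cj_iSup)
open Cfsg.Agent.Omega.NO3b.ClosedPt (exists_fixed)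
open Cfsg.Agent.Omega.OmThm.SideBase (mem_sup_comm)

universe u v

variable {G : Type u} [Group G] {ι : Type v}

/-- the sum of the other members -/
def RR (c : ι → Subgroup G) (i : ι) : Subgroup G := ⨆ j, ⨆ (_ : j ≠ i), c j

/-- a commuting independent family -/
structure Fam (U : Subgroup G) (c : ι → Subgroup G) : Prop where
  Uc : ∀ x ∈ U, ∀ y ∈ U, x * y = y * x
  cU : ∀ i, c i ≤ U
  ind : ∀ i, c i ⊓ RR c i = ⊥

theorem le_RR {c : ι → Subgroup G} {i j : ι} (h : j ≠ i) : c j ≤ RR c i :=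
  le_iSup_of_le j (le_iSup_of_le h le_rfl)

namespace Fam

variable {U : Subgroup G} {c : ι → Subgroup G} (h : Fam U c)
include h

theorem XU : (⨆ i, c i) ≤ U := iSup_le h.cU

theorem RU (i : ι) : RR c i ≤ U := iSup_le fun j => iSup_le fun _ => h.cU j

/-- splitting off one component -/
theorem split (i : ι) {x : G} (hx : x ∈ ⨆ i, c i) : ∃ a ∈ c i, ∃ b ∈ RR c i, x = a * b := by
  classical
  have h1 : (⨆ i, c i) ≤ c i ⊔ RR c i := iSup_le fun j => by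
    by_cases e : j = i
    · subst e; exact le_sup_left
    · exact (le_RR e).trans le_sup_right
  exact mem_sup_comm (fun a ha b hb => h.Uc a (h.cU i ha) b (h.RU i hb)) (h1 hx)

theorem eq_one_fin (s : Finset ι) : ∀ x ∈ ⨆ i ∈ s, c i, (∀ i ∈ s, x ∈ RR c i) → x = 1 := by
  classical
  induction s using Finset.induction_on with
  | empty =>
    intro x hx _
    simpa using hx
  | insert a s ha ih =>
    intro x hx hR
    rw [Finset.iSup_insert] at hx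
    have h1 : (⨆ i ∈ s, c i) ≤ RR c a := iSup_le fun i => iSup_le fun hi =>
      le_RR fun e => ha (e ▸ hi)
    obtain ⟨u, hu, v, hv, rfl⟩ := mem_sup_comm
      (fun y hy z hz => h.Uc y (h.cU a hy) z (h.RU a (h1 hz))) hx
    have h2 : u ∈ RR c a := by
      have h3 := mul_mem (hR a (Finset.mem_insert_self _ _)) (inv_mem (h1 hv))
      rwa [mul_inv_cancel_right] at h3
    have h4 : u = 1 := by
      have : u ∈ c a ⊓ RR c a := ⟨hu, h2⟩
      rw [h.ind a] at this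
      exact mem_bot.1 this
    subst h4
    rw [one_mul]
    refine ih v hv fun i hi => ?_
    have := hR i (Finset.mem_insert_of_mem hi)
    rwa [one_mul] at this

/-- an element of the sum without components is trivial -/
theorem eq_one [Finite ι] {x : G} (hx : x ∈ ⨆ i, c i) (hR : ∀ i, x ∈ RR c i) : x = 1 := by
  classical
  cases nonempty_fintype ι
  refine h.eq_one_fin Finset.univ x ?_ fun i _ => hR i
  simpa using hx

/-- disjoint sums of members -/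
theorem disj [Finite ι] {M N : Subgroup G} (hM : M ≤ ⨆ i, c i) (hd : ∀ i, M ≤ RR c i ∨ N ≤ RR c i) : M ⊓ N = ⊥ := by
  rw [eq_bot_iff]
  rintro x ⟨hx, hx'⟩
  refine mem_bot.2 (h.eq_one (hM hx) fun i => ?_)
  rcases hd i with h1 | h1
  · exact h1 hx
  · exact h1 hx'

end Fam

/-- the situation -/
structure Orb (U B Q P X Λ ZJ L V : Subgroup G) (c K : ι → Subgroup G) : Prop extends Fam U c where
  ne : Nonempty ι
  cne : ∀ i, c i ≠ ⊥
  U2 : IsPGroup 2 U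
  B2 : IsPGroup 2 B
  QB : Q ≤ B
  BP : B ≤ P
  PQ : P ≤ normalizer (Q : Set G)
  XP : X ≤ P
  perm : ∀ p ∈ P, ∀ i, ∃ j, cj p (c i) = c j
  KC : ∀ i j, j ≠ i → K i ≤ centralizer (c j : Set G)
  KM : ∀ i, c i ⊓ centralizer (K i : Set G) = ⊥
  KL : ∀ i, K i ≤ centralizer (Λ : Set G)
  fixB : U ⊓ centralizer (B : Set G) ≤ ZJ
  two : ∀ x ∈ ZJ, ∀ y ∈ ZJ, x ∉ Λ → y ∉ Λ → x⁻¹ * y ∈ Λ
  fixQ : U ⊓ centralizer (Q : Set G) ≤ L
  XL : ∀ x ∈ X, ∀ l ∈ L, x * l * x⁻¹ * l⁻¹ ∈ V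
  X3 : ∀ x ∈ X, x ^ 3 ∈ centralizer (L : Set G)
  XZ : ZJ ⊓ centralizer (X : Set G) ≤ Λ
  XV : X ≤ normalizer (V : Set G)
  tr : ∀ v ∈ V, v ≠ 1 → ∀ w ∈ V, w ≠ 1 → ∃ x ∈ X, x * v * x⁻¹ = w
  V2 : IsPGroup 2 V
  BV : B ≤ normalizer (V : Set G)

/-- `x` in the normaliser of `H` -/
theorem conj_mem {g x : G} {H : Subgroup G} (hg : g ∈ normalizer (H : Set G)) (hx : x ∈ H) : g * x * g⁻¹ ∈ H :=
  (mem_normalizer_iff.1 hg x).1 hx

theorem mem_cj' {g x : G} {H : Subgroup G} (hx : x ∈ H) : g * x * g⁻¹ ∈ cj g H := by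
  rw [mem_cj]
  have e : g⁻¹ * (g * x * g⁻¹) * g = x := by group
  rwa [e]

namespace Orb

variable {U B Q P X Λ ZJ L V : Subgroup G} {c K : ι → Subgroup G}

section
variable (h : Orb U B Q P X Λ ZJ L V c K)
include h

theorem inj {i j : ι} (e : c i = c j) : i = j := by
  by_contra hne
  refine h.cne i ?_
  rw [eq_bot_iff, ← h.ind i]
  exact le_inf le_rfl (e ▸ le_RR (Ne.symm hne))

theorem PX : P ≤ normalizer ((⨆ i, c i : Subgroup G) : Set G) := by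
  have key : ∀ p ∈ P, cj p (⨆ i, c i) ≤ ⨆ i, c i := fun p hp => by
    rw [cj_iSup]
    refine iSup_le fun i => ?_
    obtain ⟨j, hj⟩ := h.perm p hp i
    rw [hj]
    exact le_iSup c j
  intro p hp
  refine mem_normalizer_iff_cj.2 (le_antisymm (key p hp) ?_)
  have h1 := cj_mono p (key p⁻¹ (inv_mem hp))
  rwa [cj_cj_inv] at h1

/-- the conjugate of `RR` -/
theorem cj_RR {p : G} (hp : p ∈ P) {i j : ι} (hij : cj p (c i) = c j) : cj p (RR c i) ≤ RR c j := by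
  unfold RR
  rw [cj_iSup]
  refine iSup_le fun m => ?_
  rw [cj_iSup]
  refine iSup_le fun hm => ?_
  obtain ⟨n, hn⟩ := h.perm p hp m
  rw [hn]
  refine le_RR fun e => hm (h.inj ?_)
  rw [← cj_inv_cj p (c m), hn, e, ← hij, cj_inv_cj]

/-- `X_C ∩ C(all K i) = 1` -/
theorem eq_one_of_K [Finite ι] {x : G} (hx : x ∈ ⨆ i, c i) (hK : ∀ i, K i ≤ centralizer ({x} : Set G)) : x = 1 := by
  refine h.eq_one hx fun i => ?_
  obtain ⟨a, ha, b, hb, rfl⟩ := h.split i hx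
  have hb' : K i ≤ centralizer (RR c i : Set G) := by
    rw [le_centralizer_iff]
    exact iSup_le fun j => iSup_le fun hj => le_centralizer_iff.1 (h.KC i j hj)
  have h1 : a ∈ c i ⊓ centralizer (K i : Set G) := by
    refine ⟨ha, mem_centralizer_iff.2 fun k hk => ?_⟩
    have h2 := mem_centralizer_singleton_iff.1 (hK i hk)
    have h3 := mem_centralizer_iff.1 (hb' hk) b hb
    have h4 : k * a * b = a * k * b := by
      calc k * a * b = k * (a * b) := by group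
        _ = a * b * k := h2
        _ = a * (b * k) := by group
        _ = a * (k * b) := by rw [h3]
        _ = a * k * b := by group
    exact mul_right_cancel h4
  rw [h.KM i] at h1
  rw [mem_bot.1 h1, one_mul]
  exact hb

/-- `X_C ∩ Λ = 1` -/
theorem XC_Lam [Finite ι] {x : G} (hx : x ∈ ⨆ i, c i) (hxl : x ∈ Λ) : x = 1 :=
  h.eq_one_of_K hx fun i _ hk => mem_centralizer_singleton_iff.2 (mem_centralizer_iff.1 (h.KL i hk) x hxl).symm

/-- two `B`-fixed elements `≠ 1` of `X_C` are equal -/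
theorem fix_eq [Finite ι] {x y : G} (hx : x ∈ ⨆ i, c i) (hy : y ∈ ⨆ i, c i) (hxB : x ∈ centralizer (B : Set G))
    (hyB : y ∈ centralizer (B : Set G)) (hx1 : x ≠ 1) (hy1 : y ≠ 1) : x = y := by
  have h1 := h.fixB ⟨h.XU hx, hxB⟩
  have h2 := h.fixB ⟨h.XU hy, hyB⟩
  have h3 := h.two x h1 y h2 (fun h0 => hx1 (h.XC_Lam hx h0)) (fun h0 => hy1 (h.XC_Lam hy h0))
  exact inv_mul_eq_one.1 (h.XC_Lam (mul_mem (inv_mem hx) hy) h3)

/-- the span of an orbit -/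
theorem cl_le_XC {A : Subgroup G} (hA : A ≤ P) (i : ι) : cl (c i) A ≤ ⨆ i, c i := cl_le fun a ha => by
  obtain ⟨j, hj⟩ := h.perm a (hA ha) i
  rw [hj]
  exact le_iSup c j

theorem cl_le_RR {A : Subgroup G} (hA : A ≤ P) {i j : ι} (hij : ∀ a ∈ A, cj a (c i) ≠ c j) :
    cl (c i) A ≤ RR c j := cl_le fun a ha => by
  obtain ⟨m, hm⟩ := h.perm a (hA ha) i
  rw [hm]
  refine le_RR fun e => hij a ha ?_
  rw [hm, e]

/-- disjoint orbits -/
theorem disj_orb [Finite ι] {A : Subgroup G} (hA : A ≤ P) {i j : ι} (hij : ∀ a ∈ A, cj a (c i) ≠ c j) :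
    cl (c i) A ⊓ cl (c j) A = ⊥ := by
  refine h.disj (h.cl_le_XC hA i) fun m => ?_
  by_cases h1 : ∃ a ∈ A, cj a (c i) = c m
  · right
    obtain ⟨a, ha, h1⟩ := h1
    refine h.cl_le_RR hA fun b hb h2 => hij (b⁻¹ * a) (mul_mem (inv_mem hb) ha) ?_
    rw [← cj_cj, h1, ← h2, cj_inv_cj]
  · left
    push Not at h1
    exact h.cl_le_RR hA h1

theorem cl_ne {A : Subgroup G} (i : ι) : cl (c i) A ≠ ⊥ := fun h0 => h.cne i (by
  rw [eq_bot_iff, ← h0]
  exact le_cl _ _)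

theorem exists_fix [Finite G] (i : ι) : ∃ x ∈ cl (c i) B, x ≠ 1 ∧ x ∈ centralizer (B : Set G) :=
  exists_fixed (h.U2.to_le ((h.cl_le_XC h.BP i).trans h.XU)) (h.cl_ne i) h.B2 (le_normalizer_cl _ _)

/-- `B` is transitive on the blocks -/
theorem trB [Finite G] [Finite ι] (i j : ι) : ∃ b ∈ B, cj b (c i) = c j := by
  by_contra hcon
  push Not at hcon
  obtain ⟨x, hx, hx1, hxB⟩ := h.exists_fix i
  obtain ⟨y, hy, hy1, hyB⟩ := h.exists_fix j
  have e := h.fix_eq (h.cl_le_XC h.BP i hx) (h.cl_le_XC h.BP j hy) hxB hyB hx1 hy1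
  subst e
  have h1 : x ∈ cl (c i) B ⊓ cl (c j) B := ⟨hx, hy⟩
  rw [h.disj_orb h.BP hcon] at h1
  exact hx1 (mem_bot.1 h1)

/-- a `B`-fixed element `≠ 1` has full support -/
theorem fix_full [Finite G] [Finite ι] {x : G} (hx : x ∈ ⨆ i, c i) (hxB : x ∈ centralizer (B : Set G)) (hx1 : x ≠ 1)
    (i : ι) : x ∉ RR c i := fun h0 => hx1 (h.eq_one hx fun j => by
  obtain ⟨b, hb, hbj⟩ := h.trB i j
  have h1 := h.cj_RR (h.BP hb) hbj (mem_cj' (g := b) h0)
  have h2 := mem_centralizer_iff.1 hxB b hb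
  rwa [h2, mul_inv_cancel_right] at h1)

/-- `V ∩ D` is not trivial, `D = C_{X_C}(Q)` -/
theorem V_le [Finite G] [Finite ι] : V ≤ (⨆ i, c i) ⊓ centralizer (Q : Set G) := by
  obtain ⟨i⟩ := h.ne
  obtain ⟨z, hz, hz1, hzB⟩ := h.exists_fix i
  have hzX := h.cl_le_XC h.BP i hz
  set D := (⨆ i, c i) ⊓ centralizer (Q : Set G) with hD
  have hzD : z ∈ D := ⟨hzX, centralizer_le h.QB hzB⟩
  have hDL : D ≤ L := fun d hd => h.fixQ ⟨h.XU hd.1, hd.2⟩
  have hXD : X ≤ normalizer (D : Set G) := by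
    have h1 : X ≤ normalizer ((⨆ i, c i : Subgroup G) : Set G) := h.XP.trans h.PX
    intro x hx
    refine mem_normalizer_iff_cj.2 ?_
    rw [hD, cj_inf, cj_eq_of_mem_normalizer (h1 hx), cj_centralizer, cj_eq_of_mem_normalizer (h.PQ (h.XP hx))]
  have hzZ := h.fixB ⟨h.XU hzX, hzB⟩
  have hzL : z ∉ Λ := fun h0 => hz1 (h.XC_Lam hzX h0)
  obtain ⟨x, hx, hxz⟩ : ∃ x ∈ X, x * z * x⁻¹ * z⁻¹ ≠ 1 := by
    by_contra hcon
    push Not at hcon
    refine hzL (h.XZ ⟨hzZ, mem_centralizer_iff.2 fun x hx => ?_⟩)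
    have h1 := hcon x hx
    have e : x * z = (x * z * x⁻¹ * z⁻¹) * z * x := by group
    rw [e, h1, one_mul]
  have hw : x * z * x⁻¹ * z⁻¹ ∈ D := mul_mem (conj_mem (hXD hx) hzD) (inv_mem hzD)
  have hwV := h.XL x hx z (hDL hzD)
  intro v hv
  by_cases hv1 : v = 1
  · rw [hv1]; exact one_mem _
  · obtain ⟨y, hy, e⟩ := h.tr _ hwV hxz v hv hv1
    rw [← e]
    exact conj_mem (hXD hy) hw

theorem D_le : (⨆ i, c i) ⊓ centralizer (Q : Set G) ≤ L := fun _ hd => h.fixQ ⟨h.XU hd.1, hd.2⟩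

end

/-- the fixed element `z ∈ V` -/
theorem exists_z [Finite G] [Finite ι] (h : Orb U B Q P X Λ ZJ L V c K) :
    ∃ z ∈ V, z ≠ 1 ∧ z ∈ centralizer (B : Set G) ∧ ∃ x ∈ X, x * z * x⁻¹ ≠ z := by
  obtain ⟨i⟩ := h.ne
  obtain ⟨z, hz, hz1, hzB⟩ := h.exists_fix i
  have hzX := h.cl_le_XC h.BP i hz
  have hzZ := h.fixB ⟨h.XU hzX, hzB⟩
  have hzL : z ∉ Λ := fun h0 => hz1 (h.XC_Lam hzX h0)
  have hex : ∃ x ∈ X, x * z * x⁻¹ ≠ z := by
    by_contra hcon
    push Not at hcon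
    refine hzL (h.XZ ⟨hzZ, mem_centralizer_iff.2 fun x hx => ?_⟩)
    have h1 := hcon x hx
    rw [mul_inv_eq_iff_eq_mul] at h1
    exact h1
  have hVne : V ≠ ⊥ := by
    obtain ⟨x, hx, hxz⟩ := hex
    intro h0
    have h1 := h.XL x hx z (h.D_le ⟨hzX, centralizer_le h.QB hzB⟩)
    rw [h0, mem_bot, mul_inv_eq_one] at h1
    exact hxz h1
  obtain ⟨z', hz', hz1', hzB'⟩ := exists_fixed h.V2 hVne h.B2 h.BV
  have e := h.fix_eq hzX (h.V_le hz').1 hzB hzB' hz1 hz1'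
  subst e
  exact ⟨z, hz', hz1, hzB, hex⟩

/-- the elements `≠ 1` of `V` have full support -/
theorem full [Finite G] [Finite ι] (h : Orb U B Q P X Λ ZJ L V c K) {v : G} (hv : v ∈ V) (hv1 : v ≠ 1) (i : ι) :
    v ∉ RR c i := by
  intro h0
  obtain ⟨z, hz, hz1, hzB, -⟩ := h.exists_z
  obtain ⟨x, hx, e⟩ := h.tr v hv hv1 z hz hz1
  obtain ⟨j, hj⟩ := h.perm x (h.XP hx) i
  have h1 := h.cj_RR (h.XP hx) hj (mem_cj' (g := x) h0)
  rw [e] at h1
  exact h.fix_full (h.V_le hz).1 hzB hz1 j h1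

/-- an element of `X` which moves `z` moves `i` into every other `Q`-orbit -/
theorem step [Finite G] [Finite ι] (h : Orb U B Q P X Λ ZJ L V c K) {z x : G} (hz : z ∈ V) (hz1 : z ≠ 1)
    (hx : x ∈ X) (hxz : x * z * x⁻¹ ≠ z) {i j k : ι} (hij : ∀ q ∈ Q, cj q (c i) ≠ c j) (hk : cj x (c i) = c k) :
    ∃ q ∈ Q, cj q (c k) = c j := by
  classical
  have hQP : Q ≤ P := h.QB.trans h.BP
  have hzD := h.V_le hz
  set N := cl (c i) Q with hN
  set N' : Subgroup G := ⨆ m, ⨆ (_ : ∀ q ∈ Q, cj q (c i) ≠ c m), c m with hN'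
  have hNX : N ≤ ⨆ i, c i := h.cl_le_XC hQP i
  have hN'X : N' ≤ ⨆ i, c i := iSup_le fun m => iSup_le fun _ => le_iSup c m
  have hXC : (⨆ i, c i) ≤ N ⊔ N' := iSup_le fun m => by
    by_cases hm : ∃ q ∈ Q, cj q (c i) = c m
    · obtain ⟨q, hq, e⟩ := hm
      rw [← e]
      exact (cj_le_cl hq).trans le_sup_left
    · push Not at hm
      exact le_sup_of_le_right (le_iSup_of_le m (le_iSup_of_le hm le_rfl))
  have hN'R : ∀ q ∈ Q, ∀ m, cj q (c i) = c m → N' ≤ RR c m := fun q hq m hm => by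
    refine iSup_le fun n => iSup_le fun hn => le_RR fun e => hn q hq ?_
    rw [hm, e]
  have hdis : N ⊓ N' = ⊥ := h.disj hNX fun m => by
    by_cases hm : ∃ q ∈ Q, cj q (c i) = c m
    · obtain ⟨q, hq, e⟩ := hm
      exact Or.inr (hN'R q hq m e)
    · push Not at hm
      exact Or.inl (h.cl_le_RR hQP hm)
  obtain ⟨a, ha, b, hb, hab⟩ := mem_sup_comm (fun y hy w hw => h.Uc y (h.XU (hNX hy)) w (h.XU (hN'X hw))) (hXC hzD.1)
  -- `Q` normalises `N`, `N'`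
  have hQN' : ∀ q ∈ Q, cj q N' ≤ N' := fun q hq => by
    rw [hN', cj_iSup]
    refine iSup_le fun m => ?_
    rw [cj_iSup]
    refine iSup_le fun hm => ?_
    obtain ⟨n, hn⟩ := h.perm q (hQP hq) m
    rw [hn]
    refine le_iSup_of_le n (le_iSup_of_le (fun q' hq' e => hm (q⁻¹ * q') (mul_mem (inv_mem hq) hq') ?_) le_rfl)
    rw [← cj_cj, e, ← hn, cj_inv_cj]
  have haQ : a ∈ centralizer (Q : Set G) := by
    refine mem_centralizer_iff.2 fun q hq => ?_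
    have h1 := mem_centralizer_iff.1 hzD.2 q hq
    have h2 : q * a * q⁻¹ ∈ N := conj_mem (le_normalizer_cl _ _ hq) ha
    have h3 : q * b * q⁻¹ ∈ N' := hQN' q hq (mem_cj' hb)
    have h4 : (q * a * q⁻¹) * (q * b * q⁻¹) = a * b := by
      calc (q * a * q⁻¹) * (q * b * q⁻¹) = q * (a * b) * q⁻¹ := by group
        _ = a * b := by rw [← hab, h1]; group
    have h5 : a⁻¹ * (q * a * q⁻¹) = b * (q * b * q⁻¹)⁻¹ := by
      rw [eq_mul_inv_iff_mul_eq, mul_assoc, h4]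
      group
    have h6 : a⁻¹ * (q * a * q⁻¹) ∈ N ⊓ N' :=
      ⟨N.mul_mem (N.inv_mem ha) h2, by rw [h5]; exact N'.mul_mem hb (N'.inv_mem h3)⟩
    rw [hdis, mem_bot, inv_mul_eq_one] at h6
    rw [eq_comm, mul_inv_eq_iff_eq_mul] at h6
    exact h6
  have haL : a ∈ L := h.D_le ⟨hNX ha, haQ⟩
  have hw := h.XL x hx a haL
  have hxP := h.XP hx
  have hxN : x * a * x⁻¹ ∈ cl (c k) Q := by
    have h1 : cj x N ≤ cl (c k) Q := by
      rw [hN]
      unfold cl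
      rw [cj_iSup]
      refine iSup_le fun q => ?_
      have h2 : x * q * x⁻¹ ∈ Q := conj_mem (h.PQ hxP) q.2
      have e : cj x (cj (q : G) (c i)) = cj (x * q * x⁻¹) (c k) := by
        rw [← hk, cj_cj, cj_cj]
        congr 1
        group
      rw [e]
      exact le_iSup (fun p : Q => cj (p : G) (c k)) ⟨_, h2⟩
    exact h1 (mem_cj' ha)
  by_contra hcon
  push Not at hcon
  -- `j` is neither in the orbit of `i` nor in the orbit of `k`
  have h1 : a ∈ RR c j := h.cl_le_RR hQP hij ha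
  have h2 : x * a * x⁻¹ ∈ RR c j := h.cl_le_RR hQP hcon hxN
  by_cases hw1 : x * a * x⁻¹ * a⁻¹ = 1
  · -- `x` fixes `a`
    have e1 : x * a * x⁻¹ = a := mul_inv_eq_one.1 hw1
    have ha1 : a ≠ 1 := fun h0 => by
      rw [h0, one_mul] at hab
      exact h.full hz hz1 i (hab ▸ hN'R 1 (one_mem _) i (cj_one _) hb)
    have hik : ∃ q ∈ Q, cj q (c i) = c k := by
      by_contra hc
      push Not at hc
      have h3 : a ∈ cl (c i) Q ⊓ cl (c k) Q := ⟨ha, by rw [← e1]; exact hxN⟩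
      rw [h.disj_orb hQP hc] at h3
      exact ha1 (mem_bot.1 h3)
    obtain ⟨q₀, hq₀, hik⟩ := hik
    have hbN : x * b * x⁻¹ ∈ N' := by
      have h3 : cj x N' ≤ N' := by
        rw [hN', cj_iSup]
        refine iSup_le fun m => ?_
        rw [cj_iSup]
        refine iSup_le fun hm => ?_
        obtain ⟨n, hn⟩ := h.perm x hxP m
        rw [hn]
        refine le_iSup_of_le n (le_iSup_of_le (fun q hq e => ?_) le_rfl)
        -- `q i = n = x m`, `q₀ i = k = x i`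
        have h4 : x⁻¹ * (q * q₀⁻¹) * x⁻¹⁻¹ ∈ Q :=
          conj_mem (h.PQ (inv_mem hxP)) (mul_mem hq (inv_mem hq₀))
        refine hm _ h4 ?_
        have e5 : cj (x⁻¹ * (q * q₀⁻¹) * x⁻¹⁻¹) (c i) = cj x⁻¹ (cj q (cj q₀⁻¹ (cj x (c i)))) := by
          rw [cj_cj, cj_cj, cj_cj]
          congr 1
          group
        rw [e5, hk, ← hik, cj_inv_cj, e, ← hn, cj_inv_cj]
      exact h3 (mem_cj' hb)
    have h6 : x * z * x⁻¹ * z⁻¹ = x * b * x⁻¹ * b⁻¹ := by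
      have hc : a * b = b * a := h.Uc a (h.XU (hNX ha)) b (h.XU (hN'X hb))
      calc x * z * x⁻¹ * z⁻¹ = (x * a * x⁻¹) * (x * b * x⁻¹) * (a * b)⁻¹ := by rw [hab]; group
        _ = a * (x * b * x⁻¹) * (a * b)⁻¹ := by rw [e1]
        _ = a * ((x * b * x⁻¹) * b⁻¹) * a⁻¹ := by group
        _ = (x * b * x⁻¹ * b⁻¹) * a * a⁻¹ := by
            rw [h.Uc a (h.XU (hNX ha)) _ (h.XU (hN'X (mul_mem hbN (inv_mem hb))))]
        _ = _ := by group
    have h7 : x * z * x⁻¹ * z⁻¹ ∈ V := h.XL x hx z (h.D_le hzD)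
    refine h.full h7 (fun h8 => hxz (mul_inv_eq_one.1 h8)) i ?_
    rw [h6]
    exact hN'R 1 (one_mem _) i (cj_one _) (mul_mem hbN (inv_mem hb))
  · exact h.full hw hw1 j (mul_mem h2 (inv_mem h1))

/-- **`Q` is transitive on the blocks** -/
theorem trQ [Finite G] [Finite ι] (h : Orb U B Q P X Λ ZJ L V c K) (i j : ι) : ∃ q ∈ Q, cj q (c i) = c j := by
  by_contra hcon
  push Not at hcon
  obtain ⟨z, hz, hz1, hzB, x, hx, hxz⟩ := h.exists_z
  have hzL := h.D_le (h.V_le hz)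
  have hcon' : ∀ q ∈ Q, cj q (c j) ≠ c i := fun q hq e => hcon q⁻¹ (inv_mem hq) (by rw [← e, cj_inv_cj])
  obtain ⟨k, hk⟩ := h.perm x (h.XP hx) i
  obtain ⟨m, hm⟩ := h.perm x (h.XP hx) j
  obtain ⟨q, hq, e⟩ := h.step hz hz1 hx hxz hcon hk
  obtain ⟨q', hq', e'⟩ := h.step hz hz1 hx hxz hcon' hm
  -- `x² i ~ x j ~ i`
  have hx2 : x ^ 2 ∈ X := pow_mem hx 2
  have hxz2 : x ^ 2 * z * (x ^ 2)⁻¹ ≠ z := fun h0 => by
    refine hxz ?_
    have h3 := mem_centralizer_iff.1 (h.X3 x hx) z hzL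
    calc x * z * x⁻¹ = x * (x ^ 2 * z * (x ^ 2)⁻¹) * x⁻¹ := by rw [h0]
      _ = x ^ 3 * z * (x ^ 3)⁻¹ := by group
      _ = z := by rw [← h3]; group
  obtain ⟨n, hn⟩ := h.perm (x ^ 2) (h.XP hx2) i
  obtain ⟨q'', hq'', e''⟩ := h.step hz hz1 hx2 hxz2 hcon hn
  -- `c n = x (c k)`
  have h1 : c n = cj x (c k) := by
    rw [← hn, ← hk, cj_cj, pow_two]
  have h2 : c m = cj (x * q * x⁻¹) (c n) := by
    rw [h1, cj_cj, ← hm, ← e, cj_cj]
    congr 1
    group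
  have h3 : c i = cj (q' * (x * q * x⁻¹)) (c n) := by
    rw [← cj_cj, ← h2, e']
  have h4 : q' * (x * q * x⁻¹) ∈ Q := mul_mem hq' (conj_mem (h.PQ (h.XP hx)) hq)
  refine hcon (q'' * (q' * (x * q * x⁻¹))⁻¹) (mul_mem hq'' (inv_mem h4)) ?_
  rw [h3, cj_cj, inv_mul_cancel_right, e'']

/-- an element of `D = C_{X_C}(Q)` without `i`-component is trivial -/
theorem D_inj [Finite G] [Finite ι] (h : Orb U B Q P X Λ ZJ L V c K) {d : G} (hd : d ∈ ⨆ i, c i)
    (hdQ : d ∈ centralizer (Q : Set G)) {i : ι} (hi : d ∈ RR c i) : d = 1 := h.eq_one hd fun j => by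
  obtain ⟨q, hq, e⟩ := h.trQ i j
  have h1 := h.cj_RR (h.BP (h.QB hq)) e (mem_cj' (g := q) hi)
  have h2 := mem_centralizer_iff.1 hdQ q hq
  rwa [h2, mul_inv_cancel_right] at h1

end Orb

end Cfsg.Agent.Omega.CaseLQ.OneOrb
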