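import Cfsg.Agent.Omega.CaseLQ.PartI

/-!
# CaseL, weird `Y`, the version with (CNT) (helper509 #25180, on top of helper952 #24536 (i)), abstract

As `PartI.lean`; instead of `H ≤ C(Λ)` only `P ≤ C(Λ)`, and

* `cnt` : every `F ≤ Λ` with `C_F(Y) = 1` has `|F| < |C_Z(T)|`.

`SitC.false_of` : no maximal offender of least rank `E ≤ T` (`MaxMin U H E`) moves `N`.
-/

set_option autoImplicit false
set_option linter.unusedSectionVars false

namespace Cfsg.Agent.Omega.CaseLQ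

open Subgroup Cfsg Cfsg.Agent.ZN Cfsg.Agent.ZN.ChoiceBase Cfsg.Agent.ZN.ChoiceSit
open Cfsg.Agent.Omega.FFThm (OffM ElemM NoOverM)
open Cfsg.Agent.Omega.NO3S.RedC (MaxMin)
open Cfsg.Agent.Omega.NO3b.EZero (cl cj_le_cl le_cl cl_le le_normalizer_cl cent_symm cj_cent)
open Cfsg.Agent.Omega.NO3b.K0 (conj_mem' cj_of_le cj_self)
open Cfsg.Agent.Omega.NO3S.NotFF (le_normalizer_of_forall)
open Cfsg.Agent.Omega.SQ1.Bau (mem_sup_comm card_sup_comm mem_sup_norm)
open Cfsg.Agent.Omega.NO3S.Fld (kmod mem_kmod norm_kmod kmod_le relIndex_mul_card relIndex_le_of_map relIndex_mul_of)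
open Cfsg.Agent.Omega.NOThreeL.VF (fM fM_le fM_cj fM_of_le le_fM_iff fM_le_iff fM_mul elemM_mono)

universe u

variable {G : Type u} [Group G] [Finite G] {H U T Q N Z Λ P Y E : Subgroup G}

/-- The situation, with (CNT). -/
structure SitC (H U T Q N Z Λ P Y : Subgroup G) : Prop where
  Uc : U ≤ centralizer (U : Set G)
  Us : ∀ u ∈ U, u ^ 2 = 1
  HU : H ≤ normalizer (U : Set G)
  TH : T ≤ H
  T2 : IsPGroup 2 T
  QT : Q ≤ T
  TZ : T ≤ normalizer (Z : Set G)
  UT : U ≤ T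
  NU : N ≤ U
  QN : Q ≤ centralizer (N : Set G)
  ZN : Z ≤ N
  Zne : Z ≠ ⊥
  card : Nat.card Z < Nat.card N
  PH : P ≤ H
  TP : T ≤ P
  PN : P ≤ normalizer (N : Set G)
  PQ : P ≤ normalizer (Q : Set G)
  PC : P ≤ normalizer ((T ⊓ centralizer (N : Set G) : Subgroup G) : Set G)
  YH : Y ≤ H
  TY : T ≤ Y
  sylY : Syl T Y
  oY : o2 Y ≤ T
  mv : ¬ Y ≤ normalizer (Z : Set G)
  PL : P ≤ centralizer (Λ : Set G)
  fix : U ⊓ centralizer (T : Set G) ≤ Z ⊔ Λ
  cnt : ∀ F ≤ Λ, F ⊓ centralizer (Y : Set G) = ⊥ → Nat.card F < Nat.card ↥(Z ⊓ centralizer (T : Set G))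
  /-- no over-offender on `N` -/
  noN : ∀ E ≤ T, ElemM N E → ¬ E ≤ centralizer (N : Set G) →
    Nat.card E * Nat.card ↥(N ⊓ centralizer (E : Set G)) ≤ Nat.card N * Nat.card ↥(E ⊓ centralizer (N : Set G))
  /-- the offenders on `N` are full root groups -/
  lineN : ∀ E ≤ T, OffM N E → N ⊓ centralizer (E : Set G) = Z ∧ CommIn E N Z ∧
    ∀ Z' : Subgroup G, CommIn E N Z' → Z ≤ Z'
  irrN : ∀ E ≤ T, OffM N E → ∀ K ≤ N, cl E P ≤ normalizer (K : Set G) → K = ⊥ ∨ K = N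
  oneY : ∀ E ≤ T, MaxMin U H E → ¬ E ≤ o2 Y → CommIn E U Z → (∀ Z' : Subgroup G, CommIn E U Z' → Z ≤ Z') →
    ∃ c ∈ Q, ∃ u ∈ U, c * u * c⁻¹ * u⁻¹ ∈ Z ∧ c * u * c⁻¹ * u⁻¹ ≠ 1

/-- **The norm of an induced module**: `T` acts on `U`, `K = N_T(X)`, the `T`-conjugates of `X` other than `X` are in
`R`, `X ∩ R = 1`: then `|C_D(T)| ≥ |C_X(K)|`. -/
theorem card_le_norm {D X R W K : Subgroup G} (hUc : ∀ x ∈ U, ∀ y ∈ U, x * y = y * x) (hTU : T ≤ normalizer (U : Set G))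
    (hX : X ≤ U) (hR : R ≤ U) (hXD : X ≤ D) (hRD : R ≤ D) (hWX : W ≤ X) (hWK : ∀ k ∈ K, ∀ w ∈ W, k * w = w * k)
    (hcj : ∀ t ∈ T, t ∉ K → cj t X ≤ R) (hXR : X ⊓ R = ⊥) :
    Nat.card W ≤ Nat.card ↥(D ⊓ centralizer (T : Set G)) := by
  classical
  letI : CommGroup U := { (inferInstance : Group U) with mul_comm := fun a b => Subtype.ext (hUc a a.2 b b.2) }
  set K' : Subgroup T := K.subgroupOf T with hK'
  letI : Fintype (T ⧸ K') := Fintype.ofFinite _
  let act : T → U →* U := fun t =>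
    { toFun := fun u => ⟨t * u * (t : G)⁻¹, conj_mem' hTU t.2 u.2⟩
      map_one' := by ext; simp
      map_mul' := fun a b => by ext; simp }
  have hact : ∀ (t : T) (u : U), ((act t u : U) : G) = t * u * (t : G)⁻¹ := fun _ _ => rfl
  have hact_mul : ∀ (t t' : T) (u : U), act t (act t' u) = act (t * t') u := fun t t' u => by
    ext; simp only [hact, Subgroup.coe_mul]; group
  have hfixK : ∀ (t k : T) (v : U), (v : G) ∈ W → k ∈ K' → act (t * k) v = act t v := fun t k v hv hk => by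
    ext
    have h1 := hWK k (mem_subgroupOf.1 hk) v hv
    simp only [hact, Subgroup.coe_mul]
    have e1 : (t : G) * k * v * ((t : G) * k)⁻¹ = t * (k * v * (k : G)⁻¹) * (t : G)⁻¹ := by group
    rw [e1, h1, mul_inv_cancel_right]
  let f : U →* U :=
    { toFun := fun v => ∏ q : T ⧸ K', act q.out v
      map_one' := by simp
      map_mul' := fun a b => by simp [Finset.prod_mul_distrib] }
  have hf : ∀ v : U, f v = ∏ q : T ⧸ K', act q.out v := fun _ => rfl
  have hinv : ∀ (t : T) (v : U), (v : G) ∈ W → act t (f v) = f v := by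
    intro t v hv
    rw [hf, map_prod]
    have h1 : ∀ q : T ⧸ K', act t (act q.out v) = act (t • q).out v := by
      intro q
      rw [hact_mul]
      have h2 : (QuotientGroup.mk (t * q.out) : T ⧸ K') = t • q := by
        conv_rhs => rw [← QuotientGroup.out_eq' q]
        rfl
      obtain ⟨k, hk⟩ := QuotientGroup.mk_out_eq_mul K' (t * q.out)
      rw [← h2, hk]
      exact (hfixK _ _ _ hv k.2).symm
    simp only [h1]
    exact Equiv.prod_comp (MulAction.toPerm t) fun q : T ⧸ K' => act q.out v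
  set q0 : T ⧸ K' := QuotientGroup.mk 1 with hq0
  have hsplit : ∀ v : U, (v : G) ∈ W → f v = v * ∏ q ∈ Finset.univ.erase q0, act q.out v := by
    intro v hv
    rw [hf, ← Finset.mul_prod_erase _ _ (Finset.mem_univ q0)]
    congr 1
    obtain ⟨k, hk⟩ := QuotientGroup.mk_out_eq_mul K' (1 : T)
    rw [hq0, hk, hfixK _ _ _ hv k.2]
    ext
    simp [hact]
  have hrest : ∀ v : U, (v : G) ∈ W → ((∏ q ∈ Finset.univ.erase q0, act q.out v : U) : G) ∈ R := by
    intro v hv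
    have h1 : (∏ q ∈ Finset.univ.erase q0, act q.out v : U) ∈ R.subgroupOf U := by
      refine Subgroup.prod_mem _ fun q hq => ?_
      rw [mem_subgroupOf]
      refine hcj q.out (q.out).2 (fun h0 => (Finset.mem_erase.1 hq).1 ?_) ⟨v, hWX hv, rfl⟩
      rw [hq0, ← QuotientGroup.out_eq' q]
      refine QuotientGroup.eq.2 ?_
      rw [mul_one]
      exact inv_mem (mem_subgroupOf.2 h0)
    exact mem_subgroupOf.1 h1
  let g : W → ↥(D ⊓ centralizer (T : Set G)) := fun w =>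
    ⟨(f ⟨w, hX (hWX w.2)⟩ : U), by
      have hw : ((⟨w, hX (hWX w.2)⟩ : U) : G) ∈ W := w.2
      refine ⟨?_, mem_centralizer_iff.2 fun t ht => ?_⟩
      · rw [hsplit _ hw]
        exact mul_mem (hXD (hWX w.2)) (hRD (hrest _ hw))
      · have h1 := congrArg Subtype.val (hinv ⟨t, ht⟩ _ hw)
        rw [hact] at h1
        have e1 : t * ((f ⟨w, hX (hWX w.2)⟩ : U) : G) =
            (t * ((f ⟨w, hX (hWX w.2)⟩ : U) : G) * t⁻¹) * t := by group
        rw [e1]
        exact congrArg (· * t) h1⟩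
  refine Nat.card_le_card_of_injective g fun w w' hww => ?_
  have h0 : ((f ⟨w, hX (hWX w.2)⟩ : U) : G) = ((f ⟨w', hX (hWX w'.2)⟩ : U) : G) :=
    congrArg (fun x : ↥(D ⊓ centralizer (T : Set G)) => (x : G)) hww
  have h1 : f ⟨w, hX (hWX w.2)⟩ = f ⟨w', hX (hWX w'.2)⟩ := Subtype.ext h0
  have hd : ((⟨w, hX (hWX w.2)⟩ * ⟨w', hX (hWX w'.2)⟩⁻¹ : U) : G) ∈ W := mul_mem w.2 (inv_mem w'.2)
  have h2 : f (⟨w, hX (hWX w.2)⟩ * ⟨w', hX (hWX w'.2)⟩⁻¹) = 1 := by
    rw [map_mul, map_inv, h1, mul_inv_cancel]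
  have h3 := hrest _ hd
  rw [hsplit _ hd] at h2
  have h4 := congrArg Subtype.val (eq_inv_of_mul_eq_one_left h2)
  have h5 : ((⟨w, hX (hWX w.2)⟩ * ⟨w', hX (hWX w'.2)⟩⁻¹ : U) : G) ∈ X ⊓ R := by
    refine mem_inf.2 ⟨hWX hd, ?_⟩
    rw [h4]
    exact inv_mem h3
  rw [hXR, mem_bot] at h5
  exact Subtype.ext (mul_inv_eq_one.1 h5)

namespace SitC

variable (s : SitC H U T Q N Z Λ P Y)
include s

theorem U_mul {x y : G} (hx : x ∈ U) (hy : y ∈ U) : x * y = y * x := mem_centralizer_iff.1 (s.Uc hy) x hx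

theorem ZU : Z ≤ U := s.ZN.trans s.NU

theorem PU : P ≤ normalizer (U : Set G) := s.PH.trans s.HU

theorem TU : T ≤ normalizer (U : Set G) := s.TH.trans s.HU

open Sit (Act)

omit s in
/-- without over-offenders `|E : C_E(U)| = |U : C_U(E)|` -/
theorem idx (s : SitC H U T Q N Z Λ P Y) (no : NoOverM U H) (m : MaxMin U H E) :
    (centralizer (U : Set G)).relIndex E = (centralizer (E : Set G)).relIndex U :=
  le_antisymm (FFThm.relIndex_le_iff.1 (no E m.le m.elem)) (m.off s.Uc le_rfl)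

theorem act (hE : E ≤ T) (m : MaxMin U H E) (hne : ¬ E ≤ centralizer (N : Set G)) : Act H U T N Z E := by
  have hEN : ElemM N E := ⟨fun a ha => centralizer_le s.NU (m.elem.sq a ha),
    fun a ha b hb => centralizer_le s.NU (m.elem.comm a ha b hb)⟩
  have hno := s.noN E hE hEN hne
  obtain ⟨no, mo⟩ := m.minOff s.HU s.NU hno hne
  have hcut := mo.cut s.NU hno hne
  have hoff : OffM N E := ⟨hEN, hne, FFThm.relIndex_le_iff.2 (m.off s.Uc s.NU)⟩
  obtain ⟨hcz, hcom, hmin⟩ := s.lineN E hE hoff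
  have i0 := s.idx no m
  have i1 : (centralizer (N : Set G)).relIndex E ≤ (centralizer (E : Set G)).relIndex N :=
    FFThm.relIndex_le_iff.1 hno
  have e1 : (centralizer (N : Set G)).relIndex E = (centralizer (U : Set G)).relIndex E := by
    rw [← inf_relIndex_right, ← inf_relIndex_right (centralizer (U : Set G))]
    congr 1
    refine le_antisymm (le_inf ?_ inf_le_right) (inf_le_inf_right _ (centralizer_le s.NU))
    rw [inf_comm]
    exact hcut
  have i2 : (centralizer (E : Set G)).relIndex U ≤ (centralizer (E : Set G)).relIndex N := by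
    rw [← i0, ← e1]
    exact i1
  set K := U ⊓ centralizer (E : Set G) with hK
  have hcom' : ∀ x ∈ N, ∀ y ∈ K, x * y = y * x := fun x hx y hy => s.U_mul (s.NU hx) hy.1
  have e2 : N ⊓ K = N ⊓ centralizer (E : Set G) := by
    rw [hK, ← inf_assoc, inf_eq_left.2 s.NU]
  have c1 := card_sup_comm hcom'
  rw [e2] at c1
  have c2 := relIndex_mul_card N (centralizer (E : Set G))
  have c3 := relIndex_mul_card U (centralizer (E : Set G))
  have hsup : N ⊔ K = U := by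
    refine Subgroup.eq_of_le_of_card_ge (sup_le s.NU inf_le_left) ?_
    have p1 : 0 < Nat.card ↥(N ⊓ centralizer (E : Set G)) := Nat.card_pos
    refine Nat.le_of_mul_le_mul_right (c := Nat.card ↥(N ⊓ centralizer (E : Set G))) ?_ p1
    calc Nat.card U * Nat.card ↥(N ⊓ centralizer (E : Set G))
        = (centralizer (E : Set G)).relIndex U * (Nat.card K * Nat.card ↥(N ⊓ centralizer (E : Set G))) := by
          rw [← c3, ← hK]; ring
      _ ≤ (centralizer (E : Set G)).relIndex N * (Nat.card K * Nat.card ↥(N ⊓ centralizer (E : Set G))) :=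
          Nat.mul_le_mul_right _ i2
      _ = Nat.card N * Nat.card K := by rw [← c2]; ring
      _ = _ := c1.symm
  refine ⟨hoff, hcz, fun e he u hu => ?_, fun Z' hZ' => hmin Z' fun e he n hn => hZ' e he n (s.NU hn), no⟩
  obtain ⟨n, hn, c, hc, rfl⟩ := mem_sup_comm hcom' (hsup ▸ hu : u ∈ N ⊔ K)
  have h1 := mem_centralizer_iff.1 hc.2 e he
  have e3 : e * (n * c) * e⁻¹ * (n * c)⁻¹ = e * n * (c * e⁻¹ * c⁻¹) * n⁻¹ := by group
  have e4 : c * e⁻¹ * c⁻¹ = e⁻¹ := by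
    have h2 := mem_centralizer_iff.1 hc.2 e⁻¹ (inv_mem he)
    rw [← h2]
    group
  rw [e3, e4]
  exact hcom e he n hn

section active

variable (hE : E ≤ T) (m : MaxMin U H E) (a : Act H U T N Z E)
include hE m a

omit m in
theorem LP : cl E P ≤ P := cl_le fun p hp => by
  have h1 := cj_mono p (hE.trans s.TP)
  rwa [cj_eq_of_mem_normalizer (le_normalizer hp)] at h1

omit m in
theorem LU : CommIn (cl E P) U N := by
  have h1 : cl E P ≤ kmod P U N s.PU s.PN := cl_le fun p hp => by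
    have h2 : E ≤ kmod P U N s.PU s.PN := fun e he =>
      mem_kmod.2 ⟨s.TP (hE he), fun u hu => s.ZN (a.com e he u hu)⟩
    have h3 := cj_mono p h2
    rwa [cj_eq_of_mem_normalizer (norm_kmod s.PU s.PN hp)] at h3
  exact fun e he u hu => (mem_kmod.1 (h1 he)).2 u hu

omit m in
theorem cent : N ⊓ centralizer ((cl E P : Subgroup G) : Set G) = ⊥ := by
  refine (s.irrN E hE a.off _ inf_le_left ?_).resolve_right fun h0 => a.off.ne ?_
  · refine le_normalizer_of_forall fun g hg x hx => ?_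
    have h1 := mem_centralizer_iff.1 hx.2 g hg
    have e : g * x * g⁻¹ = x := by rw [h1, mul_inv_cancel_right]
    rwa [e]
  · exact (le_cl E P).trans (cent_symm (inf_eq_left.1 h0))

omit m in
theorem cent' {x : G} (hx : x ∈ N) (hxL : x ∈ centralizer ((cl E P : Subgroup G) : Set G)) : x = 1 := by
  have h1 : x ∈ N ⊓ centralizer ((cl E P : Subgroup G) : Set G) := ⟨hx, hxL⟩
  rw [s.cent hE a] at h1
  exact mem_bot.1 h1

/-- (i1) `[E, Q] ≤ C(U)` -/
theorem comm_EQ {e c : G} (he : e ∈ E) (hc : c ∈ Q) : e * c * e⁻¹ * c⁻¹ ∈ centralizer (U : Set G) := by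
  classical
  by_contra hcon
  set t := e * c * e⁻¹ * c⁻¹ with ht
  have hEU : E ≤ normalizer (U : Set G) := hE.trans s.TU
  have hQU : Q ≤ normalizer (U : Set G) := s.QT.trans s.TU
  have heQ : e * c * e⁻¹ ∈ Q := conj_mem' (hE.trans (s.TP.trans s.PQ)) he hc
  have htQ : t ∈ Q := mul_mem heQ (inv_mem hc)
  -- `[t, U] ≤ Z`
  have htZ : ∀ u ∈ U, t * u * t⁻¹ * u⁻¹ ∈ Z := by
    intro u hu
    have hv : c⁻¹ * u * c ∈ U := by
      have h1 := conj_mem' hQU (inv_mem hc) hu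
      rwa [inv_inv] at h1
    set v := c⁻¹ * u * c with hvd
    have hd : e⁻¹ * v * e⁻¹⁻¹ * v⁻¹ ∈ Z := a.com _ (inv_mem he) v hv
    set d := e⁻¹ * v * e⁻¹⁻¹ * v⁻¹ with hdd
    have hcd : c * d * c⁻¹ = d := by
      have h1 := mem_centralizer_iff.1 (s.QN hc) d (s.ZN hd)
      rw [← h1, mul_inv_cancel_right]
    have hed : e * d * e⁻¹ = d := by
      have h1 : d ∈ N ⊓ centralizer (E : Set G) := by rw [a.cz]; exact hd
      have h2 := mem_centralizer_iff.1 h1.2 e he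
      rw [h2, mul_inv_cancel_right]
    have h1 : t * u * t⁻¹ = (e * d * e⁻¹) * (e * u * e⁻¹ * u⁻¹) * u := by
      have e1 : t * u * t⁻¹ = e * (c * (d * v) * c⁻¹) * e⁻¹ := by
        rw [ht, hdd, hvd]; group
      have e2 : c * (d * v) * c⁻¹ = (c * d * c⁻¹) * u := by rw [hvd]; group
      rw [e1, e2, hcd]
      group
    rw [h1, hed, mul_inv_cancel_right]
    exact mul_mem hd (a.com e he u hu)
  obtain ⟨u0, hu0, hu0'⟩ : ∃ u0 ∈ U, t * u0 * t⁻¹ * u0⁻¹ ≠ 1 := by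
    by_contra hcon'
    push Not at hcon'
    refine hcon (mem_centralizer_iff.2 fun u hu => ?_)
    have h1 := hcon' u hu
    have e1 : t * u = (t * u * t⁻¹ * u⁻¹) * u * t := by group
    rw [e1, h1, one_mul]
  set A := cl (zpowers t) (cl E P) with hA
  have hLP := s.LP hE a
  have htA : t ∈ A := le_cl _ _ (mem_zpowers t)
  have hAQ : A ≤ Q := cl_le fun l hl => by
    have h1 := cj_mono l (zpowers_le.2 htQ)
    rwa [cj_eq_of_mem_normalizer (s.PQ (hLP hl))] at h1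
  have hAN : A ≤ centralizer (N : Set G) := hAQ.trans s.QN
  have hAP : A ≤ P := hAQ.trans (s.QT.trans s.TP)
  have hAH : A ≤ H := hAP.trans s.PH
  have hAU : CommIn A U N := by
    have h1 : A ≤ kmod P U N s.PU s.PN := cl_le fun l hl => by
      have h2 : zpowers t ≤ kmod P U N s.PU s.PN := zpowers_le.2
        (mem_kmod.2 ⟨s.TP (s.QT htQ), fun u hu => s.ZN (htZ u hu)⟩)
      have h3 := cj_mono l h2
      rwa [cj_eq_of_mem_normalizer (norm_kmod s.PU s.PN (hLP hl))] at h3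
    exact fun e he u hu => (mem_kmod.1 (h1 he)).2 u hu
  have hel : ElemM U A := elemM_of_quad s.Us (fun _ hu _ hv => s.U_mul hu hv) fun b hb u hu =>
    ⟨s.NU (hAU b hb u hu), cent_symm hAN (hAU b hb u hu)⟩
  have hLA : cl E P ≤ normalizer (A : Set G) := le_normalizer_cl _ _
  have hLN : cl E P ≤ normalizer (N : Set G) := hLP.trans s.PN
  have hLU := s.LU hE a
  -- `[A, u0] = N`
  let K : Subgroup G :=
    { carrier := {w | ∃ b ∈ A, b * u0 * b⁻¹ * u0⁻¹ = w}
      one_mem' := ⟨1, one_mem _, by group⟩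
      mul_mem' := by
        rintro _ _ ⟨b, hb, rfl⟩ ⟨b', hb', rfl⟩
        refine ⟨b * b', mul_mem hb hb', ?_⟩
        have h1 := mem_centralizer_iff.1 (hAN hb) _ (hAU b' hb' u0 hu0)
        have e1 : b * b' * u0 * (b * b')⁻¹ * u0⁻¹ = b * (b' * u0 * b'⁻¹ * u0⁻¹) * (u0 * b⁻¹ * u0⁻¹) := by group
        rw [e1, ← h1]
        have e2 : b' * u0 * b'⁻¹ * u0⁻¹ * b * (u0 * b⁻¹ * u0⁻¹) =
            (b' * u0 * b'⁻¹ * u0⁻¹) * (b * u0 * b⁻¹ * u0⁻¹) := by group
        rw [e2]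
        exact s.U_mul (s.NU (hAU b' hb' u0 hu0)) (s.NU (hAU b hb u0 hu0))
      inv_mem' := by
        rintro _ ⟨b, hb, rfl⟩
        refine ⟨b⁻¹, inv_mem hb, ?_⟩
        have h1 := mem_centralizer_iff.1 (hAN (inv_mem hb)) _ (inv_mem (hAU b hb u0 hu0))
        have e1 : b⁻¹ * u0 * b⁻¹⁻¹ * u0⁻¹ = b⁻¹ * (b * u0 * b⁻¹ * u0⁻¹)⁻¹ * b := by group
        rw [e1, ← h1, inv_mul_cancel_right] }
  have hKN : K ≤ N := by
    rintro _ ⟨b, hb, rfl⟩
    exact hAU b hb u0 hu0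
  have hKL : cl E P ≤ normalizer (K : Set G) := by
    refine le_normalizer_of_forall fun l hl x hx => ?_
    obtain ⟨b, hb, rfl⟩ := hx
    have hlb : l * b * l⁻¹ ∈ A := conj_mem' hLA hl hb
    refine ⟨l * b * l⁻¹, hlb, ?_⟩
    have hn : l⁻¹ * u0 * l⁻¹⁻¹ * u0⁻¹ ∈ N := hLU _ (inv_mem hl) u0 hu0
    set n := l⁻¹ * u0 * l⁻¹⁻¹ * u0⁻¹ with hnd
    have h1 := mem_centralizer_iff.1 (hAN hb) n hn
    have e1 : l * b * l⁻¹ * u0 * (l * b * l⁻¹)⁻¹ * u0⁻¹ =
        l * (b * n * (u0 * b⁻¹ * u0⁻¹) * n⁻¹) * l⁻¹ := by rw [hnd]; group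
    rw [e1, ← h1]
    have e2 : n * b * (u0 * b⁻¹ * u0⁻¹) * n⁻¹ = n * (b * u0 * b⁻¹ * u0⁻¹) * n⁻¹ := by group
    rw [e2, s.U_mul (s.NU hn) (s.NU (hAU b hb u0 hu0)), mul_inv_cancel_right]
  have hKe : K = N := (s.irrN E hE a.off K hKN hKL).resolve_left fun h0 => hu0' (by
    have h1 : t * u0 * t⁻¹ * u0⁻¹ ∈ K := ⟨t, htA, rfl⟩
    rw [h0] at h1
    exact mem_bot.1 h1)
  have hsur : ∀ n ∈ N, ∃ b ∈ A, b * u0 * b⁻¹ * u0⁻¹ = n := fun n hn => by
    rw [← hKe] at hn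
    exact hn
  have j1 : Nat.card N ≤ (centralizer (U : Set G)).relIndex A := by
    rw [← relIndex_bot_left N]
    refine relIndex_le_of_map (fun n => if h : n ∈ N then (hsur n h).choose else 1) (fun n hn => ?_) ?_
    · simp only [dif_pos hn]
      exact (hsur n hn).choose_spec.1
    · intro n hn n' hn' hnn
      simp only [dif_pos hn, dif_pos hn'] at hnn
      have h1 := (hsur n hn).choose_spec.2
      have h2 := (hsur n' hn').choose_spec.2
      set b := (hsur n hn).choose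
      set b' := (hsur n' hn').choose
      have h3 := mem_centralizer_iff.1 hnn u0 hu0
      have e1 : b' * u0 * b'⁻¹ * u0⁻¹ = b * u0 * b⁻¹ * u0⁻¹ := by
        have e2 : b' * u0 * b'⁻¹ = b * (b⁻¹ * b' * u0 * (b⁻¹ * b')⁻¹) * b⁻¹ := by group
        rw [e2, ← h3, mul_inv_cancel_right]
      rw [← h1, ← h2, e1, inv_mul_cancel]
      exact one_mem _
  have j2 : (centralizer (U : Set G)).relIndex A ≤ (centralizer (A : Set G)).relIndex U :=
    FFThm.relIndex_le_iff.1 (a.no A hAH hel)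
  have j3 : (centralizer (A : Set G)).relIndex U ≤ Nat.card Z := by
    rw [← relIndex_bot_left Z]
    refine relIndex_le_of_map (fun u => t * u * t⁻¹ * u⁻¹) (fun u hu => htZ u hu) ?_
    intro u hu u' hu' huu
    rw [mem_bot, inv_mul_eq_one] at huu
    have hw : u⁻¹ * u' ∈ U := mul_mem (inv_mem hu) hu'
    have htw : t * (u⁻¹ * u') = u⁻¹ * u' * t := by
      have e1 : t * (u⁻¹ * u') * t⁻¹ = (t * u * t⁻¹)⁻¹ * (t * u' * t⁻¹) := by group
      have e2 : t * u * t⁻¹ = (t * u * t⁻¹ * u⁻¹) * u := by group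
      have e3 : t * u' * t⁻¹ = (t * u' * t⁻¹ * u'⁻¹) * u' := by group
      have e4 : t * (u⁻¹ * u') * t⁻¹ = u⁻¹ * u' := by
        rw [e1, e2, e3, huu]
        group
      rw [eq_comm, ← eq_mul_inv_iff_mul_eq, eq_comm]
      exact e4
    -- the elements of `U` which commute with `t` centralise `A`
    set w := u⁻¹ * u' with hwd
    have h1 : A ≤ centralizer ({w} : Set G) := cl_le fun l hl => by
      rintro _ ⟨x, hx, rfl⟩
      rw [mem_centralizer_singleton_iff]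
      change l * x * l⁻¹ * w = w * (l * x * l⁻¹)
      have h2 : x * w = w * x := by
        obtain ⟨k, rfl⟩ := mem_zpowers_iff.1 hx
        exact Commute.zpow_left htw k
      have hn : l⁻¹ * w * l⁻¹⁻¹ * w⁻¹ ∈ N := hLU _ (inv_mem hl) w hw
      have h3 := mem_centralizer_iff.1 (hAN (zpowers_le.2 htA hx)) _ hn
      have h4 : x * (l⁻¹ * w * l) = l⁻¹ * w * l * x := by
        have e1 : x * (l⁻¹ * w * l) = x * (l⁻¹ * w * l⁻¹⁻¹ * w⁻¹) * w := by group
        rw [e1, ← h3, mul_assoc, h2]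
        group
      have e2 : l * x * l⁻¹ * w = l * (x * (l⁻¹ * w * l)) * l⁻¹ := by group
      rw [e2, h4]
      group
    exact mem_centralizer_iff.2 fun b hb => mem_centralizer_singleton_iff.1 (h1 hb)
  exact absurd (j1.trans (j2.trans j3)) (not_le.2 s.card)

/-- `[L, Q] ≤ C(U)` -/
theorem comm_LQ {l c : G} (hl : l ∈ cl E P) (hc : c ∈ Q) : l * c * l⁻¹ * c⁻¹ ∈ centralizer (U : Set G) := by
  have hPC : P ≤ normalizer (centralizer (U : Set G) : Set G) := by
    refine le_normalizer_of_forall fun g hg x hx => ?_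
    rw [mem_centralizer_iff]
    intro u hu
    have h1 : g⁻¹ * u * g ∈ U := by
      have h2 := conj_mem' s.PU (inv_mem hg) hu
      rwa [inv_inv] at h2
    have h2 := mem_centralizer_iff.1 hx _ h1
    have e1 : u * (g * x * g⁻¹) = g * (g⁻¹ * u * g * x) * g⁻¹ := by group
    rw [e1, h2]
    group
  have h1 : cl E P ≤ kmod P Q (centralizer (U : Set G)) s.PQ hPC := cl_le fun p hp => by
    have h2 : E ≤ kmod P Q (centralizer (U : Set G)) s.PQ hPC := fun e he =>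
      mem_kmod.2 ⟨s.TP (hE he), fun c hc => s.comm_EQ hE m a he hc⟩
    have h3 := cj_mono p h2
    rwa [cj_eq_of_mem_normalizer (norm_kmod s.PQ hPC hp)] at h3
  exact (mem_kmod.1 (h1 hl)).2 c hc

/-- (i1) `[U, Q] ≤ C_U(L)` -/
theorem comm_UQ {u c : G} (hu : u ∈ U) (hc : c ∈ Q) :
    c * u * c⁻¹ * u⁻¹ ∈ centralizer ((cl E P : Subgroup G) : Set G) := by
  rw [mem_centralizer_iff]
  intro l hl
  have hn : l * u * l⁻¹ * u⁻¹ ∈ N := s.LU hE a l hl u hu
  set n := l * u * l⁻¹ * u⁻¹ with hnd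
  have hk := s.comm_LQ hE m a hl hc
  set k := l * c * l⁻¹ * c⁻¹ with hkd
  have hcU : c ∈ normalizer (U : Set G) := s.TU (s.QT hc)
  have hcu : c * u * c⁻¹ ∈ U := conj_mem' (le_refl (normalizer (U : Set G))) hcU hu
  have h1 := mem_centralizer_iff.1 (s.QN hc) n hn
  have h2 := mem_centralizer_iff.1 hk _ hcu
  have e1 : l * (c * u * c⁻¹ * u⁻¹) * l⁻¹ = k * (c * (n * u) * c⁻¹) * k⁻¹ * (n * u)⁻¹ := by
    rw [hkd, hnd]; group
  have e2 : c * (n * u) * c⁻¹ = n * (c * u * c⁻¹) := by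
    have e3 : c * (n * u) * c⁻¹ = (c * n) * u * c⁻¹ := by group
    rw [e3, ← h1]
    group
  have h3 := mem_centralizer_iff.1 hk _ (mul_mem (s.NU hn) hcu)
  have e4 : l * (c * u * c⁻¹ * u⁻¹) * l⁻¹ = c * u * c⁻¹ * u⁻¹ := by
    rw [e1, e2, ← h3, mul_inv_cancel_right, mul_inv_rev]
    have e5 : n * (c * u * c⁻¹) * (u⁻¹ * n⁻¹) = n * (c * u * c⁻¹ * u⁻¹) * n⁻¹ := by group
    rw [e5, s.U_mul (s.NU hn) (mul_mem hcu (inv_mem hu)), mul_inv_cancel_right]
  have e6 : l * (c * u * c⁻¹ * u⁻¹) = (l * (c * u * c⁻¹ * u⁻¹) * l⁻¹) * l := by group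
  rw [e6, e4]

/-- (i2) `E ≤ O₂(Y)` -/
theorem le_o2Y : E ≤ o2 Y := by
  by_contra hcon
  obtain ⟨c, hc, u, hu, h1, h2⟩ := s.oneY E hE m hcon a.com a.min
  exact h2 (s.cent' hE a (s.ZN h1) (s.comm_UQ hE m a hu hc))

/-- (i3) `Z^y = Z` or `Z^y ≤ C_U(L)` -/
theorem conj_Z {y : G} (hy : y ∈ Y) : cj y Z = Z ∨ cj y Z ≤ centralizer ((cl E P : Subgroup G) : Set G) := by
  have hyH := s.YH hy
  have hyU := s.HU hyH
  have hEo : cj y E ≤ o2 Y := by
    have h1 := cj_mono y (s.le_o2Y hE m a)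
    rwa [cj_eq_of_mem_normalizer (MinSimple.VModule.le_normalizer_o2 Y hy)] at h1
  have hET : cj y E ≤ T := hEo.trans s.oY
  have m' : MaxMin U H (cj y E) := m.cj hyH s.HU
  have hcZ : CommIn (cj y E) U (cj y Z) := a.com.cj hyU
  have hmZ : ∀ Z' : Subgroup G, CommIn (cj y E) U Z' → cj y Z ≤ Z' := fun Z' hZ' => by
    have h1 := hZ'.cj (inv_mem hyU)
    rw [cj_inv_cj] at h1
    have h2 := cj_mono y (a.min _ h1)
    rwa [cj_cj_inv] at h2
  by_cases hne : cj y E ≤ centralizer (N : Set G)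
  · right
    set E' := cj y E with hE'
    set Z' := cj y Z with hZ'
    have hcU : cj y U = U := cj_eq_of_mem_normalizer hyU
    have hZZ : Z ≤ centralizer (E : Set G) := by
      have h1 : N ⊓ centralizer (E : Set G) ≤ centralizer (E : Set G) := inf_le_right
      rwa [a.cz] at h1
    have hZ'U : Z' ≤ U := by
      have h1 := cj_mono y s.ZU
      rwa [hcU] at h1
    set C' := U ⊓ centralizer (E' : Set G) with hC'
    have hNC : N ≤ C' := le_inf s.NU (cent_symm hne)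
    have hZ'C : Z' ≤ C' := le_inf hZ'U (cj_cent hZZ)
    have hL := s.LP hE a
    have hLU := s.LU hE a
    have hLC : cl E P ≤ normalizer (C' : Set G) := by
      refine le_normalizer_of_forall fun l hl x hx => ?_
      have h1 := mul_mem (hNC (hLU l hl x hx.1)) hx
      rwa [inv_mul_cancel_right] at h1
    set A := cl E' (cl E P) with hA
    have hE'A : E' ≤ A := le_cl _ _
    have hLA : cl E P ≤ normalizer (A : Set G) := le_normalizer_cl _ _
    have hAT : A ≤ T ⊓ centralizer (N : Set G) := cl_le fun l hl => by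
      have h1 := cj_mono l (le_inf hET hne : E' ≤ T ⊓ centralizer (N : Set G))
      rwa [cj_eq_of_mem_normalizer (s.PC (hL hl))] at h1
    have hAH : A ≤ H := hAT.trans (inf_le_left.trans s.TH)
    have hAC : A ≤ centralizer (C' : Set G) := cl_le fun l hl => by
      have h1 : cj l E' ≤ centralizer ((cj l C' : Subgroup G) : Set G) := cj_cent (cent_symm inf_le_right)
      rwa [cj_of_le hLC hl] at h1
    have hAU : CommIn A U C' := by
      have hM : centralizer (C' : Set G) ⊓ normalizer (U : Set G) ≤ normalizer (C' : Set G) := fun g hg =>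
        centralizer_le_normalizer _ hg.1
      have h1 : A ≤ kmod (centralizer (C' : Set G) ⊓ normalizer (U : Set G)) U C' inf_le_right hM :=
        cl_le fun l hl => by
          intro x hx
          have h2 : x ∈ A := cj_le_cl hl hx
          refine mem_kmod.2 ⟨⟨hAC h2, s.HU (hAH h2)⟩, fun u hu => ?_⟩
          have h3 := (hcZ.cj (s.PU (hL hl))) x hx u hu
          have h4 := cj_mono l hZ'C
          rw [cj_of_le hLC hl] at h4
          exact h4 h3
      exact fun e he u hu => (mem_kmod.1 (h1 he)).2 u hu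
    have hel : ElemM U A := elemM_of_quad s.Us (fun _ hu _ hv => s.U_mul hu hv) fun b hb u hu =>
      ⟨(hAU b hb u hu).1, cent_symm hAC (hAU b hb u hu)⟩
    have i1 := s.idx a.no m'
    have i2 : (centralizer (U : Set G)).relIndex A ≤ (centralizer (A : Set G)).relIndex U :=
      FFThm.relIndex_le_iff.1 (a.no A hAH hel)
    have i3 : (centralizer (A : Set G)).relIndex U ≤ (centralizer (E' : Set G)).relIndex U := by
      rw [← inf_relIndex_left U (centralizer (E' : Set G)), ← hC']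
      exact relIndex_le_of_le_left (cent_symm hAC) index_ne_zero_of_finite
    -- `A = E'^l C_A(U)`
    have hfac : ∀ l ∈ cl E P, ∀ g ∈ A, ∃ e1 ∈ cj l E', ∃ c ∈ centralizer (U : Set G), g = e1 * c := by
      intro l hl g hg
      have hE1A : cj l E' ≤ A := cj_le_cl hl
      have hn : cj l E' ≤ normalizer ((A ⊓ centralizer (U : Set G) : Subgroup G) : Set G) := by
        refine le_normalizer_of_forall fun x hx w hw => mem_inf.2 ⟨?_, ?_⟩
        · exact mul_mem (mul_mem (hE1A hx) hw.1) (inv_mem (hE1A hx))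
        · rw [mem_centralizer_iff]
          intro u hu
          have hxU : x ∈ normalizer (U : Set G) := s.HU (hAH (hE1A hx))
          have h1 : x⁻¹ * u * x ∈ U := by
            have h2 := conj_mem' (le_refl (normalizer (U : Set G))) (inv_mem hxU) hu
            rwa [inv_inv] at h2
          have h2 := mem_centralizer_iff.1 hw.2 _ h1
          have e1 : u * (x * w * x⁻¹) = x * (x⁻¹ * u * x * w) * x⁻¹ := by group
          rw [e1, h2]
          group
      set M := cj l E' ⊔ (A ⊓ centralizer (U : Set G)) with hM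
      have hMA : M ≤ A := sup_le hE1A inf_le_left
      have k1 := relIndex_mul_of (H := centralizer (U : Set G)) (M := M) (L := A) le_sup_right hMA
      have k2 : (centralizer (U : Set G)).relIndex (cj l E') = (centralizer (U : Set G)).relIndex E' := by
        have h1 := (fM_cj (V := U) (A := E') (s.PU (hL hl))).2
        exact h1
      have k3 : (centralizer (U : Set G)).relIndex (cj l E') ≤ (centralizer (U : Set G)).relIndex M :=
        relIndex_le_of_le_right le_sup_left index_ne_zero_of_finite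
      have k4 : M.relIndex A = 1 := by
        have p0 : 0 < (centralizer (U : Set G)).relIndex M := Nat.pos_of_ne_zero index_ne_zero_of_finite
        have p1 : 0 < M.relIndex A := Nat.pos_of_ne_zero index_ne_zero_of_finite
        have h1 : (centralizer (U : Set G)).relIndex M * M.relIndex A ≤ (centralizer (U : Set G)).relIndex M * 1 := by
          rw [k1, mul_one]
          exact (i2.trans i3).trans (i1 ▸ k2 ▸ k3)
        exact le_antisymm (Nat.le_of_mul_le_mul_left h1 p0) p1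
      have h1 := relIndex_eq_one.1 k4 hg
      obtain ⟨e1, he1, c, hc, rfl⟩ := mem_sup_norm hn h1
      exact ⟨e1, he1, c, hc.2, rfl⟩
    -- `L` normalises `Z'`
    have hLZ : cl E P ≤ normalizer (Z' : Set G) := by
      intro l hl
      have h1 : CommIn E' U (cj l⁻¹ Z') := by
        intro e he u hu
        obtain ⟨e1, he1, c, hc, rfl⟩ := hfac l⁻¹ (inv_mem hl) e (hE'A he)
        have h2 := mem_centralizer_iff.1 hc u hu
        have e2 : e1 * c * u * (e1 * c)⁻¹ * u⁻¹ = e1 * u * e1⁻¹ * u⁻¹ := by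
          have e3 : e1 * c * u * (e1 * c)⁻¹ * u⁻¹ = e1 * (c * u) * c⁻¹ * e1⁻¹ * u⁻¹ := by group
          rw [e3, ← h2]
          group
        rw [e2]
        exact (hcZ.cj (s.PU (hL (inv_mem hl)))) e1 he1 u hu
      have h2 := cj_mono l (hmZ _ h1)
      rw [cj_cj_inv] at h2
      exact mem_normalizer_of_cj_le h2
    have hK : Z' ⊓ N = ⊥ := by
      refine (s.irrN E hE a.off _ inf_le_right ?_).resolve_right fun h0 => ?_
      · refine le_normalizer_of_forall fun l hl x hx => ⟨conj_mem' hLZ hl hx.1, conj_mem' (hL.trans s.PN) hl hx.2⟩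
      · have h1 := Subgroup.card_le_of_le (inf_eq_right.1 h0)
        rw [hZ', card_cj] at h1
        exact absurd h1 (not_le.2 s.card)
    intro x hx
    rw [mem_centralizer_iff]
    intro l hl
    have h1 : l * x * l⁻¹ * x⁻¹ ∈ Z' ⊓ N := mem_inf.2 ⟨mul_mem (conj_mem' hLZ hl hx) (inv_mem hx), hLU l hl x (hZ'U hx)⟩
    rw [hK, mem_bot] at h1
    have e1 : l * x = (l * x * l⁻¹ * x⁻¹) * x * l := by group
    rw [e1, h1, one_mul]
  · left
    have a' := s.act hET m' hne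
    exact le_antisymm (hmZ _ a'.com) (a'.min _ hcZ)

end active

/-- **(i)** : no maximal offender of least rank moves `N`. -/
theorem false_of (hE : E ≤ T) (m : MaxMin U H E) (hne : ¬ E ≤ centralizer (N : Set G)) : False := by
  classical
  have a := s.act hE m hne
  set L := cl E P with hL
  have hLP : L ≤ P := s.LP hE a
  let 𝒟 : Set (Subgroup G) := {X | ∃ y ∈ Y, cj y Z = X}
  let Δ : Set (Subgroup G) := {X | X ∈ 𝒟 ∧ X ≠ Z}
  have hDU' : ∀ X ∈ 𝒟, X ≤ U := by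
    rintro _ ⟨y, hy, rfl⟩
    have h1 := cj_mono y s.ZU
    rwa [cj_eq_of_mem_normalizer (s.HU (s.YH hy))] at h1
  have hcj : ∀ y ∈ Y, ∀ X ∈ 𝒟, cj y X ∈ 𝒟 := by
    rintro y hy _ ⟨y', hy', rfl⟩
    exact ⟨y * y', mul_mem hy hy', (cj_cj _ _ _).symm⟩
  have hΔL : ∀ X ∈ Δ, X ≤ centralizer (L : Set G) := by
    rintro _ ⟨⟨y, hy, rfl⟩, hX⟩
    exact (s.conj_Z hE m a hy).resolve_left hX
  have hDL : sSup Δ ≤ centralizer (L : Set G) := sSup_le hΔL
  have hDU : sSup Δ ≤ U := sSup_le fun X hX => hDU' X hX.1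
  have hcs : ∀ (Γ : Set (Subgroup G)) (g : G) (B : Subgroup G), (∀ X ∈ Γ, cj g X ≤ B) → cj g (sSup Γ) ≤ B := by
    intro Γ g B h
    rw [cj_le_iff]
    exact sSup_le fun X hX => cj_le_iff.1 (h X hX)
  -- `X ∩ ⟨the others⟩ = 1`
  have hind : ∀ y ∈ Y, cj y Z ⊓ sSup {X | X ∈ 𝒟 ∧ X ≠ cj y Z} = ⊥ := by
    intro y hy
    rw [eq_bot_iff]
    rintro x ⟨hx, hx'⟩
    have h1 : y⁻¹ * x * y ∈ Z := mem_cj.1 hx
    have h2 : cj y⁻¹ (sSup {X | X ∈ 𝒟 ∧ X ≠ cj y Z}) ≤ sSup Δ := hcs _ _ _ fun X hX =>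
      le_sSup ⟨hcj _ (inv_mem hy) X hX.1, fun h0 => hX.2 (by
        have h1 := congrArg (cj y) h0
        rw [cj_cj_inv] at h1
        exact h1)⟩
    have h3 : y⁻¹ * x * y ∈ sSup Δ := by
      refine h2 ?_
      rw [mem_cj]
      have e1 : y⁻¹⁻¹ * (y⁻¹ * x * y) * y⁻¹ = x := by group
      rwa [e1]
    have h4 := s.cent' hE a (s.ZN h1) (hDL h3)
    rw [mem_bot]
    have e1 : x = y * (y⁻¹ * x * y) * y⁻¹ := by group
    rw [e1, h4]
    group
  have hLH : L ≤ H := hLP.trans s.PH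
  -- `F₂ ≤ Λ`
  have hF : sSup Δ ⊓ centralizer (T : Set G) ≤ Λ := by
    rintro mu ⟨hmu, hmuT⟩
    have hc : ∀ x ∈ Z, ∀ w ∈ Λ, x * w = w * x := fun x hx w hw =>
      (mem_centralizer_iff.1 (s.PL (s.TP (s.UT (s.ZU hx)))) w hw).symm
    obtain ⟨x, hx, w, hw, rfl⟩ := mem_sup_comm hc (s.fix ⟨hDU hmu, hmuT⟩)
    have hx1 : x = 1 := by
      refine s.cent' hE a (s.ZN hx) (mem_centralizer_iff.2 fun l hl => ?_)
      have h1 := mem_centralizer_iff.1 (hDL hmu) l hl
      have h2 := mem_centralizer_iff.1 (s.PL (hLP hl)) w hw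
      have e1 : l * x = (l * (x * w)) * w⁻¹ := by group
      have e2 : x * w * l * w⁻¹ = x * (w * l) * w⁻¹ := by group
      rw [e1, h1, e2, h2]
      group
    rw [hx1, one_mul]
    exact hw
  -- `C_{F₂}(Y) = 1`
  have hFY : sSup Δ ⊓ centralizer (T : Set G) ⊓ centralizer (Y : Set G) = ⊥ := by
    rw [eq_bot_iff]
    rintro mu ⟨⟨hmu, -⟩, hmuY'⟩
    have hmuY : ∀ y ∈ Y, y * mu = mu * y := fun y hy => mem_centralizer_iff.1 hmuY' y hy
    rw [mem_bot]
    by_contra hmu1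
    obtain ⟨Γ, ⟨hΓ, hΓmu⟩, hmin⟩ := Set.exists_min_image {Γ : Set (Subgroup G) | Γ ⊆ Δ ∧ mu ∈ sSup Γ} Set.ncard
      (Set.toFinite _) ⟨Δ, le_rfl, hmu⟩
    have hne' : Γ.Nonempty := by
      rw [Set.nonempty_iff_ne_empty]
      rintro rfl
      rw [sSup_empty, mem_bot] at hΓmu
      exact hmu1 hΓmu
    obtain ⟨X1, hX1⟩ := hne'
    obtain ⟨y1, hy1, rfl⟩ := (hΓ hX1).1
    have hlt : (Γ \ {cj y1 Z}).ncard < Γ.ncard := Set.ncard_sdiff_singleton_lt_of_mem hX1
    refine absurd (hmin (Γ \ {cj y1 Z}) ⟨Set.sdiff_subset.trans hΓ, ?_⟩) (not_le.2 hlt)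
    have hsp : Γ = insert (cj y1 Z) (Γ \ {cj y1 Z}) := by
      rw [Set.insert_sdiff_singleton, Set.insert_eq_of_mem hX1]
    have hG1U : sSup (Γ \ {cj y1 Z}) ≤ U := (sSup_le_sSup (Set.sdiff_subset.trans hΓ)).trans hDU
    rw [hsp, sSup_insert] at hΓmu
    obtain ⟨x, hx, d, hd, hxd⟩ := mem_sup_comm (fun x hx d hd => s.U_mul (hDU' _ ⟨y1, hy1, rfl⟩ hx) (hG1U hd)) hΓmu
    have hd' : y1⁻¹ * d * y1 ∈ centralizer (L : Set G) := by
      have h1 : cj y1⁻¹ (sSup (Γ \ {cj y1 Z})) ≤ sSup Δ := hcs _ _ _ fun X hX =>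
        le_sSup ⟨hcj _ (inv_mem hy1) X (hΓ hX.1).1, fun h0 => hX.2 (by
          have h1 := congrArg (cj y1) h0
          rw [cj_cj_inv] at h1
          exact h1)⟩
      refine hDL (h1 ?_)
      rw [mem_cj]
      have e1 : y1⁻¹⁻¹ * (y1⁻¹ * d * y1) * y1⁻¹ = d := by group
      rwa [e1]
    have hx' : y1⁻¹ * x * y1 ∈ Z := mem_cj.1 hx
    have hmu' : mu = (y1⁻¹ * x * y1) * (y1⁻¹ * d * y1) := by
      have h1 := hmuY y1⁻¹ (inv_mem hy1)
      have e1 : (y1⁻¹ * x * y1) * (y1⁻¹ * d * y1) = y1⁻¹ * (x * d) * y1 := by group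
      rw [e1, ← hxd, h1, inv_mul_cancel_right]
    have hx1 : y1⁻¹ * x * y1 = 1 := by
      refine s.cent' hE a (s.ZN hx') ?_
      have h1 := mul_mem (hDL hmu) (inv_mem hd')
      rw [hmu', mul_inv_cancel_right] at h1
      exact h1
    have hx2 : x = 1 := by
      have e1 : x = y1 * (y1⁻¹ * x * y1) * y1⁻¹ := by group
      rw [e1, hx1]
      group
    rw [hxd, hx2, one_mul]
    exact hd
  refine absurd (s.cnt _ hF hFY) (not_lt.2 ?_)
  -- `|F₂| ≥ |C_Z(T)|`
  obtain ⟨y0, hy0, hy0Z⟩ := SetLike.not_le_iff_exists.1 s.mv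
  have hTNZ : Syl T (Y ⊓ normalizer (Z : Set G)) :=
    ⟨le_inf s.TY s.TZ, s.T2, fun R hR hR2 hTR => s.sylY.2.2 R (hR.trans inf_le_left) hR2 hTR⟩
  have hA : cj y0⁻¹ (T ⊓ normalizer (cj y0 Z : Set G)) ≤ Y ⊓ normalizer (Z : Set G) := by
    rw [cj_le_iff, inv_inv]
    intro t ht
    refine mem_cj.2 (mem_inf.2 ⟨mul_mem (mul_mem (inv_mem hy0) (s.TY ht.1)) hy0, ?_⟩)
    refine mem_normalizer_iff_cj.2 ?_
    have h1 := mem_normalizer_iff_cj.1 ht.2
    have h2 : cj (y0⁻¹ * t * y0) Z = cj y0⁻¹ (cj t (cj y0 Z)) := by rw [cj_cj, cj_cj]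
    rw [h2, h1, cj_inv_cj]
  have hA2 : IsPGroup 2 ↥(cj y0⁻¹ (T ⊓ normalizer (cj y0 Z : Set G))) := isPGroup_cj _ (s.T2.to_le inf_le_left)
  obtain ⟨R, hR, hAR⟩ := exists_syl hA2 hA
  obtain ⟨n, hn, hnR⟩ := syl_conj hR hTNZ
  set y := y0 * n⁻¹ with hy
  have hyY : y ∈ Y := mul_mem hy0 (inv_mem hn.1)
  have hyZ : cj y Z = cj y0 Z := by
    rw [hy, ← cj_cj, cj_eq_of_mem_normalizer (inv_mem hn.2)]
  have hyT : cj y⁻¹ (T ⊓ normalizer (cj y Z : Set G)) ≤ T := by
    rw [hyZ, hy, mul_inv_rev, inv_inv, ← cj_cj]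
    exact (cj_mono n hAR).trans hnR.le
  have hXne : cj y Z ≠ Z := fun h0 => hy0Z (mem_normalizer_iff_cj.2 (hyZ ▸ h0))
  rw [← card_cj y (Z ⊓ centralizer (T : Set G))]
  refine card_le_norm (U := U) (X := cj y Z) (R := sSup {X | X ∈ 𝒟 ∧ X ≠ cj y Z ∧ X ≠ Z})
    (K := T ⊓ normalizer (cj y Z : Set G)) (fun x hx y hy => s.U_mul hx hy) s.TU (hDU' _ ⟨y, hyY, rfl⟩)
    (sSup_le fun X hX => hDU' X hX.1) (le_sSup ⟨⟨y, hyY, rfl⟩, hXne⟩) (sSup_le_sSup fun X hX => ⟨hX.1, hX.2.2⟩)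
    (cj_mono y inf_le_left) ?_ ?_ ?_
  · rintro k hk _ ⟨w, hw, rfl⟩
    have h1 : y⁻¹ * k * y ∈ T := by
      have h2 := hyT ⟨k, hk, rfl⟩
      rwa [show (MulAut.conj y⁻¹).toMonoidHom k = y⁻¹ * k * y⁻¹⁻¹ from rfl, inv_inv] at h2
    have h2 := mem_centralizer_iff.1 hw.2 _ h1
    show k * (y * w * y⁻¹) = y * w * y⁻¹ * k
    have e1 : k * (y * w * y⁻¹) = y * (y⁻¹ * k * y * w) * y⁻¹ := by group
    rw [e1, h2]
    group
  · intro t ht htK
    refine le_sSup ⟨hcj t (s.TY ht) _ ⟨y, hyY, rfl⟩, fun h0 => htK ⟨ht, mem_normalizer_iff_cj.2 h0⟩, fun h0 => hXne ?_⟩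
    have h1 := congrArg (cj t⁻¹) h0
    rwa [cj_inv_cj, cj_eq_of_mem_normalizer (inv_mem (s.TZ ht))] at h1
  · refine le_bot_iff.1 (le_trans (inf_le_inf_left _ (sSup_le_sSup ?_)) (hind y hyY).le)
    exact fun X hX => ⟨hX.1, hX.2.1⟩

end SitC

end Cfsg.Agent.Omega.CaseLQ
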