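import Cfsg.Agent.Omega.CaseLQ.NatT
import Cfsg.Agent.Omega.CaseLQ.PartI
import Cfsg.Agent.Omega.NO3S.KeyRad.Lin
import Cfsg.Agent.Omega.SQ1.FFOne

/-!
# The group `P_j` (helper952 #24536, helper922 #24136): a natural block of `V_P`

`N : NatKM F S P V D k`, `D = 1` (`hD`), the block `W = N_j`, `Z = Z_j` its line, `C` the sum of the other blocks
(`BlkJ`); `T ≤ P` normalises `Z`, `T` a Sylow 2-subgroup of `H₀ ≥ P ∩ C(C)`.

* `natT_of` : `NatT F W Z T (N.e · j)`: the linear data (`NatT.no`, `NatT.cent_eq`, `NatT.comm`) of `T` on `W`;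
* `Pj P T W C := ((P ∩ C(C)) T) ∩ N(C_T(W))`; `exists_pj` : it acts on `W` as `SL₂(F) T` (Frattini);
* `NatT.irr` : `W` is irreducible for `⟨E^{P_j}⟩`, `E ≤ T` an offender; `le_zl` : `W ≤ ⟨Ω₁Z(T)^{P_j}⟩`.
-/

set_option autoImplicit false
set_option linter.unusedSectionVars false

namespace Cfsg.Agent.Omega.CaseLQ

open Subgroup Cfsg Cfsg.Agent.ZN Cfsg.Agent.ZN.ChoiceBase Cfsg.Agent.ZN.ChoiceSit
open Cfsg.Agent.Omega.FFThm Cfsg.Agent.Lib.SL2Mat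
open Cfsg.Agent.Omega.NatPair hiding cj cj_one exists_semi
open Cfsg.Agent.Omega.NO3S.ThmB Cfsg.Agent.Omega.NO3S.KeyRad
open Cfsg.Agent.Omega.NO3b.EZero (cl cj_le_cl le_cl cl_le)

universe u

variable {G : Type u} [Group G]

/-! ### Irreducibility -/

section irr

variable {F : Type} [Field F] {N Z T : Subgroup G} {e : G → Fin 2 → F} (h : NatT F N Z T e)
include h

theorem NatT.irr_of {X E K : Subgroup G} (XN : X ≤ normalizer (N : Set G))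
    (lift : ∃ x ∈ X, ∀ v ∈ N, e (x * v * x⁻¹) = ap (wm 1 one_ne_zero) (e v))
    (hc : ∀ v ∈ N, v ∉ Z → ∀ z ∈ Z, ∃ t ∈ E, t * v * t⁻¹ * v⁻¹ = z) (hK : K ≤ N)
    (hn : cl E X ≤ normalizer (K : Set G)) : K = ⊥ ∨ K = N := by
  by_cases hb : K = ⊥
  · exact Or.inl hb
  right
  refine le_antisymm hK ?_
  have hnK : ∀ t ∈ cl E X, ∀ k ∈ K, t * k * t⁻¹ * k⁻¹ ∈ K := fun t ht k hk =>
    mul_mem ((mem_normalizer_iff.1 (hn ht) k).1 hk) (inv_mem hk)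
  have step1 : ∀ k ∈ K, k ∉ Z → Z ≤ K := by
    intro k hk hkZ z hz
    obtain ⟨t, ht, rfl⟩ := hc k (hK hk) hkZ z hz
    exact hnK t (le_cl E X ht) k hk
  obtain ⟨x, hx, hxw⟩ := lift
  have hxN : ∀ v ∈ N, x⁻¹ * v * x ∈ N := fun v hv => by
    have h1 := (mem_normalizer_iff.1 (XN (inv_mem hx)) v).1 hv
    rwa [inv_inv] at h1
  have hx1 : ∀ v ∈ N, e (x⁻¹ * v * x) 1 = e v 0 := by
    intro v hv
    have h1 := congrFun (hxw _ (hxN v hv)) 0
    rw [show x * (x⁻¹ * v * x) * x⁻¹ = v by group, ap_zero', wm_00, wm_01, zero_mul, zero_add, one_mul] at h1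
    exact h1.symm
  have step2 : ∀ k ∈ K, e k 0 ≠ 0 → ∀ v ∈ N, e v 0 = 0 → v ∈ K := by
    intro k hk hk0 v hv hv0
    have h1 : x⁻¹ * k * x ∉ Z := fun h2 => hk0 (by rw [← hx1 k (hK hk)]; exact ((h.memZ _).1 h2).2)
    have h2 : x⁻¹ * v * x ∈ Z := (h.memZ _).2 ⟨hxN v hv, by rw [hx1 v hv, hv0]⟩
    obtain ⟨t, ht, h3⟩ := hc _ (hxN k (hK hk)) h1 _ h2
    have h4 : x * t * x⁻¹ ∈ cl E X := cj_le_cl hx ⟨t, ht, rfl⟩
    have h5 := hnK _ h4 k hk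
    have h6 : x * t * x⁻¹ * k * (x * t * x⁻¹)⁻¹ * k⁻¹ = x * (t * (x⁻¹ * k * x) * t⁻¹ * (x⁻¹ * k * x)⁻¹) * x⁻¹ := by
      group
    rw [h6, h3] at h5
    rwa [show x * (x⁻¹ * v * x) * x⁻¹ = v by group] at h5
  have key : Z ≤ K ∧ ∀ v ∈ N, e v 0 = 0 → v ∈ K := by
    obtain ⟨k, hk, hk1⟩ : ∃ k ∈ K, k ≠ 1 := by
      by_contra hcon
      push Not at hcon
      exact hb ((Subgroup.eq_bot_iff_forall K).2 hcon)
    by_cases h0 : e k 1 = 0
    · have h1 : e k 0 ≠ 0 := fun h2 => hk1 (h.inj k (hK hk) (ext2 h2 h0))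
      have h2 := step2 k hk h1
      obtain ⟨v, hv, hv'⟩ := h.surj ![0, 1]
      refine ⟨step1 v (h2 v hv (by rw [hv']; rfl)) fun h3 => ?_, h2⟩
      have h4 := ((h.memZ v).1 h3).2
      rw [hv'] at h4
      exact one_ne_zero h4
    · have h1 := step1 k hk fun h2 => h0 ((h.memZ k).1 h2).2
      obtain ⟨z, hz, hz'⟩ := h.surj ![1, 0]
      have h2 : z ∈ K := h1 ((h.memZ z).2 ⟨hz, by rw [hz']; rfl⟩)
      exact ⟨h1, step2 z h2 (by rw [hz']; exact one_ne_zero)⟩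
  intro v hv
  obtain ⟨w0, hw0, f0⟩ := h.surj ![e v 0, 0]
  obtain ⟨w1, hw1, f1⟩ := h.surj ![0, e v 1]
  have h1 : v = w0 * w1 := by
    refine h.ext hv (mul_mem hw0 hw1) ?_
    rw [h.mul _ hw0 _ hw1, f0, f1]
    exact ext2 (by simp) (by simp)
  rw [h1]
  exact mul_mem (key.1 ((h.memZ w0).2 ⟨hw0, by rw [f0]; rfl⟩)) (key.2 w1 hw1 (by rw [f1]; rfl))

/-- **`irrN`** -/
theorem NatT.irr [CharP F 2] [Finite G] [Finite F] {X E K : Subgroup G} (XN : X ≤ normalizer (N : Set G))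
    (lift : ∀ A : Matrix.SpecialLinearGroup (Fin 2) F, ∃ x ∈ X, ∀ v ∈ N, e (x * v * x⁻¹) = ap A (e v))
    (hE : E ≤ T) (ho : OffM N E) (hK : K ≤ N) (hn : cl E X ≤ normalizer (K : Set G)) : K = ⊥ ∨ K = N :=
  h.irr_of XN (lift _) (h.comm hE ho).2 hK hn

/-- `N` is irreducible for `X`. -/
theorem NatT.irrX [CharP F 2] {X K : Subgroup G} (XN : X ≤ normalizer (N : Set G))
    (lift : ∀ A : Matrix.SpecialLinearGroup (Fin 2) F, ∃ x ∈ X, ∀ v ∈ N, e (x * v * x⁻¹) = ap A (e v))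
    (hK : K ≤ N) (hn : X ≤ normalizer (K : Set G)) : K = ⊥ ∨ K = N := by
  refine h.irr_of (E := X) XN (lift _) ?_ hK ?_
  · intro v hv hvZ z hz
    have hv1 : e v 1 ≠ 0 := fun h0 => hvZ ((h.memZ v).2 ⟨hv, h0⟩)
    obtain ⟨t, ht, hb⟩ := lift (up (e z 0 * (e v 1)⁻¹))
    refine ⟨t, ht, ?_⟩
    have h3 : t * v * t⁻¹ ∈ N := (mem_normalizer_iff.1 (XN ht) v).1 hv
    refine h.ext (mul_mem h3 (inv_mem hv)) (h.ZN hz) ?_
    rw [h.mul _ h3 _ (inv_mem hv), h.e_inv hv, hb v hv]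
    refine ext2 ?_ ?_
    · rw [Pi.add_apply, ap_up_0, Pi.neg_apply, mul_assoc, inv_mul_cancel₀ hv1]
      ring
    · rw [Pi.add_apply, ap_up_1, Pi.neg_apply, ((h.memZ z).1 hz).2]
      ring
  · refine cl_le fun p hp => ?_
    rw [cj_eq_of_mem_normalizer (le_normalizer hp)]
    exact hn

end irr

/-! ### The block of `V_P` -/

/-- `W`, `Z`, `C` are the `j`-th summand, its line, the sum of the others. -/
structure BlkJ {F : Type} [Field F] {S P V D : Subgroup G} {k : ℕ} (N : NatKM F S P V D k) (j : Fin k)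
    (W Z C : Subgroup G) : Prop where
  mW : ∀ v, v ∈ W ↔ v ∈ V ∧ ∀ l, l ≠ j → N.e v l = 0
  mZ : ∀ v, v ∈ Z ↔ v ∈ W ∧ N.e v j 1 = 0
  mC : ∀ v, v ∈ C ↔ v ∈ V ∧ N.e v j = 0
  mD : ∀ v ∈ V, N.e v = 0 → v = 1

/-- the group `P_j` -/
def Pj (P T W C : Subgroup G) : Subgroup G :=
  ((P ⊓ centralizer (C : Set G)) ⊔ T) ⊓ normalizer ((T ⊓ centralizer (W : Set G) : Subgroup G) : Set G)

section blk

variable {F : Type} [Field F] {S P V D : Subgroup G} {k : ℕ} {N : NatKM F S P V D k} {j : Fin k}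
  {W Z C T : Subgroup G} (h : Nb N) (b : BlkJ N j W Z C)
include b

theorem BlkJ.WV : W ≤ V := fun v hv => ((b.mW v).1 hv).1

theorem BlkJ.ZW : Z ≤ W := fun v hv => ((b.mZ v).1 hv).1

theorem BlkJ.CV : C ≤ V := fun v hv => ((b.mC v).1 hv).1

include h

theorem BlkJ.ext {v w : G} (hv : v ∈ V) (hw : w ∈ V) (e : N.e v = N.e w) : v = w := by
  have h1 := N.mul v hv w⁻¹ (inv_mem hw)
  have h2 := N.mul w hw w⁻¹ (inv_mem hw)
  rw [mul_inv_cancel, Nb.e_one] at h2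
  rw [e, ← h2] at h1
  exact mul_inv_eq_one.1 (b.mD _ (mul_mem hv (inv_mem hw)) h1)

/-- an element of `P` normalising `Z` fixes the `j`-th summand -/
theorem BlkJ.mv_of_Z {t : G} (ht : t ∈ P) (hZ : t ∈ normalizer (Z : Set G)) : ∃ σ : Equiv.Perm (Fin k),
    Mv N t σ ∧ σ j = j := by
  obtain ⟨σ, hσ⟩ := N.perm t ht
  refine ⟨σ, hσ, ?_⟩
  obtain ⟨z, hz, hzj, hzl⟩ := Nb.exists_single N j ![1, 0]
  have hzZ : z ∈ Z := (b.mZ z).2 ⟨(b.mW z).2 ⟨hz, hzl⟩, by rw [hzj]; rfl⟩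
  have h1 := (mem_normalizer_iff.1 hZ z).1 hzZ
  by_contra hne
  have h2 := ((b.mW _).1 (b.ZW h1)).2 (σ j) hne
  have h3 := (hσ z hz j).1 h2
  rw [hzj] at h3
  exact one_ne_zero (congrFun h3 0)

theorem BlkJ.conj_W {t : G} (ht : t ∈ P) {σ : Equiv.Perm (Fin k)} (hσ : Mv N t σ) (hj : σ j = j) {v : G} (hv : v ∈ W) :
    t * v * t⁻¹ ∈ W := by
  obtain ⟨h1, h2⟩ := (b.mW v).1 hv
  refine (b.mW _).2 ⟨h.memV ht h1, fun l hl => ?_⟩
  have h3 := (hσ v h1 (σ.symm l)).2 (h2 _ fun h4 => hl (by rw [← hj, ← h4, σ.apply_symm_apply]))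
  rwa [σ.apply_symm_apply] at h3

theorem BlkJ.conj_C {t : G} (ht : t ∈ P) {σ : Equiv.Perm (Fin k)} (hσ : Mv N t σ) (hj : σ j = j) {v : G} (hv : v ∈ C) :
    t * v * t⁻¹ ∈ C := by
  obtain ⟨h1, h2⟩ := (b.mC v).1 hv
  refine (b.mC _).2 ⟨h.memV ht h1, ?_⟩
  have h3 := (hσ v h1 j).2 h2
  rwa [hj] at h3

/-- **The linear data of `T` on `W`.** -/
theorem natT_of [CharP F 2] [Finite F] (hTP : T ≤ P) (hTZ : T ≤ normalizer (Z : Set G)) :
    NatT F W Z T (fun v => N.e v j) where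
  mul v hv w hw := by rw [N.mul v (b.WV hv) w (b.WV hw)]; rfl
  surj x := by
    obtain ⟨v, hv, hx, hl⟩ := Nb.exists_single N j x
    exact ⟨v, (b.mW v).2 ⟨hv, hl⟩, hx⟩
  inj v hv h0 := by
    refine b.mD v (b.WV hv) (funext fun l => ?_)
    by_cases hl : l = j
    · rw [hl]; exact h0
    · exact ((b.mW v).1 hv).2 l hl
  TN t ht v hv := by
    obtain ⟨σ, hσ, hj⟩ := b.mv_of_Z h (hTP ht) (hTZ ht)
    exact b.conj_W h (hTP ht) hσ hj hv
  memZ := b.mZ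
  semi t ht := by
    obtain ⟨σ, hσ, hj⟩ := b.mv_of_Z h (hTP ht) (hTZ ht)
    obtain ⟨τ, hτ⟩ := NO3S.KeyRad.exists_semi h (hTP ht) hσ j
    refine ⟨τ, fun c v hv w hw hc => ?_⟩
    have h1 := e_conj h (hTP ht) hσ (b.WV hv) j
    have h2 := e_conj h (hTP ht) hσ (b.WV hw) j
    rw [hj] at h1 h2 hτ
    change N.e (t * w * t⁻¹) j = τ c • N.e (t * v * t⁻¹) j
    rw [h1, h2, hc, hτ]
  line t ht v hv h0 := by
    have h1 := (mem_normalizer_iff.1 (hTZ ht) v).1 ((b.mZ v).2 ⟨hv, h0⟩)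
    exact ((b.mZ _).1 h1).2

/-- `P ∩ C(C)` normalises `W`. -/
theorem BlkJ.norm_W : P ⊓ centralizer (C : Set G) ≤ normalizer (W : Set G) := by
  have key : ∀ g ∈ P ⊓ centralizer (C : Set G), ∀ v ∈ W, g * v * g⁻¹ ∈ W := by
    rintro g ⟨hg, hgC⟩ v hv
    obtain ⟨σ, hσ⟩ := N.perm g hg
    have h1 : ∀ l, l ≠ j → σ l = l := by
      intro l hl
      obtain ⟨u, hu, hul, hum⟩ := Nb.exists_single N l ![1, 0]
      have h2 : u ∈ C := (b.mC u).2 ⟨hu, hum j (Ne.symm hl)⟩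
      have h3 : g * u * g⁻¹ = u := mul_inv_eq_iff_eq_mul.2 (mem_centralizer_iff.1 hgC u h2).symm
      have h4 : N.e u (σ l) ≠ 0 := fun h5 => by
        have h6 := (hσ u hu l).1 (by rw [h3]; exact h5)
        rw [hul] at h6
        exact one_ne_zero (congrFun h6 0)
      by_contra hne
      exact h4 (hum _ hne)
    have hj : σ j = j := by
      by_contra hne
      have h2 := h1 _ hne
      exact hne (σ.injective h2)
    exact b.conj_W h hg hσ hj hv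
  refine fun g hg => mem_normalizer_iff.2 fun v => ⟨key g hg v, fun hv => ?_⟩
  have h1 := key g⁻¹ (inv_mem hg) _ hv
  rwa [show g⁻¹ * (g * v * g⁻¹) * g⁻¹⁻¹ = v by group] at h1

theorem BlkJ.T_norm_W (hTP : T ≤ P) (hTZ : T ≤ normalizer (Z : Set G)) : T ≤ normalizer (W : Set G) := by
  have key : ∀ t ∈ T, ∀ v ∈ W, t * v * t⁻¹ ∈ W := by
    intro t ht v hv
    obtain ⟨σ, hσ, hj⟩ := b.mv_of_Z h (hTP ht) (hTZ ht)
    exact b.conj_W h (hTP ht) hσ hj hv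
  refine fun g hg => mem_normalizer_iff.2 fun v => ⟨key g hg v, fun hv => ?_⟩
  have h1 := key g⁻¹ (inv_mem hg) _ hv
  rwa [show g⁻¹ * (g * v * g⁻¹) * g⁻¹⁻¹ = v by group] at h1

/-- an element of `P ∩ C(C)` acting as `A` on `W` -/
theorem BlkJ.lift0 (A : Matrix.SpecialLinearGroup (Fin 2) F) :
    ∃ g ∈ P ⊓ centralizer (C : Set G), ∀ v ∈ W, N.e (g * v * g⁻¹) j = ap A (N.e v j) := by
  obtain ⟨g, hg, hgA⟩ := N.lift (sg j A)
  refine ⟨g, ⟨hg, mem_centralizer_iff.2 fun v hv => ?_⟩, fun v hv => ?_⟩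
  · obtain ⟨h1, h2⟩ := (b.mC v).1 hv
    have h3 : g * v * g⁻¹ = v := by
      refine b.ext h (h.memV hg h1) h1 (funext fun l => ?_)
      rw [hgA.1 v h1 l]
      by_cases hl : l = j
      · rw [hl, sg_self, h2, ap_zr]
      · rw [sg_ne hl, ap_one]
    exact (mul_inv_eq_iff_eq_mul.1 h3).symm
  · rw [hgA.1 v (b.WV hv) j, sg_self]

end blk

/-! ### Frattini -/

theorem frat [Finite G] {T R W : Subgroup G} (hT : Syl T R) (hRW : R ≤ normalizer (W : Set G)) {r : G} (hr : r ∈ R) :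
    ∃ p ∈ R, p ∈ normalizer ((T ⊓ centralizer (W : Set G) : Subgroup G) : Set G) ∧
      ∀ w ∈ W, p * w * p⁻¹ = r * w * r⁻¹ := by
  have hcW : ∀ g ∈ normalizer (W : Set G), ∀ x ∈ centralizer (W : Set G), g * x * g⁻¹ ∈ centralizer (W : Set G) := by
    intro g hg x hx
    refine mem_centralizer_iff.2 fun w hw => ?_
    have h1 : g⁻¹ * w * g ∈ W := by
      have h2 := (mem_normalizer_iff.1 (inv_mem hg) w).1 hw
      rwa [inv_inv] at h2
    have h2 := mem_centralizer_iff.1 hx _ h1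
    calc w * (g * x * g⁻¹) = g * ((g⁻¹ * w * g) * x) * g⁻¹ := by group
      _ = g * (x * (g⁻¹ * w * g)) * g⁻¹ := by rw [h2]
      _ = g * x * g⁻¹ * w := by group
  set K := R ⊓ centralizer (W : Set G) with hK
  have hn : ∀ g ∈ R, ∀ x ∈ K, g * x * g⁻¹ ∈ K := fun g hg x hx =>
    ⟨R.mul_mem (R.mul_mem hg hx.1) (R.inv_mem hg), hcW g (hRW hg) x hx.2⟩
  have hTK : T ⊓ K = T ⊓ centralizer (W : Set G) := by
    rw [hK, ← inf_assoc, inf_eq_left.2 hT.1]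
  have h1 : Syl (T ⊓ centralizer (W : Set G)) K := by
    rw [← hTK]
    exact SQ1.FFOne.syl_inf hT inf_le_left hn
  have hcjK : cj r K = K := by
    refine Subgroup.eq_of_le_of_card_ge ?_ (card_cj r K).ge
    rintro _ ⟨x, hx, rfl⟩
    exact hn r hr x hx
  have h2 : Syl (cj r (T ⊓ centralizer (W : Set G))) K := by
    refine ⟨?_, isPGroup_cj r h1.2.1, fun Q hQ hp hTQ => ?_⟩
    · rw [← hcjK]; exact cj_mono r h1.1
    · have h3 := cj_mono r⁻¹ hQ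
      have h4 : cj r⁻¹ K = K := by
        conv_lhs => rw [← hcjK]
        rw [cj_cj, inv_mul_cancel, cj_one]
      rw [h4] at h3
      have h5 := h1.2.2 (cj r⁻¹ Q) h3 (isPGroup_cj _ hp) (cj_le_iff.1 hTQ)
      rw [← h5, cj_cj_inv]
  obtain ⟨c, hc, e⟩ := syl_conj h2 h1
  rw [cj_cj] at e
  refine ⟨c * r, mul_mem hc.1 hr, mem_normalizer_iff_cj.2 e, fun w hw => ?_⟩
  have h3 : r * w * r⁻¹ ∈ W := (mem_normalizer_iff.1 (hRW hr) w).1 hw
  have h4 := mem_centralizer_iff.1 hc.2 _ h3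
  calc c * r * w * (c * r)⁻¹ = c * (r * w * r⁻¹) * c⁻¹ := by group
    _ = r * w * r⁻¹ * c * c⁻¹ := by rw [← h4]
    _ = r * w * r⁻¹ := by group

section pj

variable [Finite G] {F : Type} [Field F] {S P V D : Subgroup G} {k : ℕ} {N : NatKM F S P V D k} {j : Fin k}
  {W Z C T H₀ : Subgroup G} (h : Nb N) (b : BlkJ N j W Z C) (hTP : T ≤ P) (hTZ : T ≤ normalizer (Z : Set G))

omit [Finite G] in
theorem Pj_le : Pj P T W C ≤ (P ⊓ centralizer (C : Set G)) ⊔ T := inf_le_left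

include hTP in
omit [Finite G] in
theorem Pj_le_P : Pj P T W C ≤ P := inf_le_left.trans (sup_le inf_le_left hTP)

omit [Finite G] in
theorem Pj_norm_T : Pj P T W C ≤ normalizer ((T ⊓ centralizer (W : Set G) : Subgroup G) : Set G) := inf_le_right

omit [Finite G] in
theorem Pj_le_of (hT : T ≤ H₀) (hH : P ⊓ centralizer (C : Set G) ≤ H₀) : Pj P T W C ≤ H₀ :=
  inf_le_left.trans (sup_le hH hT)

omit [Finite G] in
theorem Pj_cent {Λ : Subgroup G} (hΛ : Λ ≤ C) (hT : T ≤ centralizer (Λ : Set G)) :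
    Pj P T W C ≤ centralizer (Λ : Set G) :=
  Pj_le_of hT (inf_le_right.trans (centralizer_le hΛ))

include h b hTP hTZ

omit [Finite G] in
theorem le_Pj : T ≤ Pj P T W C := by
  refine le_inf le_sup_right fun t ht => mem_normalizer_iff_cj.2 ?_
  rw [cj_inf, cj_eq_of_mem_normalizer (le_normalizer ht), cj_centralizer,
    cj_eq_of_mem_normalizer (b.T_norm_W h hTP hTZ ht)]

omit [Finite G] in
theorem Pj_norm_W : Pj P T W C ≤ normalizer (W : Set G) :=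
  inf_le_left.trans (sup_le (b.norm_W h) (b.T_norm_W h hTP hTZ))

/-- **`P_j` acts on `W` as `SL₂(F)`.** -/
theorem Pj_lift (hT : Syl T H₀) (hH : P ⊓ centralizer (C : Set G) ≤ H₀) (A : Matrix.SpecialLinearGroup (Fin 2) F) :
    ∃ x ∈ Pj P T W C, ∀ v ∈ W, N.e (x * v * x⁻¹) j = ap A (N.e v j) := by
  obtain ⟨g, hg, hgA⟩ := b.lift0 h A
  have hT' : Syl T ((P ⊓ centralizer (C : Set G)) ⊔ T) :=
    ⟨le_sup_right, hT.2.1, fun Q hQ hp hTQ => hT.2.2 Q (hQ.trans (sup_le hH hT.1)) hp hTQ⟩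
  obtain ⟨p, hp, hpn, hpw⟩ := frat hT' (sup_le (b.norm_W h) (b.T_norm_W h hTP hTZ)) (mem_sup_left hg)
  exact ⟨p, ⟨hp, hpn⟩, fun v hv => by rw [hpw v hv, hgA v hv]⟩

/-- **`W ≤ ⟨Ω₁Z(T)^{P_j}⟩`.** -/
theorem le_zl_Pj [CharP F 2] [Finite F] (hT : Syl T H₀) (hH : P ⊓ centralizer (C : Set G) ≤ H₀)
    (hZ : Z ⊓ zc T ≠ ⊥) : W ≤ zl T (Pj P T W C) := by
  have h1 : Pj P T W C ≤ normalizer ((W ⊓ zl T (Pj P T W C) : Subgroup G) : Set G) := by
    intro x hx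
    rw [mem_normalizer_iff_cj, cj_inf, cj_eq_of_mem_normalizer (Pj_norm_W h b hTP hTZ hx),
      cj_eq_of_mem_normalizer (le_normalizer_zl T _ hx)]
  rcases (natT_of h b hTP hTZ).irrX (Pj_norm_W h b hTP hTZ) (Pj_lift h b hTP hTZ hT hH) inf_le_left h1 with h2 | h2
  · exfalso
    apply hZ
    rw [eq_bot_iff, ← h2]
    exact le_inf (inf_le_left.trans b.ZW) (inf_le_right.trans (zc_le_zl T _))
  · exact inf_eq_left.1 h2

end pj

end Cfsg.Agent.Omega.CaseLQ
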