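import Cfsg.Agent.Omega.CaseLQ.Psi

/-!
# The `ψ`-trick over subgroups of a group (copy of helper707's `PsiG.lean` with `C i` for `centralizer (K i)`)

`FrN U T Q Tj N Z c C`: `T` acts by conjugation on the abelian group `U`; `c i` = root lines, `C i` = centralisers of the
blocks of `Y`;
`N ≤ U` the natural block of `V_P` with root line `Z`, `Tj / Q` its root group, `|Tj / Q| ≥ 4`. `FrN.false`.
-/

set_option autoImplicit false
set_option linter.unusedSectionVars false

namespace Cfsg.Agent.Omega.CaseLQ.Psi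

open Subgroup


local notation "cj" g:max H:max => Subgroup.map (MulEquiv.toMonoidHom (MulAut.conj g)) H

universe u w

variable {G : Type u} [Group G] {ι : Type w}

private theorem cj_one_n (H : Subgroup G) : cj (1 : G) H = H := by
  ext x
  simp

private theorem cj_cj_n (g h : G) (H : Subgroup G) : cj g (cj h H) = cj (g * h) H := by
  rw [Subgroup.map_map]
  congr 1
  ext x
  simp [mul_assoc]

/-- **The frame of the `ψ`-trick** in a group. -/
structure FrN (U T Q Tj N Z : Subgroup G) (c C : ι → Subgroup G) : Prop where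
  comm : ∀ x ∈ U, ∀ y ∈ U, x * y = y * x
  TU : T ≤ normalizer (U : Set G)
  QT : Q ≤ Tj
  TjT : Tj ≤ T
  Qn : T ≤ normalizer (Q : Set G)
  sq : ∀ t ∈ Tj, t * t ∈ Q
  four : ∀ t ∈ Tj, ∃ s ∈ Tj, s ∉ Q ∧ t⁻¹ * s ∉ Q
  perm : ∀ t ∈ T, ∀ i, ∃ m, cj t (c i) = c m ∧ cj t (C i) = C m
  cyc : ∀ i, ∃ g ∈ T, cj g (c i) = c i ∧ ∀ x ∈ T, cj x (c i) = c i →
    ∃ n : ℤ, ∀ v ∈ c i, x * v * x⁻¹ = g ^ n * v * (g ^ n)⁻¹
  cU : ∀ i, c i ≤ U
  ne : ∀ i, c i ≠ ⊥
  inf : ∀ i, c i ⊓ C i = ⊥
  cm : ∀ i m, m ≠ i → c m ≤ C i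
  NU : N ≤ U
  NT : Tj ≤ normalizer (N : Set G)
  NQ : N ≤ centralizer (Q : Set G)
  cov : ∀ i, N ≤ c i ⊔ (U ⊓ C i)
  ZN : Z ≤ N
  NZ : ¬ N ≤ Z
  cen : ∀ t ∈ Tj, t ∉ Q → ∀ n ∈ N, t * n * t⁻¹ = n → n ∈ Z
  Zc : Z ≤ centralizer (Tj : Set G)
  full : ∀ n ∈ N, n ∉ Z → ∀ z ∈ Z, ∃ t ∈ Tj, t * n * t⁻¹ * n⁻¹ = z
  /-- `C_U(Q) ≤ N × L'` -/
  CQ : ∀ u ∈ U, u ∈ centralizer (Q : Set G) → ∃ n ∈ N, n⁻¹ * u ∈ centralizer (Tj : Set G)
  /-- `Z ≰ C(⟨K_i⟩)` -/
  nZ : ∃ i, ¬ Z ≤ C i

namespace FrN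

variable {U T Q Tj N Z : Subgroup G} {c C : ι → Subgroup G} (h : FrN U T Q Tj N Z c C)
include h

theorem inj {i m : ι} (he : c i = c m) : i = m := by
  by_contra hne
  apply h.ne i
  rw [eq_bot_iff, ← h.inf m, he]
  refine le_inf le_rfl ?_
  rw [← he]
  exact h.cm m i hne

theorem exists_perm : ∃ σ : G → ι → ι, ∀ t ∈ T, ∀ i, cj t (c i) = c (σ t i) ∧ cj t (C i) = C (σ t i) := by
  classical
  have h1 : ∀ (t : G) (i : ι), ∃ m, t ∈ T → cj t (c i) = c m ∧ cj t (C i) = C m := by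
    intro t i
    by_cases ht : t ∈ T
    · obtain ⟨m, hm⟩ := h.perm t ht i
      exact ⟨m, fun _ => hm⟩
    · exact ⟨i, fun h => absurd h ht⟩
  choose σ hσ using h1
  exact ⟨σ, fun t ht i => hσ t i ht⟩

/-- **The `ψ`-trick**: contradiction. -/
theorem false [Finite ι] : False := by
  classical
  obtain ⟨σ, hσ⟩ := h.exists_perm
  let instU : CommGroup ↥U := { (inferInstance : Group ↥U) with
    mul_comm := fun x y => Subtype.ext (h.comm _ x.2 _ y.2) }
  let actι : MulAction ↥T ι :=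
    { smul := fun t i => σ t i
      one_smul := fun i => by
        refine h.inj ?_
        change c (σ ((1 : ↥T) : G) i) = _
        rw [← (hσ _ (1 : ↥T).2 i).1]
        rw [Subgroup.coe_one, cj_one_n]
      mul_smul := fun s t i => by
        refine h.inj ?_
        change c (σ ((s * t : ↥T) : G) i) = c (σ s (σ t i))
        rw [← (hσ _ (s * t).2 i).1, ← (hσ _ s.2 _).1, ← (hσ _ t.2 _).1, cj_cj_n]
        rfl }
  have memU : ∀ (t : ↥T) (u : ↥U), (t : G) * u * (t : G)⁻¹ ∈ U := fun t u =>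
    (mem_normalizer_iff.1 (h.TU t.2) _).1 u.2
  let actU : DistribMulAction ↥T (Additive ↥U) :=
    { smul := fun t u => Additive.ofMul (⟨(t : G) * (Additive.toMul u : ↥U) * (t : G)⁻¹, memU t _⟩ : ↥U)
      one_smul := fun u => by
        apply Additive.toMul.injective
        apply Subtype.ext
        change ((1 : ↥T) : G) * (Additive.toMul u : ↥U) * ((1 : ↥T) : G)⁻¹ = (Additive.toMul u : ↥U)
        simp
      mul_smul := fun s t u => by
        apply Additive.toMul.injective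
        apply Subtype.ext
        change ((s * t : ↥T) : G) * (Additive.toMul u : ↥U) * ((s * t : ↥T) : G)⁻¹ =
          (s : G) * ((t : G) * (Additive.toMul u : ↥U) * (t : G)⁻¹) * (s : G)⁻¹
        rw [Subgroup.coe_mul]
        group
      smul_zero := fun t => by
        apply Additive.toMul.injective
        apply Subtype.ext
        change (t : G) * ((1 : ↥U) : G) * (t : G)⁻¹ = ((1 : ↥U) : G)
        simp
      smul_add := fun t u v => by
        apply Additive.toMul.injective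
        apply Subtype.ext
        change (t : G) * ((Additive.toMul u * Additive.toMul v : ↥U) : G) * (t : G)⁻¹ =
          ((t : G) * (Additive.toMul u : ↥U) * (t : G)⁻¹) * ((t : G) * (Additive.toMul v : ↥U) * (t : G)⁻¹)
        rw [Subgroup.coe_mul]
        group }
  have smul_coe : ∀ (t : ↥T) (u : Additive ↥U),
      ((Additive.toMul (t • u) : ↥U) : G) = (t : G) * (Additive.toMul u : ↥U) * (t : G)⁻¹ := fun _ _ => rfl
  let A : Subgroup G → AddSubgroup (Additive ↥U) := fun X => (X.subgroupOf U).toAddSubgroup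
  have memA : ∀ (X : Subgroup G) (u : Additive ↥U), u ∈ A X ↔ ((Additive.toMul u : ↥U) : G) ∈ X := by
    intro X u
    rfl
  have sub_coe : ∀ u v : Additive ↥U, ((Additive.toMul (u - v) : ↥U) : G) =
      (Additive.toMul u : ↥U) * ((Additive.toMul v : ↥U) : G)⁻¹ := by
    intro u v
    rw [toMul_sub, div_eq_mul_inv]
    rfl
  have ext' : ∀ {u v : Additive ↥U}, ((Additive.toMul u : ↥U) : G) = (Additive.toMul v : ↥U) → u = v := by
    intro u v huv
    exact Additive.toMul.injective (Subtype.ext huv)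
  have σe : ∀ (t : ↥T) (i : ι), c (t • i) = cj (t : G) (c i) ∧ C (t • i) = cj (t : G) (C i) := fun t i =>
    ⟨((hσ _ t.2 i).1).symm, ((hσ _ t.2 i).2).symm⟩
  have stab : ∀ (t : ↥T) (i : ι), t • i = i ↔ cj (t : G) (c i) = c i := by
    intro t i
    constructor
    · intro hi
      rw [← (σe t i).1, hi]
    · intro hi
      exact h.inj (by rw [(σe t i).1, hi])
  have supU : ∀ X Y : Subgroup G, X ≤ U → Y ≤ U → ∀ u ∈ X ⊔ Y, ∃ x ∈ X, ∃ y ∈ Y, x * y = u := by
    intro X Y hX hY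
    let P : Subgroup G :=
      { carrier := {u | ∃ x ∈ X, ∃ y ∈ Y, x * y = u}
        one_mem' := ⟨1, one_mem _, 1, one_mem _, mul_one 1⟩
        mul_mem' := by
          rintro _ _ ⟨x, hx, y, hy, rfl⟩ ⟨x', hx', y', hy', rfl⟩
          refine ⟨x * x', mul_mem hx hx', y * y', mul_mem hy hy', ?_⟩
          have h1 := h.comm y (hY hy) x' (hX hx')
          calc x * x' * (y * y') = x * (x' * y) * y' := by group
            _ = x * (y * x') * y' := by rw [h1]
            _ = _ := by group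
        inv_mem' := by
          rintro _ ⟨x, hx, y, hy, rfl⟩
          refine ⟨x⁻¹, inv_mem hx, y⁻¹, inv_mem hy, ?_⟩
          rw [mul_inv_rev]
          exact h.comm _ (inv_mem (hX hx)) _ (inv_mem (hY hy)) }
    have h1 : X ⊔ Y ≤ P := sup_le (fun x hx => ⟨x, hx, 1, one_mem _, mul_one x⟩)
      (fun y hy => ⟨1, one_mem _, y, hy, one_mul y⟩)
    intro u hu
    exact h1 hu
  have commU : ∀ x ∈ U, ∀ y ∈ U, x * y⁻¹ = y⁻¹ * x := fun x hx y hy => h.comm x hx _ (inv_mem hy)
  have H : Fr (fun i => A (c i)) (fun i => A (C i)) (Q.subgroupOf T) (Tj.subgroupOf T)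
      (A N) (A Z) := by
    refine
      { QT := fun x hx => h.QT hx
        Qn := ⟨fun x hx t => ?_⟩
        sq := fun t ht => h.sq t ht
        four := fun t ht => ?_
        ct := fun t i x hx => ?_
        Ct := fun t i x hx => ?_
        cyc := fun i => ?_
        inf := fun i x hx hx' => ?_
        cm := fun i m hm x hx => h.cm i m hm hx
        NT := fun t ht n hn => ?_
        NQ := fun g hg n hn => ?_
        cov := fun n hn i => ?_
        ZN := fun x hx => h.ZN hx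
        NZ := fun hcon => h.NZ fun x hx => hcon (x := Additive.ofMul (⟨x, h.NU hx⟩ : ↥U)) hx
        cen := fun t ht htQ n hn hnt => ?_
        Zc := fun t ht z hz => ?_
        full := fun n hn hnZ z hz => ?_
        CQ := fun u hu => ?_
        nZ := ?_ }
    · exact (mem_normalizer_iff.1 (h.Qn t.2) _).1 hx
    · obtain ⟨s, hs, h1, h2⟩ := h.four t ht
      exact ⟨⟨s, h.TjT hs⟩, hs, h1, h2⟩
    · rw [memA, smul_coe, (σe t i).1]
      exact ⟨_, hx, rfl⟩
    · rw [memA, smul_coe, (σe t i).2]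
      exact ⟨_, hx, rfl⟩
    · obtain ⟨g, hg, hgi, hx⟩ := h.cyc i
      refine ⟨⟨g, hg⟩, (stab _ i).2 hgi, fun x hxi => ?_⟩
      obtain ⟨n, hn⟩ := hx x x.2 ((stab x i).1 hxi)
      refine ⟨n, fun v hv => ext' ?_⟩
      rw [smul_coe, smul_coe]
      have h1 : ((⟨g, hg⟩ ^ n : ↥T) : G) = g ^ n := Subgroup.coe_zpow _ _ _
      rw [h1]
      exact hn _ hv
    · apply ext'
      have h1 : ((Additive.toMul x : ↥U) : G) ∈ c i ⊓ C i := ⟨hx, hx'⟩
      rw [h.inf i] at h1
      exact mem_bot.1 h1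
    · rw [memA, smul_coe]
      exact (mem_normalizer_iff.1 (h.NT ht) _).1 hn
    · apply ext'
      rw [smul_coe]
      have h1 : (g : G) * (Additive.toMul n : ↥U) = (Additive.toMul n : ↥U) * g := h.NQ hn g hg
      rw [h1]; group
    · have h1 := h.cov i hn
      obtain ⟨x, hx, y, hy, hxy⟩ := supU (c i) (U ⊓ C i) (h.cU i) inf_le_left _ h1
      refine ⟨Additive.ofMul (⟨x, h.cU i hx⟩ : ↥U), hx, ?_⟩
      rw [memA, sub_coe]
      have hxy' : x * y = ((Additive.toMul n : ↥U) : G) := hxy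
      change ((Additive.toMul n : ↥U) : G) * x⁻¹ ∈ _
      rw [← hxy', h.comm x (h.cU i hx) y hy.1, mul_inv_cancel_right]
      exact hy.2
    · rw [memA]
      refine h.cen t ht (fun hq => htQ hq) _ hn ?_
      have := congrArg (fun u : Additive ↥U => ((Additive.toMul u : ↥U) : G)) hnt
      simpa [smul_coe] using this
    · apply ext'
      rw [smul_coe]
      have h1 : (t : G) * (Additive.toMul z : ↥U) = (Additive.toMul z : ↥U) * t := h.Zc hz t ht
      rw [h1]; group
    · obtain ⟨t, ht, he⟩ := h.full _ hn (fun hz => hnZ hz) _ hz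
      refine ⟨⟨t, h.TjT ht⟩, ht, ext' ?_⟩
      rw [sub_coe, smul_coe]
      exact he
    · have h1 : ((Additive.toMul u : ↥U) : G) ∈ centralizer (Q : Set G) := by
        intro g hg
        have h2 := congrArg (fun u : Additive ↥U => ((Additive.toMul u : ↥U) : G)) (hu ⟨g, h.TjT (h.QT hg)⟩ hg)
        simp only [smul_coe] at h2
        change g * (Additive.toMul u : ↥U) = (Additive.toMul u : ↥U) * g
        change g * (Additive.toMul u : ↥U) * g⁻¹ = (Additive.toMul u : ↥U) at h2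
        exact mul_inv_eq_iff_eq_mul.1 h2
      obtain ⟨n, hn, hnu⟩ := h.CQ _ (Additive.toMul u : ↥U).2 h1
      refine ⟨Additive.ofMul (⟨n, h.NU hn⟩ : ↥U), hn, fun t ht => ext' ?_⟩
      rw [smul_coe, sub_coe]
      change (t : G) * ((Additive.toMul u : ↥U) * n⁻¹) * (t : G)⁻¹ = (Additive.toMul u : ↥U) * n⁻¹
      rw [commU _ (Additive.toMul u : ↥U).2 n (h.NU hn)]
      have h3 : (t : G) * (n⁻¹ * (Additive.toMul u : ↥U)) = n⁻¹ * (Additive.toMul u : ↥U) * t := hnu t ht
      rw [h3]; group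
    · obtain ⟨i, hi⟩ := h.nZ
      obtain ⟨z, hz, hzi⟩ := SetLike.not_le_iff_exists.1 hi
      exact ⟨Additive.ofMul (⟨z, h.NU (h.ZN hz)⟩ : ↥U), hz, i, hzi⟩
  exact H.false

end FrN

end Cfsg.Agent.Omega.CaseLQ.Psi
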