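import Cfsg.Agent.Omega.CaseLQ.PsiYB

/-!
# NoW+, `q ≥ 3`, step (ii): the pointwise form of `psi_false` (helper509 #25180)

* `exists_ybp` : as `YBX.exists_ybx`, with an index `l` such that `z ∈ Ω₁Z(T) ∩ N l` implies `z ∈ C(H)`;
* **`psi_false_pt`** : as `PsiYB.psi_false`, with the input "some `z ∈ Z_j ∩ Ω₁Z(T)` is moved by `Y`" instead of
  `Y ≤ C(Λ)`, `Ω₁Z(T) ≤ Λ Z_j`.
-/

set_option autoImplicit false
set_option linter.unusedSectionVars false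

namespace Cfsg.Agent.Omega.CaseLQ.PsiPt

open Subgroup Cfsg Cfsg.Agent.ZN Cfsg.Agent.ZN.ChoiceBase Cfsg.Agent.ZN.ChoiceSit
open Cfsg.Agent.Omega.SQ1.FFOne (MinH)
open Cfsg.Agent.Omega.NO3S.OneLine (NatC natC_of BFam)
open Cfsg.Agent.Omega.OM.Lev.Nat (Wn mem_Wn Xn mem_Xn ap_z exists_up)
open Cfsg.Agent.Omega.OM
open Cfsg.Agent.Omega.OM.GNat (sl2_all exists_root cent_N)
open Cfsg.Agent.Omega.OM.GLev
open Cfsg.Agent.Omega.OM.Lev.Low
open Cfsg.Agent.Omega.FFThm (NatK NatKM SymKM ActsSL OffM StmtM)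
open Cfsg.Agent.Omega.SQ1.Bau (elem_comm elem_sq)
open Cfsg.Agent.Omega.FrameFF (cv)
open Cfsg.Agent.Omega.NO3S.CaseLW.YBX
open Cfsg.Agent.Omega.NO3S.EThree.Frame (Bg Fg)
open Cfsg.Agent.Omega.NO3S.RedC (MaxMin)
open Cfsg.Agent.MinSimple.MinParabolic (IsMinPar)
open Cfsg.Agent.Omega.CaseLQ.Psi Cfsg.Agent.Omega.CaseLQ.PsiYB

universe u w

variable {G : Type u} [Group G] [Finite G] {T H X : Subgroup G} {AA : Set (Subgroup G)}

namespace Nat

variable {F : Type} [Field F] [Finite F] [CharP F 2] {k : ℕ}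

/-- **`YB` on `C_X(⟨AA⟩)`, natural type, pointwise.** -/
theorem exists_ybp (h : GE T H X AA) (N : NatKM F T H (zl T H) (cv T H) k) (hk : 0 < k)
    (hex : ∃ A ∈ AA, ¬ A ≤ o2 H) (hZ : ¬ H ≤ centralizer (zc T : Set G)) :
    ∃ Ni c : Fin k → Subgroup G, Concl T H X AA Ni c ∧
      ∃ l, ∀ z ∈ zc T, z ∈ Ni l → z ∈ centralizer (H : Set G) := by
  classical
  set M := natC_of h.hm hk N.toNatK with hM
  obtain ⟨A, hA, hAQ⟩ := hex
  obtain ⟨j, hroot⟩ := exists_root h N hk hA hAQ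
  obtain ⟨L, hL, hsup, hgen⟩ := Nat.ld_of_root h N hk hA hroot
  have main : ∀ c : Fin k → Subgroup G, Co M c → YB T (Xc X AA) (Ni M (Xc X AA) L j) c := fun c hc =>
    hL.yb_aux hc fun i s hs t ht hsm htm => cyc_line h.hm N hk hs hsm ht htm
  have hpt : ∀ z ∈ zc T, z ∈ Ni M (Xc X AA) L j j → z ∈ centralizer (H : Set G) := by
    intro z hz hzN
    have h0 : H ≤ centralizer ({z} : Set G) := by
      refine hsup.trans (sup_le ?_ ?_)
      · intro t ht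
        rw [mem_centralizer_singleton_iff]
        exact (ChoiceBase.mem_zc.1 hz).2.2 t ht
      · intro l hl
        rw [mem_centralizer_singleton_iff]
        have h1 := (mem_Ni.1 hzN).2 1 (one_mem _) (MvI.one j) l hl
        simp only [inv_one, one_mul, mul_one] at h1
        exact h1
    exact mem_centralizer_iff.2 fun y hy => mem_centralizer_singleton_iff.1 (h0 hy)
  have h2 : ∃ i, ¬ zc T ≤ Ni M (Xc X AA) L j i := by
    refine ⟨j, fun hcon => hZ fun y hy => mem_centralizer_iff.2 fun z hz => ?_⟩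
    exact (mem_centralizer_iff.1 (hpt z hz (hcon hz)) y hy).symm
  have h3 : ∀ x ∈ Xc X AA, (∀ y ∈ H, cj y (sSup AA) ≤ centralizer ({x} : Set G)) → ∀ i, x ∈ Ni M (Xc X AA) L j i := by
    intro x hx hxc i
    refine mem_Ni.2 ⟨hx, fun t ht _ l hl => ?_⟩
    have h1 := hgen (centralizer ({t⁻¹ * x * t} : Set G)) fun y hy => ?_
    · exact mem_centralizer_singleton_iff.1 (h1 hl)
    · rintro _ ⟨b, hb, rfl⟩
      rw [mem_centralizer_singleton_iff]
      have h2 := mem_centralizer_singleton_iff.1 (hxc (t * y) (mul_mem (h.TH ht) hy) ⟨b, hb, rfl⟩)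
      have h2' : t * y * b * (t * y)⁻¹ * x = x * (t * y * b * (t * y)⁻¹) := h2
      have h4 := congrArg (fun z => t⁻¹ * z * t) h2'
      show y * b * y⁻¹ * (t⁻¹ * x * t) = t⁻¹ * x * t * (y * b * y⁻¹)
      simpa [mul_assoc] using h4
  by_cases hF : ∀ x : F, x = 0 ∨ x = 1
  · have hc := hL.co_two hF
    refine ⟨_, _, ⟨main _ hc, h2, fun x hx hxc => h3 x (Xc_of hx hxc) (le_of hxc),
      fun A hA v hv z _ a haA => ?_⟩, j, hpt⟩
    have ha : a ∈ sSup AA := (le_sSup hA : A ≤ sSup AA) haA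
    have hJV : ∀ a ∈ sSup AA, ∀ v ∈ zl T H, a * v * a⁻¹ ∈ zl T H := fun a ha v hv => M.Vn a (hL.TH (hL.BT ha)) v hv
    have hD : cv T H ≤ Nat.comS (zl T H) (sSup AA) (YB.Cp (fun i => closure {x | ∃ b ∈ sSup AA, ∃ w ∈ Wn M i,
        x = b * w * b⁻¹ * w⁻¹}) Set.univ) (fun x hx y hy => M.Vcomm hx hy) hJV := fun d hd =>
      ⟨M.DV hd, fun a ha => by rw [Xc_comm (hL.DZ hd) ha, mul_inv_cancel_right, mul_inv_cancel]; exact one_mem _⟩
    exact (Nat.mem_of_comp M hD hv fun i u hu _ => ⟨hu.1, fun a ha =>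
      YB.le_Cp (Set.mem_univ i) (subset_closure ⟨a, ha, u, hu, rfl⟩)⟩).2 a ha
  · push Not at hF
    obtain ⟨x, hx0, hx1⟩ := hF
    exact ⟨_, _, ⟨main _ (hL.co_tor hx0 hx1), h2, fun x hx hxc => h3 x (Xc_of hx hxc) (le_of hxc),
      fun A hA v hv z hz a ha => by
        rw [Nat.cent_of_two h N hk hx0 hx1 hA hv hz a ha]; exact one_mem _⟩, j, hpt⟩

end Nat

namespace Sym

open Cfsg.Agent.Omega.OM.Lev.SIn
open Cfsg.Agent.Omega.SQ1.BauS (Sim)

variable {k m : ℕ}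

/-- **`YB` on `C_X(⟨AA⟩)`, symmetric type, pointwise.** -/
theorem exists_ybp (h : GE T H X AA) (hXT : X ≤ T) (N : SymKM T H (zl T H) (cv T H) k m) (hk : 0 < k) (hm : 1 ≤ m)
    (hex : ∃ A ∈ AA, ¬ A ≤ o2 H) (hZ : ¬ H ≤ centralizer (zc T : Set G)) :
    ∃ (ι : Type) (_ : Finite ι) (Ni c : ι → Subgroup G), Concl T H X AA Ni c ∧
      ∃ l, ∀ z ∈ zc T, z ∈ Ni l → z ∈ centralizer (H : Set G) := by
  have h0 := OM.Lev.Sym.syL_gen (Jg := sSup AA) h.hm hk hm N SQ1.FFOf.cv_le SQ1.FFOf.cv_norm h.fam.le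
    (fun A hA hAQ => h.offM hA hAQ) hex (sSup_le h.fam.le) (OM.GSym.T_norm_AA h) (fun A hA => le_sSup hA) le_sup_left
  obtain ⟨ι, J, U, Y, t, r, c⟩ := h0.exists_ch
  obtain ⟨j, x, y, hTr⟩ := h0.exists_tr
  obtain ⟨i, -⟩ := c.ex j x y hTr
  have hin := Sym.in_of h hXT i (c.main h0 Cfsg.Agent.Omega.SQ1.SymCyc.exists_pow)
  have hp := c.permR h0
  obtain ⟨K, hK, hKc⟩ := hin.exists_blks hp
  have hsup := ((hK i).sup_T hin le_sup_left le_sup_right : H ≤ T ⊔ K i)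
  refine ⟨ι, hin.finite_index, _, _, ⟨YSym.yb hin hK hKc, ⟨i, fun hle => hZ ?_⟩, fun x hx hxc l => ?_,
    fun A hA v hv z _ a ha => Sym.comm_J hin ((le_sSup hA : A ≤ sSup AA) ha) hv⟩, i, fun z hz hzN => ?_⟩
  · exact hsup.trans
      (sup_le (NO3S.Level.le_centralizer_zc T) (le_centralizer_iff.1 hle))
  · have hxX := Xc_of hx hxc
    have hxj := le_of hxc
    obtain ⟨y, hy, hym⟩ := (hK l).mv
    have h1 : K l ≤ centralizer ({x} : Set G) := by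
      refine (hK l).gen_left hin hy hym (hin.t_bau l) (hin.t_not_QQ l) (fun b hb => ?_) ?_
      · exact mem_centralizer_singleton_iff.2 ((mem_BB.1 hb).2 x hxX).symm
      · exact hxj y ((hK l).LH hin hy) ⟨_, hin.tJ l, rfl⟩
    exact mem_centralizer_iff.2 fun z hz => mem_centralizer_singleton_iff.1 (h1 hz)
  · have h1 : H ≤ centralizer ({z} : Set G) := by
      refine hsup.trans (sup_le ?_ ?_)
      · intro t ht
        rw [mem_centralizer_singleton_iff]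
        exact (ChoiceBase.mem_zc.1 hz).2.2 t ht
      · intro l hl
        rw [mem_centralizer_singleton_iff]
        exact mem_centralizer_iff.1 hzN l hl
    exact mem_centralizer_iff.2 fun y hy => mem_centralizer_singleton_iff.1 (h1 hy)

end Sym

/-- **`YB` on `C_X(⟨AA⟩)`, pointwise.** -/
theorem exists_ybp (h : GE T H X AA) (hXT : X ≤ T) (hN : FFThm.ConclM T H) (hex : ∃ A ∈ AA, ¬ A ≤ o2 H)
    (hZ : ¬ H ≤ centralizer (zc T : Set G)) :
    ∃ (ι : Type) (_ : Finite ι) (Ni c : ι → Subgroup G), Concl T H X AA Ni c ∧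
      ∃ l, ∀ z ∈ zc T, z ∈ Ni l → z ∈ centralizer (H : Set G) := by
  rcases hN with ⟨F, _, _, _, k, hk, ⟨N⟩⟩ | ⟨k, m, hk, hm, ⟨N⟩⟩
  · obtain ⟨Ni, c, hc⟩ := Nat.exists_ybp h N hk hex hZ
    exact ⟨Fin k, inferInstance, Ni, c, hc⟩
  · exact Sym.exists_ybp h hXT N hk (by omega) hex hZ

/-- the blocks of `Y` on `C_U(⟨Fam⟩)`, pointwise -/
theorem exists_conclp {U Y : Subgroup G} (s : YS U H T Y) (hFF : StmtM.{u})
    (hex : ∃ E, E ≤ T ∧ MaxMin U H E ∧ ¬ E ≤ o2 Y) :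
    GE T Y U (Fam U H T) ∧ ∃ (ι : Type) (_ : Finite ι) (Ni c : ι → Subgroup G), Concl T Y U (Fam U H T) Ni c ∧
      ∃ l, ∀ z ∈ zc T, z ∈ Ni l → z ∈ centralizer (Y : Set G) := by
  obtain ⟨E, hET, hE, hEY⟩ := hex
  have hfam := bfam (U := U) (H := H) (T := T) (s.TY.trans s.YH)
  have hEF : E ∈ Fam U H T := ⟨hET, Or.inl hE⟩
  have hne : ¬ E ≤ centralizer (zl T Y : Set G) := fun h => hEY ((le_inf hET h).trans s.cap)
  obtain ⟨noV, con⟩ := hFF G T Y s.syl s.min s.c2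
    ⟨E, hET.trans s.TY, NO3S.OneLine.BFam.offM hfam s.U_mul s.VU hEF hne⟩
  have ge : GE T Y U (Fam U H T) :=
    { hm := s.hm
      fam := hfam
      elem := Cfsg.Agent.PLocal.ThompsonJ.isElementaryAbelian_iff.2 ⟨s.U_mul, s.Us⟩
      norm := s.YH.trans s.HU
      VX := s.VU
      QC := s.cap
      noOver := noV }
  exact ⟨ge, exists_ybp ge s.UT con ⟨E, hEF, hEY⟩ s.mv⟩

/-- **NoW+, `q ≥ 3`, step (ii)**: if all maximal offenders of least rank `≤ T` centralise `W j`, one of them is not in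
`O₂(Y)`, and `Y` moves an element of `Z_j ∩ Ω₁Z(T)`: contradiction. -/
theorem psi_false_pt {S : Sylow 2 G} {P B ZJ : Subgroup G} {ι : Type} {L W Z C : ι → Subgroup G} {q : ℕ}
    (h : Bg S P B ZJ L W Z C q) {j : ι} (hq : 3 ≤ q) {U Y : Subgroup G} (s : YS U H T Y) (hFF : StmtM.{u})
    (BT : B ≤ T) (TS : T ≤ (S : Subgroup G)) (WU : W j ≤ U)
    (CQ : U ⊓ centralizer (o2 P : Set G) ≤ zl (S : Subgroup G) P)
    (cen : ∀ E ≤ T, MaxMin U H E → E ≤ centralizer (W j : Set G))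
    (hex : ∃ E, E ≤ T ∧ MaxMin U H E ∧ ¬ E ≤ o2 Y)
    (hz : ∃ z ∈ Z j, z ∈ zc T ∧ z ∉ centralizer (Y : Set G)) : False := by
  obtain ⟨ge, κ, _, Ni, c, hc, l, hl⟩ := exists_conclp s hFF hex
  have WX : W j ≤ Xc U (Fam U H T) := by
    intro w hw
    refine mem_Xc.2 ⟨WU hw, fun A hA a ha => ?_⟩
    rcases hA.2 with h1 | h1
    · exact ((mem_centralizer_iff.1 (cen A hA.1 h1 ha)) w hw).symm
    · exact ((mem_centralizer_iff.1 (h1 ha)) w (WU hw)).symm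
  obtain ⟨z, hz, hzT, hzY⟩ := hz
  have nZ : ∃ i, ¬ Z j ≤ Ni i := ⟨l, fun hZ => hzY (hl z hzT (hZ hz))⟩
  exact (frN_of_yb h hq BT TS hc.yb WX ((inf_le_inf_right _ (Xc_le _ _)).trans CQ) nZ).false

end Cfsg.Agent.Omega.CaseLQ.PsiPt
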