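import Mathlib

/-!
# NoW, `q = 2`, part (ii), version 2 (helper602 #25080): the map `ψ : V_j → ⊕ c_i`, additive form

`T` acts on the abelian group `U` and on the finite set `ι`; `c i ≤ U` are the root lines of the blocks of `Y`, `C i` the
centralisers in `U` of the blocks; `N = V_j`, `z` the `T`-fixed vector of `N`.
-/

set_option autoImplicit false
set_option linter.unusedSectionVars false

namespace Cfsg.Agent.Omega.CaseLQ.PsiT

universe u v w

variable {U : Type u} [AddCommGroup U] {T : Type v} [Group T] [DistribMulAction T U] {ι : Type w} [MulAction T ι]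

/-- The frame (`q = 2`). -/
structure Fr (c C : ι → AddSubgroup U) (Q : Subgroup T) (N : AddSubgroup U) (z : U) : Prop where
  ct : ∀ (t : T) (i : ι), ∀ x ∈ c i, t • x ∈ c (t • i)
  Ct : ∀ (t : T) (i : ι), ∀ x ∈ C i, t • x ∈ C (t • i)
  ne : ∀ i, ∃ x ∈ c i, x ≠ 0
  inf : ∀ i, ∀ x ∈ c i, x ∈ C i → x = 0
  cm : ∀ i m, m ≠ i → c m ≤ C i
  NT : ∀ t : T, ∀ n ∈ N, t • n ∈ N
  NQ : ∀ g ∈ Q, ∀ n ∈ N, g • n = n
  cov : ∀ n ∈ N, ∀ i, ∃ x ∈ c i, n - x ∈ C i
  zN : z ∈ N
  mv : ∀ n ∈ N, n ≠ 0 → n = z ∨ ∃ t : T, t • n - n = z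
  tr : ∃ v ∈ N, ∃ t : T, t • v - v = z ∧ ∀ u : U, (∀ g ∈ Q, g • u = u) → t • u - u = 0 ∨ t • u - u = z
  nz : ∃ i, z ∉ C i

namespace Fr

variable {c C : ι → AddSubgroup U} {Q : Subgroup T} {N : AddSubgroup U} {z : U} (h : Fr c C Q N z)
include h

theorem unique {u : U} {i : ι} {x y : U} (hx : x ∈ c i) (hy : y ∈ c i) (hux : u - x ∈ C i) (huy : u - y ∈ C i) :
    x = y := by
  have h1 : x - y ∈ C i := by
    have := (C i).sub_mem huy hux
    simpa using this
  exact sub_eq_zero.1 (h.inf i _ ((c i).sub_mem hx hy) h1)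

/-- the components of `ψ` -/
theorem exists_psi : ∃ p : U → ι → U, (∀ n ∈ N, ∀ i, p n i ∈ c i) ∧ (∀ n ∈ N, ∀ i, n - p n i ∈ C i) ∧
    (∀ n ∈ N, ∀ n' ∈ N, ∀ i, p (n - n') i = p n i - p n' i) ∧
    (∀ t : T, ∀ n ∈ N, ∀ i, p (t • n) (t • i) = t • p n i) := by
  choose! p hp hpC using h.cov
  refine ⟨p, hp, hpC, fun n hn n' hn' i => ?_, fun t n hn i => ?_⟩
  · refine h.unique (u := n - n') (hp _ (N.sub_mem hn hn') i) ((c i).sub_mem (hp n hn i) (hp n' hn' i))
      (hpC _ (N.sub_mem hn hn') i) ?_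
    have := (C i).sub_mem (hpC n hn i) (hpC n' hn' i)
    rwa [sub_sub_sub_comm] at this
  · refine h.unique (u := t • n) (hp _ (h.NT t n hn) _) (h.ct t i _ (hp n hn i)) (hpC _ (h.NT t n hn) _) ?_
    have := h.Ct t i _ (hpC n hn i)
    rwa [smul_sub] at this

/-- `z = ψ(z)` lies in `⊕ c_i`. -/
theorem z_mem [Fintype ι] : ∃ f : ι → U, (∀ i, f i ∈ c i) ∧ z = ∑ i, f i := by
  classical
  obtain ⟨p, hp, hpC, psub, psmul⟩ := h.exists_psi
  obtain ⟨v, hv, t, hvz, ht⟩ := h.tr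
  have hsmul : ∀ (s : T) (n : U), n ∈ N → s • (∑ i, p n i) = ∑ i, p (s • n) i := by
    intro s n hn
    rw [Finset.smul_sum]
    exact Fintype.sum_equiv (MulAction.toPerm s) _ _ fun i => (psmul s n hn i).symm
  have hQ : ∀ g ∈ Q, g • (∑ i, p v i) = ∑ i, p v i := by
    intro g hg
    rw [hsmul g v hv, h.NQ g hg v hv]
  have h1 : t • (∑ i, p v i) - ∑ i, p v i = ∑ i, p z i := by
    rw [hsmul t v hv, ← Finset.sum_sub_distrib]
    refine Finset.sum_congr rfl fun i _ => ?_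
    rw [← psub _ (h.NT t v hv) _ hv, hvz]
  refine ⟨p z, hp z h.zN, ?_⟩
  rcases ht _ hQ with h2 | h2
  · exfalso
    rw [h1] at h2
    obtain ⟨i, hi⟩ := h.nz
    apply hi
    have h3 : (∑ m, p z m) - p z i ∈ C i := by
      have h1 : (∑ m, p z m) - p z i = ∑ m ∈ Finset.univ.erase i, p z m := by
        rw [← Finset.add_sum_erase Finset.univ (p z) (Finset.mem_univ i)]
        abel
      rw [h1]
      exact (C i).sum_mem fun m hm => h.cm i m (Finset.ne_of_mem_erase hm) (hp z h.zN m)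
    rw [h2, zero_sub] at h3
    have h4 := (C i).sub_mem (hpC z h.zN i) h3
    have h5 := (C i).neg_mem h3
    rw [neg_neg] at h5
    have h6 := (C i).add_mem (hpC z h.zN i) h5
    rwa [sub_add_cancel] at h6
  · rw [h1] at h2
    exact h2.symm

/-- an element which centralises all `c_i` centralises `N`. -/
theorem fix {t : T} (ht : ∀ i, ∀ x ∈ c i, t • x = x) : ∀ n ∈ N, t • n = n := by
  obtain ⟨p, hp, hpC, psub, psmul⟩ := h.exists_psi
  have hti : ∀ i : ι, t • i = i := by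
    intro i
    by_contra hne
    obtain ⟨x, hx, hx0⟩ := h.ne i
    have h1 := h.ct t i x hx
    rw [ht i x hx] at h1
    exact hx0 (h.inf i x hx (h.cm i _ hne h1))
  -- `ψ` is injective
  have hinj : ∀ n ∈ N, (∀ i, p n i = 0) → n = 0 := by
    intro n hn hpn
    by_contra hn0
    have hz : (∀ i, p z i = 0) → False := by
      intro hz
      obtain ⟨i, hi⟩ := h.nz
      apply hi
      have := hpC z h.zN i
      rwa [hz i, sub_zero] at this
    rcases h.mv n hn hn0 with rfl | ⟨s, hs⟩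
    · exact hz hpn
    · apply hz
      intro i
      rw [← hs, psub _ (h.NT s n hn) _ hn, hpn i, sub_zero]
      have := psmul s n hn (s⁻¹ • i)
      rw [smul_inv_smul] at this
      rw [this, hpn, smul_zero]
  intro n hn
  have h1 : t • n - n = 0 := by
    refine hinj _ (N.sub_mem (h.NT t n hn) hn) fun i => ?_
    rw [psub _ (h.NT t n hn) _ hn]
    have := psmul t n hn i
    rw [hti i] at this
    rw [this, ht i _ (hp n hn i), sub_self]
  exact sub_eq_zero.1 h1

/-- `(⊕ c_i) ∩ ⋂ C_i = 0` -/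
theorem sum_zero [Fintype ι] {f : ι → U} (hf : ∀ i, f i ∈ c i) (hC : ∀ i, (∑ m, f m) ∈ C i) : ∀ i, f i = 0 := by
  classical
  intro i
  have h3 : (∑ m, f m) - f i ∈ C i := by
    have h1 : (∑ m, f m) - f i = ∑ m ∈ Finset.univ.erase i, f m := by
      rw [← Finset.add_sum_erase Finset.univ f (Finset.mem_univ i)]
      abel
    rw [h1]
    exact (C i).sum_mem fun m hm => h.cm i m (Finset.ne_of_mem_erase hm) (hf m)
  refine h.inf i _ (hf i) ?_
  have := (C i).sub_mem (hC i) h3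
  rwa [sub_sub_cancel] at this

/-- **(A3)**: if `z = ∑ f_i`, every `c_i` has order `2` and `C_U(T) ≤ ⟨z⟩ + ⋂ C_i`, then `z = ∑ e_i`. -/
theorem eq_sum [Fintype ι] [Nonempty ι] {e : ι → U} (he : ∀ i, e i ∈ c i) (he0 : ∀ i, e i ≠ 0)
    (hce : ∀ i, ∀ x ∈ c i, x = 0 ∨ x = e i)
    (hfix : ∀ u : U, (∀ t : T, t • u = u) → (∀ i, u ∈ C i) ∨ ∀ i, u - z ∈ C i) : z = ∑ i, e i := by
  classical
  obtain ⟨f, hf, hz⟩ := h.z_mem
  have hte : ∀ (t : T) (i : ι), t • e i = e (t • i) := by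
    intro t i
    rcases hce (t • i) _ (h.ct t i _ (he i)) with h1 | h1
    · exact absurd h1 ((smul_ne_zero_iff_ne t).2 (he0 i))
    · exact h1
  have hT : ∀ t : T, t • (∑ i, e i) = ∑ i, e i := by
    intro t
    rw [Finset.smul_sum]
    exact Fintype.sum_equiv (MulAction.toPerm t) _ _ fun i => hte t i
  rcases hfix _ hT with h1 | h1
  · exfalso
    have := h.sum_zero he h1 (Classical.arbitrary ι)
    exact he0 _ this
  · have h2 : (∑ i, e i) - z = ∑ i, (e i - f i) := by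
      rw [hz, Finset.sum_sub_distrib]
    have h3 : ∀ i, e i - f i = 0 := by
      refine h.sum_zero (fun i => (c i).sub_mem (he i) (hf i)) fun i => ?_
      rw [← h2]
      exact h1 i
    rw [hz]
    exact Finset.sum_congr rfl fun i _ => (sub_eq_zero.1 (h3 i)).symm

end Fr

/-- **(B)**: the centres of the transvections in `EE`. `P` = `P_j`, `B` its subgroup; `OO` a `P`-orbit; members are the
`e_i` or lie in all `C_i`. Then `P` fixes `∑ e_i`. -/
theorem fix_sum {P : Type v} [Group P] [DistribMulAction P U] {κ : Type w} [Fintype κ] [Nonempty κ] {C : κ → AddSubgroup U}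
    {e : κ → U} (OO : Finset U) (hi : ∀ i, e i ∉ C i) (hc : ∀ i m, m ≠ i → e m ∈ C i) (hO : ∀ i, e i ∈ OO)
    (hP : ∀ p : P, ∀ x ∈ OO, p • x ∈ OO) (tr : ∀ x ∈ OO, ∀ y ∈ OO, ∃ p : P, p • x = y)
    (dich : ∀ x ∈ OO, (∃ i, x = e i) ∨ ∀ i, x ∈ C i) (B : Subgroup P)
    (hB : ∀ b ∈ B, ∀ x, (∀ i, x ∈ C i) → ∀ i, b • x ∈ C i)
    (hfix : ∀ u : U, (∀ b ∈ B, b • u = u) → (∀ i, u ∈ C i) → ∀ p : P, p • u = u) :
    ∀ p : P, p • (∑ i, e i) = ∑ i, e i := by
  classical
  have mem_C : ∀ i, ∀ x ∈ OO, x ≠ e i → x ∈ C i := by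
    intro i x hx hne
    rcases dich x hx with ⟨m, rfl⟩ | h
    · exact hc i m fun h => hne (by rw [h])
    · exact h i
  -- images
  have himg : ∀ (p : P) (S : Finset U), p • (∑ x ∈ S, x) = ∑ x ∈ S.image (fun x => p • x), x := by
    intro p S
    rw [Finset.smul_sum, Finset.sum_image fun x _ y _ hxy => (smul_left_cancel_iff p).1 hxy]
  have key : ∀ S S' : Finset U, S ⊆ OO → S' ⊆ OO → (∑ x ∈ S, x) = ∑ x ∈ S', x → S ⊆ S' := by
    intro S S' hS hS' he x hx
    by_contra hx'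
    let i : κ := Classical.arbitrary κ
    obtain ⟨p, hp⟩ := tr x (hS hx) (e i) (hO i)
    have h1 : (∑ x ∈ S.image (fun x => p • x), x) = ∑ x ∈ S'.image (fun x => p • x), x := by
      rw [← himg, ← himg, he]
    have h2 : e i ∈ S.image (fun x => p • x) := Finset.mem_image.2 ⟨x, hx, hp⟩
    have h3 : e i ∉ S'.image (fun x => p • x) := by
      intro h
      obtain ⟨y, hy, hye⟩ := Finset.mem_image.1 h
      have : y = x := (smul_left_cancel_iff p).1 (hye.trans hp.symm)
      exact hx' (this ▸ hy)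
    have h4 : (∑ x ∈ (S.image (fun x => p • x)).erase (e i), x) ∈ C i := by
      refine (C i).sum_mem fun y hy => ?_
      obtain ⟨hy1, hy2⟩ := Finset.mem_erase.1 hy
      obtain ⟨w, hw, rfl⟩ := Finset.mem_image.1 hy2
      exact mem_C i _ (hP p w (hS hw)) hy1
    have h5 : (∑ x ∈ S'.image (fun x => p • x), x) ∈ C i := by
      refine (C i).sum_mem fun y hy => ?_
      obtain ⟨w, hw, rfl⟩ := Finset.mem_image.1 hy
      exact mem_C i _ (hP p w (hS' hw)) fun h => h3 (h ▸ hy)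
    rw [← h1, ← Finset.add_sum_erase _ _ h2] at h5
    apply hi i
    have := (C i).sub_mem h5 h4
    simpa using this
  have key2 : ∀ S S' : Finset U, S ⊆ OO → S' ⊆ OO → (∑ x ∈ S, x) = ∑ x ∈ S', x → S = S' := fun S S' h1 h2 h3 =>
    Finset.Subset.antisymm (key S S' h1 h2 h3) (key S' S h2 h1 h3.symm)
  -- the second kind
  let O2 : Finset U := OO.filter fun x => ∀ i, x ∈ C i
  have hO2 : O2 ⊆ OO := Finset.filter_subset _ _
  have hBO : ∀ b ∈ B, O2.image (fun x => b • x) = O2 := by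
    intro b hb
    refine Finset.eq_of_subset_of_card_le ?_ ?_
    · intro y hy
      obtain ⟨x, hx, rfl⟩ := Finset.mem_image.1 hy
      obtain ⟨hx1, hx2⟩ := Finset.mem_filter.1 hx
      exact Finset.mem_filter.2 ⟨hP b x hx1, hB b hb x hx2⟩
    · rw [Finset.card_image_of_injective _ fun x y hxy => (smul_left_cancel_iff b).1 hxy]
  have hmu : ∀ p : P, p • (∑ x ∈ O2, x) = ∑ x ∈ O2, x := by
    refine hfix _ (fun b hb => ?_) fun i => (C i).sum_mem fun x hx => (Finset.mem_filter.1 hx).2 i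
    rw [himg, hBO b hb]
  have hempty : ∀ x ∈ OO, ∃ i, x = e i := by
    intro x hx
    rcases dich x hx with h | h
    · exact h
    · exfalso
      let i : κ := Classical.arbitrary κ
      obtain ⟨p, hp⟩ := tr x hx (e i) (hO i)
      have h1 : O2.image (fun x => p • x) = O2 := by
        refine key2 _ _ (fun y hy => ?_) hO2 ?_
        · obtain ⟨w, hw, rfl⟩ := Finset.mem_image.1 hy
          exact hP p w (hO2 hw)
        · rw [← himg, hmu]
      have h2 : e i ∈ O2 := by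
        rw [← h1]
        exact Finset.mem_image.2 ⟨x, Finset.mem_filter.2 ⟨hx, h⟩, hp⟩
      exact hi i ((Finset.mem_filter.1 h2).2 i)
  have hinj : Function.Injective e := by
    intro i m he
    by_contra hne
    exact hi i (he ▸ hc i m fun h => hne h.symm)
  have hOO : OO = Finset.univ.image e := by
    ext x
    constructor
    · intro hx
      obtain ⟨i, rfl⟩ := hempty x hx
      exact Finset.mem_image.2 ⟨i, Finset.mem_univ _, rfl⟩
    · intro hx
      obtain ⟨i, -, rfl⟩ := Finset.mem_image.1 hx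
      exact hO i
  intro p
  have h1 : (∑ i, e i) = ∑ x ∈ OO, x := by
    rw [hOO, Finset.sum_image fun x _ y _ hxy => hinj hxy]
  rw [h1, himg]
  congr 1
  refine Finset.eq_of_subset_of_card_le ?_ ?_
  · intro y hy
    obtain ⟨x, hx, rfl⟩ := Finset.mem_image.1 hy
    exact hP p x hx
  · rw [Finset.card_image_of_injective _ fun x y hxy => (smul_left_cancel_iff p).1 hxy]

end Cfsg.Agent.Omega.CaseLQ.PsiT
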