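import Cfsg.Agent.Omega.Node.NoWFiveSel
import Cfsg.Agent.Omega.NO3S.WY.Loc
import Cfsg.Agent.MinSimple.LemXPerm
import Cfsg.Agent.Omega.CaseLQ.OneY

/-!
# CaseL, one `S₅`, weird `Y`: the situation of `PartI.lean`

`V_τ = {1, p 2 p 3, p 2 p 4, p 3 p 4}`, `Z = ⟨aa p⟩`, `Λ = ⟨nn p⟩`, `X5 = N(B ∩ C(V_τ)) ∩ P ∩ C(nn p)`.

* `Tau p N` : `N = V_τ`;  `act_N` : `P ∩ C(nn p)` acts on `V_τ`;  `exists_rot` : `X5` induces a 3-cycle on `V_τ`;
* **`sitFive`** : `Sit H U B (O₂(P)) V_τ ⟨aa p⟩ ⟨nn p⟩ X5 Y`.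
-/

set_option autoImplicit false
set_option linter.unusedSectionVars false

namespace Cfsg.Agent.Omega.CaseLQ.SitFive

open Subgroup Cfsg Cfsg.Agent.ZN Cfsg.Agent.ZN.ChoiceBase
open Cfsg.Agent.ZN.ChoiceSit (Syl syl_not_dvd)
open Cfsg.Agent.MinSimple.MinParabolic (IsMinPar)
open Cfsg.Agent.Omega.NTwo
open Cfsg.Agent.Omega.FFThm (OffM ElemM StmtM)
open Cfsg.Agent.Omega.NO3b.EZero (cl cj_le_cl le_cl)
open Cfsg.Agent.Omega.NO3S.RedC (MaxMin DX GX)
open Cfsg.Agent.Omega.NO3S.WY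
open Cfsg.Agent.Omega.NO3S.Sym.Light (FiveL)
open Cfsg.Agent.Omega.Node.MulX (SymL)
open Cfsg.Agent.Omega.Node.NoWFiveSel (WdF zc_B)
open Cfsg.Agent.Omega.CaseLQ

universe u

variable {G : Type u} [Group G]

/-- `N = V_τ`, `τ = {2, 3, 4}` -/
def Tau (p : Fin 5 → G) (N : Subgroup G) : Prop :=
  ∀ x, x ∈ N ↔ x = 1 ∨ x = p 2 * p 3 ∨ x = p 2 * p 4 ∨ x = p 3 * p 4

/-- `N(B ∩ C(N)) ∩ P ∩ C(nn p)` -/
def X5 (P B N : Subgroup G) (p : Fin 5 → G) : Subgroup G :=
  (P ⊓ centralizer ({nn p} : Set G)) ⊓ normalizer ((B ⊓ centralizer (N : Set G) : Subgroup G) : Set G)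

section fv

variable {P : Subgroup G} {p : Fin 5 → G} (h : Fv P p)
include h

theorem tau_closure : Tau p (closure {p 2 * p 3, p 3 * p 4}) := by
  intro x
  have e : p 2 * p 3 * (p 3 * p 4) = p 2 * p 4 := by
    rw [mul_assoc, ← mul_assoc (p 3), h.sq, one_mul]
  constructor
  · intro hx
    have hm : ∀ i j : Fin 5, (p i * p j) * (p i * p j) = 1 := fun i j => by
      rw [mul_assoc, ← mul_assoc (p j), h.comm j i, mul_assoc (p i), h.sq, mul_one, h.sq]
    have h23 : p 2 * p 3 = p 3 * p 2 := h.comm _ _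
    have h24 : p 2 * p 4 = p 4 * p 2 := h.comm _ _
    have h34 : p 3 * p 4 = p 4 * p 3 := h.comm _ _
    induction hx using closure_induction with
    | mem x hx =>
      rcases hx with rfl | hx
      · simp
      · rw [Set.mem_singleton_iff] at hx
        simp [hx]
    | one => simp
    | inv x hx ih =>
      rcases ih with rfl | rfl | rfl | rfl
      · simp
      · right; left; exact inv_eq_of_mul_eq_one_left (hm _ _)
      · right; right; left; exact inv_eq_of_mul_eq_one_left (hm _ _)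
      · right; right; right; exact inv_eq_of_mul_eq_one_left (hm _ _)
    | mul x y hx hy ihx ihy =>
      have a1 : p 2 * p 3 * (p 2 * p 4) = p 3 * p 4 := by
        rw [h23, mul_assoc, ← mul_assoc (p 2), h.sq, one_mul]
      have a2 : p 2 * p 4 * (p 2 * p 3) = p 3 * p 4 := by
        rw [h24, mul_assoc, ← mul_assoc (p 2), h.sq, one_mul, h34]
      have a3 : p 2 * p 4 * (p 3 * p 4) = p 2 * p 3 := by
        rw [h34, mul_assoc, ← mul_assoc (p 4), h.sq, one_mul]
      have a4 : p 3 * p 4 * (p 2 * p 3) = p 2 * p 4 := by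
        rw [h34, mul_assoc, h23, ← mul_assoc (p 3), h.sq, one_mul, h24]
      have a5 : p 3 * p 4 * (p 2 * p 4) = p 2 * p 3 := by
        rw [h24, mul_assoc, ← mul_assoc (p 4), h.sq, one_mul, h23]
      rcases ihx with rfl | rfl | rfl | rfl <;> rcases ihy with rfl | rfl | rfl | rfl <;>
        simp [hm, a1, a2, a3, a4, a5, e]
  · rintro (rfl | rfl | rfl | rfl)
    · exact one_mem _
    · exact subset_closure (by simp)
    · rw [← e]
      exact mul_mem (subset_closure (by simp)) (subset_closure (by simp))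
    · exact subset_closure (by simp)

omit h in
theorem key_perm : ∀ σ : Equiv.Perm (Fin 5), ((σ 0 = 0 ∧ σ 1 = 1) ∨ (σ 0 = 1 ∧ σ 1 = 0)) →
    ∀ i : Fin 5, 2 ≤ i → 2 ≤ σ i := by decide +kernel

omit h in
theorem Tau.one {N : Subgroup G} (_ : Tau p N) : (1 : G) ∈ N := one_mem _

theorem mem_of_pair {N : Subgroup G} (hN : Tau p N) {i j : Fin 5} (hi : 2 ≤ i) (hj : 2 ≤ j) : p i * p j ∈ N := by
  have key : ∀ i : Fin 5, 2 ≤ i → i = 2 ∨ i = 3 ∨ i = 4 := by decide
  rcases key i hi with rfl | rfl | rfl <;> rcases key j hj with rfl | rfl | rfl <;> rw [hN]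
  · left; exact h.sq _
  · right; left; rfl
  · right; right; left; rfl
  · right; left; exact h.comm _ _
  · left; exact h.sq _
  · right; right; right; rfl
  · right; right; left; exact h.comm _ _
  · right; right; right; exact h.comm _ _
  · left; exact h.sq _

/-- the elements of `P ∩ C(nn p)` on the five points -/
theorem act_perm {g : G} (hg : g ∈ P) (hn : g ∈ centralizer ({nn p} : Set G)) :
    ∃ σ : Equiv.Perm (Fin 5), (∀ i, g * p i * g⁻¹ = p (σ i)) ∧ ((σ 0 = 0 ∧ σ 1 = 1) ∨ (σ 0 = 1 ∧ σ 1 = 0)) := by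
  obtain ⟨σ, hσ⟩ := h.perm g hg
  refine ⟨σ, hσ, ?_⟩
  have h1 := mem_cent.1 hn
  rw [nn, cm, hσ, hσ] at h1
  exact h.pair_inj (fun e => absurd (σ.injective e) (by decide)) (by decide) h1

theorem act_N {N : Subgroup G} (hN : Tau p N) {g : G} (hg : g ∈ P) (hn : g ∈ centralizer ({nn p} : Set G)) {x : G}
    (hx : x ∈ N) : g * x * g⁻¹ ∈ N := by
  obtain ⟨σ, hσ, hc⟩ := act_perm h hg hn
  rcases (hN x).1 hx with rfl | rfl | rfl | rfl
  · simp [one_mem]
  all_goals
    rw [cm, hσ, hσ]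
    exact mem_of_pair h hN (key_perm σ hc _ (by decide)) (key_perm σ hc _ (by decide))

theorem norm_N {N : Subgroup G} (hN : Tau p N) : P ⊓ centralizer ({nn p} : Set G) ≤ normalizer (N : Set G) := by
  intro g hg
  rw [mem_normalizer_iff]
  refine fun x => ⟨fun hx => act_N h hN hg.1 hg.2 hx, fun hx => ?_⟩
  have h1 := act_N h hN (inv_mem hg.1) (inv_mem hg.2) hx
  have e : g⁻¹ * (g * x * g⁻¹) * g⁻¹⁻¹ = x := by group
  rwa [e] at h1

theorem sq_N {N : Subgroup G} (hN : Tau p N) {x : G} (hx : x ∈ N) : x * x = 1 := by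
  have hm : ∀ i j : Fin 5, (p i * p j) * (p i * p j) = 1 := fun i j => by
    rw [mul_assoc, ← mul_assoc (p j), h.comm j i, mul_assoc (p i), h.sq, mul_one, h.sq]
  rcases (hN x).1 hx with rfl | rfl | rfl | rfl
  · simp
  all_goals exact hm _ _

theorem ne34 : p 3 * p 4 ≠ 1 := h.mul_ne_one (by decide)

theorem ne24 : p 2 * p 4 ≠ 1 := h.mul_ne_one (by decide)

theorem ne23 : p 2 * p 3 ≠ 1 := h.mul_ne_one (by decide)

theorem ne_a : p 2 * p 4 ≠ p 2 * p 3 := fun e => absurd (h.inj (mul_left_cancel e)) (by decide)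

theorem ne_b : p 3 * p 4 ≠ p 2 * p 3 := fun e => by
  rw [h.comm 2 3] at e
  exact absurd (h.inj (mul_left_cancel e)) (by decide)

theorem ne_c : p 2 * p 4 ≠ p 3 * p 4 := fun e => absurd (h.inj (mul_right_cancel e)) (by decide)

theorem card_N {N : Subgroup G} (hN : Tau p N) : Nat.card N = 4 := by
  have e : (N : Set G) = {1, p 2 * p 3, p 2 * p 4, p 3 * p 4} := by
    ext x
    rw [SetLike.mem_coe, hN]
    simp
  rw [← SetLike.coe_sort_coe, e, Nat.card_coe_set_eq, Set.ncard_insert_of_notMem, Set.ncard_insert_of_notMem,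
    Set.ncard_insert_of_notMem, Set.ncard_singleton]
  · simp [ne_c h]
  · simp [(ne_a h).symm, (ne_b h).symm]
  · simp [(ne23 h).symm, (ne24 h).symm, (ne34 h).symm]

end fv

/-! ### The action of `T = C_S(nn p)` on `V_τ` -/

section std

variable {S P : Subgroup G} {p : Fin 5 → G} (h : Std S P p)
include h

omit h in
theorem key_T : ∀ σ : Equiv.Perm (Fin 5), ((σ 0 = 0 ∧ σ 1 = 1) ∨ (σ 0 = 1 ∧ σ 1 = 0)) → σ 4 = 4 →
    (σ 2 = 2 ∧ σ 3 = 3) ∨ (σ 2 = 3 ∧ σ 3 = 2) := by decide +kernel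

theorem T_le_PC : Std.T S p ≤ P ⊓ centralizer ({nn p} : Set G) := le_inf (Std.T_le.trans h.le) inf_le_right

/-- `b ∈ T` acts on `V_τ` as `1` or as `(2 3)` -/
theorem T_act {N : Subgroup G} (hN : Tau p N) {b : G} (hb : b ∈ Std.T S p) :
    (∀ x ∈ N, b * x = x * b) ∨ (b * (p 2 * p 4) * b⁻¹ = p 3 * p 4 ∧ b * (p 3 * p 4) * b⁻¹ = p 2 * p 4) := by
  have hb' := T_le_PC h hb
  obtain ⟨σ, hσ, hc⟩ := act_perm h.toFv hb'.1 hb'.2
  have h4 : σ 4 = 4 := by
    have h1 := h.fix b (Std.T_le hb)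
    rw [hσ] at h1
    exact h.inj h1
  rcases key_T σ hc h4 with ⟨h2, h3⟩ | ⟨h2, h3⟩
  · left
    intro x hx
    rw [← comm_iff]
    rcases (hN x).1 hx with rfl | rfl | rfl | rfl
    · simp
    all_goals simp only [cm, hσ, h2, h3, h4]
  · right
    simp only [cm, hσ, h2, h3, h4, and_self]

/-- an element of `T` which moves `V_τ` -/
theorem T_sw {N : Subgroup G} (hN : Tau p N) {b : G} (hb : b ∈ Std.T S p) (hm : b ∉ centralizer (N : Set G)) :
    b * (p 2 * p 4) * b⁻¹ = p 3 * p 4 ∧ b * (p 3 * p 4) * b⁻¹ = p 2 * p 4 :=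
  (T_act h hN hb).resolve_left fun h1 => hm (mem_centralizer_iff.2 fun x hx => (h1 x hx).symm)

theorem mem_aa (x : G) : x ∈ zpowers (aa p) ↔ x = 1 ∨ x = aa p := by
  rw [mem_zpowers_iff]
  constructor
  · rintro ⟨n, rfl⟩
    have h3 : aa p ^ (2 : ℤ) = 1 := by
      rw [zpow_ofNat, sq, h.asq]
    rcases Int.even_or_odd' n with ⟨c, hc | hc⟩
    · left; rw [hc, zpow_mul, h3, one_zpow]
    · right; rw [hc, zpow_add, zpow_mul, h3, one_zpow, one_mul, zpow_one]
  · rintro (rfl | rfl)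
    · exact ⟨0, by simp⟩
    · exact ⟨1, by simp⟩

theorem N_inf_cent {N E : Subgroup G} (hN : Tau p N) (hE : E ≤ Std.T S p) (hm : ¬ E ≤ centralizer (N : Set G)) :
    N ⊓ centralizer (E : Set G) = zpowers (aa p) := by
  obtain ⟨e, he, hne⟩ := SetLike.not_le_iff_exists.1 hm
  obtain ⟨h1, h2⟩ := T_sw h hN (hE he) hne
  have hz := mem_aa h
  ext x
  rw [mem_inf, hz]
  constructor
  · rintro ⟨hx, hxe⟩
    have h3 := comm_iff.2 ((mem_centralizer_iff.1 hxe e he))
    rcases (hN x).1 hx with rfl | rfl | rfl | rfl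
    · exact Or.inl rfl
    · exact Or.inr rfl
    · exact absurd (h3.symm.trans h1) (ne_c h.toFv)
    · exact absurd (h2.symm.trans h3) (ne_c h.toFv)
  · rintro (rfl | rfl)
    · exact ⟨one_mem _, one_mem _⟩
    · exact ⟨(hN _).2 (Or.inr (Or.inl rfl)), mem_centralizer_iff.2 fun b hb => comm_iff.1 (h.T_a (hE hb))⟩

/-- `|E : C_E(V_τ)| ≤ 2` -/
theorem rel_two {N E : Subgroup G} (hN : Tau p N) (hE : E ≤ Std.T S p) (hm : ¬ E ≤ centralizer (N : Set G)) :
    (centralizer (N : Set G)).relIndex E = 2 := by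
  obtain ⟨e, he, hne⟩ := SetLike.not_le_iff_exists.1 hm
  have key : ∀ x ∈ E, ∀ y ∈ E, x ∉ centralizer (N : Set G) → y ∉ centralizer (N : Set G) →
      x * y ∈ centralizer (N : Set G) := by
    intro x hx y hy hx' hy'
    obtain ⟨h1, h2⟩ := T_sw h hN (hE hx) hx'
    obtain ⟨h3, h4⟩ := T_sw h hN (hE hy) hy'
    have h5 := h.T_a (hE hx)
    have h6 := h.T_a (hE hy)
    refine mem_centralizer_iff.2 fun v hv => (comm_iff.1 ?_).symm
    rw [← cc]
    rcases (hN v).1 hv with rfl | rfl | rfl | rfl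
    · simp
    · rw [h6, h5]
    · rw [h3, h2]
    · rw [h4, h1]
  rw [Subgroup.relIndex, index_eq_two_iff]
  refine ⟨⟨e, he⟩, fun b => ?_⟩
  rw [mem_subgroupOf, mem_subgroupOf]
  change Xor ((b : G) * e ∈ centralizer (N : Set G)) ((b : G) ∈ centralizer (N : Set G))
  by_cases hb : (b : G) ∈ centralizer (N : Set G)
  · refine Or.inr ⟨hb, fun h4 => hne ?_⟩
    have := mul_mem (inv_mem hb) h4
    rwa [inv_mul_cancel_left] at this
  · exact Or.inl ⟨key _ b.2 _ he hb hne, hb⟩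

/-- `[V_τ, E] ≤ ⟨aa p⟩` -/
theorem commIn {N E : Subgroup G} (hN : Tau p N) (hE : E ≤ Std.T S p) : CommIn E N (zpowers (aa p)) := by
  intro e he u hu
  rcases T_act h hN (hE he) with h1 | ⟨h1, h2⟩
  · rw [comm_iff.2 (h1 u hu), mul_inv_cancel]
    exact one_mem _
  · have h3 := h.T_a (hE he)
    have a1 : p 3 * p 4 * (p 2 * p 4)⁻¹ = aa p := by
      rw [mul_inv_rev, h.pinv, h.pinv, mul_assoc, ← mul_assoc (p 4), h.sq, one_mul, h.comm 3 2]
    have a2 : p 2 * p 4 * (p 3 * p 4)⁻¹ = aa p := by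
      rw [mul_inv_rev, h.pinv, h.pinv, mul_assoc, ← mul_assoc (p 4), h.sq, one_mul]
    rcases (hN u).1 hu with rfl | rfl | rfl | rfl
    · rw [mul_one, mul_inv_cancel, inv_one, mul_one]; exact one_mem _
    · rw [h3, mul_inv_cancel]; exact one_mem _
    · rw [h1, a1]; exact mem_zpowers _
    · rw [h2, a2]; exact mem_zpowers _

/-- `aa p ∈ Z'` if `[V_τ, E] ≤ Z'` -/
theorem le_of_commIn {N E : Subgroup G} (hN : Tau p N) (hE : E ≤ Std.T S p) (hm : ¬ E ≤ centralizer (N : Set G))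
    {Z' : Subgroup G} (hZ : CommIn E N Z') : zpowers (aa p) ≤ Z' := by
  obtain ⟨e, he, hne⟩ := SetLike.not_le_iff_exists.1 hm
  obtain ⟨h1, -⟩ := T_sw h hN (hE he) hne
  have a1 : p 3 * p 4 * (p 2 * p 4)⁻¹ = aa p := by
    rw [mul_inv_rev, h.pinv, h.pinv, mul_assoc, ← mul_assoc (p 4), h.sq, one_mul, h.comm 3 2]
  have h2 := hZ e he (p 2 * p 4) ((hN _).2 (Or.inr (Or.inr (Or.inl rfl))))
  rw [h1, a1] at h2
  rwa [zpowers_le]

/-- `|⟨aa p⟩| = 2` -/
theorem card_aa : Nat.card (zpowers (aa p)) = 2 := by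
  rw [Nat.card_zpowers, orderOf_eq_prime (p := 2) (by rw [sq]; exact h.asq) h.a_ne_one]

end std

section main

variable [Finite G] {S : Sylow 2 G} {P B ZJ : Subgroup G} {p : Fin 5 → G} {N : Subgroup G}

/-- **`X5` induces a 3-cycle on `V_τ`.** -/
theorem exists_rot (hp : FiveL S P p) (hN : Tau p N) : ∃ x ∈ X5 P (Std.T (S : Subgroup G) p) N p,
    x * (p 2 * p 3) * x⁻¹ = p 3 * p 4 ∧ x * (p 3 * p 4) * x⁻¹ = p 2 * p 4 ∧ x * (p 2 * p 4) * x⁻¹ = p 2 * p 3 := by
  obtain ⟨σ, h0, h1, h2, h3, h4⟩ : ∃ σ : Equiv.Perm (Fin 5), σ 0 = 0 ∧ σ 1 = 1 ∧ σ 2 = 3 ∧ σ 3 = 4 ∧ σ 4 = 2 := by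
    decide +kernel
  obtain ⟨g, hg, hσ⟩ := hp.std.full σ
  have hX : g ∈ P ⊓ centralizer ({nn p} : Set G) := by
    refine ⟨hg, mem_cent.2 ?_⟩
    rw [nn, cm, hσ, hσ, h0, h1]
  have hTX := T_le_PC hp.std
  have hNX := norm_N hp.std.toFv hN
  have hnd := syl_not_dvd (Node.ELXUni.syl_T hp hTX inf_le_right)
  obtain ⟨l, hl, n, hn, e⟩ := MinSimple.LemXPerm.exists_frattini hTX (S.isPGroup'.to_le Std.T_le) hnd
    (hNX.trans (MinSimple.DBlkReduce.nc N)) hX
  refine ⟨n, hn, ?_⟩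
  have key : ∀ x ∈ N, n * x * n⁻¹ = g * x * g⁻¹ := by
    intro x hx
    have h5 : n * x * n⁻¹ ∈ N := (mem_normalizer_iff.1 (hNX hn.1) x).1 hx
    have h6 := mem_centralizer_iff.1 hl _ h5
    rw [e]
    calc n * x * n⁻¹ = n * x * n⁻¹ * (l * l⁻¹) := by group
      _ = (n * x * n⁻¹ * l) * l⁻¹ := by group
      _ = (l * (n * x * n⁻¹)) * l⁻¹ := by rw [h6]
      _ = l * n * x * (l * n)⁻¹ := by group
  rw [key _ ((hN _).2 (Or.inr (Or.inl rfl))), key _ ((hN _).2 (Or.inr (Or.inr (Or.inr rfl)))),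
    key _ ((hN _).2 (Or.inr (Or.inr (Or.inl rfl))))]
  refine ⟨?_, ?_, ?_⟩
  · rw [cm, hσ, hσ, h2, h3]
  · rw [cm, hσ, hσ, h3, h4]; exact hp.std.comm _ _
  · rw [cm, hσ, hσ, h2, h4]; exact hp.std.comm _ _

/-- **`PartI.Sit` for one `S₅`.** -/
theorem sitFive (hFF : StmtM.{u}) (hp : FiveL S P p) (hN : Tau p N) {Y H U : Subgroup G}
    (m : Loc S P (Std.T (S : Subgroup G) p) Y (zpowers (nn p)) H U) (hY : Y ≤ centralizer ({nn p} : Set G))
    (mv : ¬ Y ≤ centralizer (zc (Std.T (S : Subgroup G) p) : Set G))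
    (hX : P ⊓ centralizer ({nn p} : Set G) ≤ H) (hU : zc (Std.T (S : Subgroup G) p) ≤ U) :
    Sit H U (Std.T (S : Subgroup G) p) (o2 P) N (zpowers (aa p)) (zpowers (nn p))
      (X5 P (Std.T (S : Subgroup G) p) N p) Y := by
  have hs := hp.std
  have haU : aa p ∈ U := hU (hs.mem_zcT.2 (Or.inr (Or.inr (Or.inl rfl))))
  have haN : aa p ∈ N := (hN _).2 (Or.inr (Or.inl rfl))
  have hTX := T_le_PC hs
  have hXN := norm_N hs.toFv hN
  have hX5 : X5 P (Std.T (S : Subgroup G) p) N p ≤ P ⊓ centralizer ({nn p} : Set G) := inf_le_left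
  obtain ⟨x, hx, hx1, hx2, hx3⟩ := exists_rot hp hN
  have hxH : x ∈ H := hX (hX5 hx)
  have hxU : ∀ u ∈ U, x * u * x⁻¹ ∈ U := fun u hu => (mem_normalizer_iff.1 (m.Un hxH) u).1 hu
  have h34U : p 3 * p 4 ∈ U := hx1 ▸ hxU _ haU
  have h24U : p 2 * p 4 ∈ U := hx2 ▸ hxU _ h34U
  have NU : N ≤ U := fun u hu => by
    rcases (hN u).1 hu with rfl | rfl | rfl | rfl
    · exact one_mem _
    · exact haU
    · exact h24U
    · exact h34U
  have hNL : N ≤ zl (S : Subgroup G) P := by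
    rw [hp.gen]
    have hm : ∀ i, p i ∈ closure (Set.range p) := fun i => subset_closure ⟨i, rfl⟩
    intro u hu
    rcases (hN u).1 hu with rfl | rfl | rfl | rfl
    · exact one_mem _
    all_goals exact mul_mem (hm _) (hm _)
  have hTa : Std.T (S : Subgroup G) p ≤ centralizer (zpowers (aa p) : Set G) := fun b hb => by
    rw [mem_centralizer_iff]
    rintro _ ⟨n, rfl⟩
    have h1 : Commute b (aa p) := comm_iff.1 (hs.T_a hb)
    exact (h1.zpow_right n).eq.symm
  have hVU : ZN.zl (Std.T (S : Subgroup G) p) Y ≤ U := ZN.zl_le hU (m.YH.trans m.Un)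
  have hcN : centralizer (N : Set G) ≤ centralizer (zpowers (aa p) : Set G) :=
    centralizer_le (by exact_mod_cast (zpowers_le.2 haN))
  have TZ : Std.T (S : Subgroup G) p ≤ normalizer (zpowers (aa p) : Set G) :=
    hTa.trans (centralizer_le_normalizer _)
  have QZ : o2 P ≤ centralizer (zpowers (aa p) : Set G) := m.QT.trans hTa
  have hcard := card_aa hs
  exact
    { Uc := m.Uc
      Us := m.Us
      HU := m.Un
      TH := m.TH
      T2 := S.isPGroup'.to_le Std.T_le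
      QT := m.QT
      TZ := TZ
      UT := m.UT
      NU := NU
      QN := by
        have h1 : N ≤ zc (o2 P) := by rw [m.cl.zc_eq]; exact hNL
        exact (NO3S.Level.le_centralizer_zc _).trans (centralizer_le h1)
      ZN := zpowers_le.2 haN
      Zne := fun e => hs.a_ne_one (zpowers_eq_bot.1 e)
      card := by rw [hcard, card_N hs.toFv hN]; norm_num
      PH := hX5.trans hX
      TP := le_inf hTX (by
        have hc := (hTX.trans hXN).trans (MinSimple.DBlkReduce.nc N)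
        intro t ht
        rw [mem_normalizer_iff]
        intro y
        rw [mem_inf, mem_inf, ← (mem_normalizer_iff.1 (le_normalizer ht) y), ← (mem_normalizer_iff.1 (hc ht) y)])
      PN := hX5.trans hXN
      PQ := hX5.trans (inf_le_left.trans (ZN.le_normalizer_o2 P))
      PC := inf_le_right
      YH := m.YH
      TY := m.syl.1
      oY := ChoiceSit.o2_le_syl m.syl
      mv := fun hc => mv (by
        intro y hy
        have h2 : y * aa p * y⁻¹ ∈ zpowers (aa p) := (mem_normalizer_iff.1 (hc hy) _).1 (mem_zpowers _)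
        have h3 : y * aa p * y⁻¹ = aa p := by
          rcases (mem_aa hs _).1 h2 with h2 | h2
          · exact absurd (conj_eq_one_iff.1 h2) hs.a_ne_one
          · exact h2
        have h4 : y * nn p * y⁻¹ = nn p := mem_cent.1 (hY hy)
        refine mem_centralizer_iff.2 fun u hu => (comm_iff.1 ?_).symm
        rcases hs.mem_zcT.1 hu with rfl | rfl | rfl | rfl
        · simp
        · exact h4
        · exact h3
        · rw [← hs.na, cm, h4, h3])
      HL := m.HC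
      fix := fun u hu => by
        rcases hs.mem_zcT.1 (m.cUT hu) with h1 | h1 | h1 | h1 <;> rw [h1]
        · exact one_mem _
        · exact mem_sup_right (mem_zpowers _)
        · exact mem_sup_left (mem_zpowers _)
        · rw [← hs.an]
          exact mul_mem (mem_sup_left (mem_zpowers _)) (mem_sup_right (mem_zpowers _))
      noN := fun E hE _ hm => by
        rw [N_inf_cent hs hN hE hm, hcard, card_N hs.toFv hN]
        have h1 := NO3S.Fld.relIndex_mul_card E (centralizer (N : Set G))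
        rw [rel_two hs hN hE hm] at h1
        omega
      lineN := fun E hE ho => ⟨N_inf_cent hs hN hE ho.ne, commIn hs hN hE, fun Z' hZ => le_of_commIn hs hN hE ho.ne hZ⟩
      irrN := fun E hE ho K hK hKn => by
        obtain ⟨e, he, hne⟩ := SetLike.not_le_iff_exists.1 ho.ne
        obtain ⟨h1, h2⟩ := T_sw hs hN (hE he) hne
        have he1 : e ∈ normalizer (K : Set G) := hKn (le_cl E _ he)
        have he2 : x * e * x⁻¹ ∈ normalizer (K : Set G) := hKn (cj_le_cl hx ⟨e, he, rfl⟩)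
        have k1 : ∀ u ∈ K, e * u * e⁻¹ ∈ K := fun u hu => (mem_normalizer_iff.1 he1 u).1 hu
        have k2 : ∀ u ∈ K, x * e * x⁻¹ * u * (x * e * x⁻¹)⁻¹ ∈ K := fun u hu => (mem_normalizer_iff.1 he2 u).1 hu
        have e1 : x * e * x⁻¹ * (p 2 * p 3) * (x * e * x⁻¹)⁻¹ = p 2 * p 4 := by
          calc x * e * x⁻¹ * (p 2 * p 3) * (x * e * x⁻¹)⁻¹ = x * (e * (x⁻¹ * (p 2 * p 3) * x) * e⁻¹) * x⁻¹ := by group
            _ = x * (e * (p 2 * p 4) * e⁻¹) * x⁻¹ := by rw [← hx3]; group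
            _ = p 2 * p 4 := by rw [h1, hx2]
        have e2 : x * e * x⁻¹ * (p 2 * p 4) * (x * e * x⁻¹)⁻¹ = p 2 * p 3 := by
          calc x * e * x⁻¹ * (p 2 * p 4) * (x * e * x⁻¹)⁻¹ = x * (e * (x⁻¹ * (p 2 * p 4) * x) * e⁻¹) * x⁻¹ := by group
            _ = x * (e * (p 3 * p 4) * e⁻¹) * x⁻¹ := by rw [← hx2]; group
            _ = p 2 * p 3 := by rw [h2, hx3]
        by_cases hK0 : K = ⊥
        · exact Or.inl hK0
        right
        refine le_antisymm hK ?_
        have hall : p 2 * p 3 ∈ K ∧ p 2 * p 4 ∈ K ∧ p 3 * p 4 ∈ K := by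
          obtain ⟨⟨u, hu⟩, hu1⟩ := Subgroup.ne_bot_iff_exists_ne_one.1 hK0
          have hu2 : u ≠ 1 := fun e => hu1 (Subtype.ext e)
          rcases (hN u).1 (hK hu) with rfl | rfl | rfl | rfl
          · exact absurd rfl hu2
          · have a1 : p 2 * p 4 ∈ K := by have := k2 _ hu; rwa [e1] at this
            have a2 : p 3 * p 4 ∈ K := by have := k1 _ a1; rwa [h1] at this
            exact ⟨hu, a1, a2⟩
          · have a1 : p 2 * p 3 ∈ K := by have := k2 _ hu; rwa [e2] at this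
            have a2 : p 3 * p 4 ∈ K := by have := k1 _ hu; rwa [h1] at this
            exact ⟨a1, hu, a2⟩
          · have a1 : p 2 * p 4 ∈ K := by have := k1 _ hu; rwa [h2] at this
            have a2 : p 2 * p 3 ∈ K := by have := k2 _ a1; rwa [e2] at this
            exact ⟨a2, a1, hu⟩
        intro u hu
        rcases (hN u).1 hu with rfl | rfl | rfl | rfl
        · exact one_mem _
        · exact hall.1
        · exact hall.2.1
        · exact hall.2.2
      oneY := oneY_of hFF m.Uc m.Us m.Un m.syl m.min m.c2 mv m.YH hVU m.QT QZ m.nQ TZ }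

end main

end Cfsg.Agent.Omega.CaseLQ.SitFive
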