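import Cfsg.Agent.Omega.EK3.Q.Inst

/-!
# The Sylow group `T_j = C_S(Z_l : l ≠ j)` over `Bg` (`k ≥ 2`)

The facts of `EK3/Q/Inst.lean` over `Bg` alone: `syl` : `T_j` is a Sylow 2-subgroup of `Y_j = C_G(Z_l : l ≠ j)`; `norm_W`,
`norm_Z`, `norm_C`; `ZJ_eq`; **`zcT_le` : `Ω₁Z(T) ≤ (∏_{l ≠ j} Z_l) Z_j`** for `B ≤ T ≤ S`.
-/

set_option autoImplicit false
set_option linter.unusedSectionVars false

namespace Cfsg.Agent.Omega.CaseLQ.Tj

open Subgroup Cfsg Cfsg.Agent.ZN.ChoiceBase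
open Cfsg.Agent.ZN (jj zj bau zc zl o2)
open Cfsg.Agent.ZN.ChoiceSit (Syl exists_syl syl_conj o2_le_syl)
open Cfsg.Agent.Omega.OM Cfsg.Agent.Omega.OM.Uni
open Cfsg.Agent.Omega.NO3S.EThree.Frame
open Cfsg.Agent.Omega.EK3.Q (YQ TY mem_YQ YQ_cent YQ_eq_cent)


universe u

variable {G : Type u} [Group G] {k : ℕ} [Finite G] {S : Sylow 2 G} {P B ZJ : Subgroup G}
  {L W Z C : Fin k → Subgroup G} {q : ℕ} (h : Bg S P B ZJ L W Z C q)
include h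

theorem Z_le_C {l j : Fin k} (hl : l ≠ j) : Z l ≤ C j := (h.fr.blk l).ZV.trans (h.fr.WjC j l hl.symm)

theorem D_le (j : Fin k) : centralizer (ZJ : Set G) ≤ YQ Z j := fun _ hx =>
  mem_YQ.2 fun l _ z hz => (mem_centralizer_iff.1 hx z (h.fr.Z_le l hz)).symm

theorem B_le_D : B ≤ centralizer (ZJ : Set G) := h.eqB.le.trans inf_le_right

theorem B_le_Y (j : Fin k) : B ≤ YQ Z j := (B_le_D h).trans (D_le h j)

theorem B_le_T (j : Fin k) : B ≤ TY S Z j := le_inf h.BS (B_le_Y h j)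

theorem T_two (j : Fin k) : IsPGroup 2 (TY S Z j) := S.isPGroup'.to_le inf_le_left

theorem T_norm_B (j : Fin k) : TY S Z j ≤ normalizer (B : Set G) := h.le_norm_B (T_two h j) (B_le_T h j)

/-- `ZJ = ⟨Z l⟩` -/
theorem ZJ_eq : ZJ = ⨆ l, Z l := by
  apply le_antisymm
  · intro z hz
    by_cases hk : k = 0
    · subst hk
      have h1 : z = 1 := h.fr.C0 z (h.fr.ZJV hz) fun i => i.elim0
      rw [h1]; exact one_mem _
    obtain ⟨i⟩ : Nonempty (Fin k) := ⟨⟨0, Nat.pos_of_ne_zero hk⟩⟩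
    obtain ⟨w, hw, c, hc, hcJ, rfl⟩ := h.fr.split_ZJ i hz
    have h1 : c ∈ ⨆ j : {j : Fin k // j ≠ i}, Z j := h.ZC_le i ⟨hcJ, hc⟩
    have h2 : (⨆ j : {j : Fin k // j ≠ i}, Z j) ≤ ⨆ l, Z l := iSup_le fun j => le_iSup Z j.1
    exact mul_mem (le_iSup Z i hw) (h2 h1)
  · exact iSup_le h.fr.Z_le

/-- `ZJ ≤ (∏_{l ≠ j} Z_l) Z_j` -/
theorem ZJ_le (j : Fin k) : ZJ ≤ (⨆ l : {l : Fin k // l ≠ j}, Z l) ⊔ Z j := by
  rw [ZJ_eq h]
  refine iSup_le fun l => ?_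
  by_cases hl : l = j
  · subst hl; exact le_sup_right
  · exact (le_iSup (fun l : {l : Fin k // l ≠ j} => Z l) ⟨l, hl⟩).trans le_sup_left

/-- the elements of `S` centralised by `B ≤ T` and of order 2 are in `ZJ` -/
theorem zc_le_ZJ {T : Subgroup G} (BT : B ≤ T) (TS : T ≤ (S : Subgroup G)) : zc T ≤ ZJ := by
  intro z hz
  obtain ⟨hzT, hz2, hzc⟩ := Cfsg.Agent.ZN.ChoiceBase.mem_zc.1 hz
  have hBz : ∀ b ∈ B, b * z = z * b := fun b hb => hzc b (BT hb)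
  have hzB : z ∈ B := h.mem_B (TS hzT) fun w hw => (hBz w (h.fr.VB (h.fr.ZJV hw))).symm
  have hzV : z ∈ zl (S : Subgroup G) P := by
    have hQ : z ∈ o2 P := (h.fr.mem_Q z hzB).2 fun v hv => (hBz v (h.fr.VB hv)).symm
    exact h.fr.zcQ z hQ hz2 fun y hy => (hBz y (h.fr.QB hy)).symm
  exact (h.fr.mem_ZJ z).2 ⟨hzV, hBz⟩

/-- **`Ω₁Z(T) ≤ (∏_{l ≠ j} Z_l) Z_j`** -/
theorem zcT_le {T : Subgroup G} (BT : B ≤ T) (TS : T ≤ (S : Subgroup G)) (j : Fin k) :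
    zc T ≤ (⨆ l : {l : Fin k // l ≠ j}, Z l) ⊔ Z j := (zc_le_ZJ h BT TS).trans (ZJ_le h j)

theorem Lam_le_C (j : Fin k) : (⨆ l : {l : Fin k // l ≠ j}, Z l) ≤ C j := iSup_le fun l => Z_le_C h l.2

theorem Lam_le_ZJ (j : Fin k) : (⨆ l : {l : Fin k // l ≠ j}, Z l) ≤ ZJ := iSup_le fun l => h.fr.Z_le l

theorem Lam_ne (j : Fin k) : (⨆ l : {l : Fin k // l ≠ j}, Z l : Subgroup G) ≠ ⊥ := by
  obtain ⟨i, hi⟩ := h.two j
  intro e
  exact h.Z_ne i (le_bot_iff.1 (e ▸ le_iSup (fun l : {l : Fin k // l ≠ j} => Z l) ⟨i, hi⟩))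

/-- `Λ_j` and `Z_j` commute -/
theorem Lam_comm (j : Fin k) : ∀ a ∈ (⨆ l : {l : Fin k // l ≠ j}, Z l : Subgroup G), ∀ b ∈ Z j, a * b = b * a :=
  fun _ ha _ hb => h.fr.Vc (h.fr.ZJV (Lam_le_ZJ h j ha)) (h.fr.ZJV (h.fr.Z_le j hb))

omit h [Finite G] in
theorem cj_YQ_le {n : G} {σ : Equiv.Perm (Fin k)} (hσ : ∀ l, cj n (Z l) = Z (σ l)) (j : Fin k) :
    YQ Z (σ j) ≤ cj n (YQ Z j) := by
  intro x hx
  rw [mem_cj]
  refine mem_YQ.2 fun l hl z hz => ?_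
  have h1 : n * z * n⁻¹ ∈ Z (σ l) := (hσ l) ▸ ⟨z, hz, rfl⟩
  have h2 := mem_YQ.1 hx (σ l) (fun e => hl (σ.injective e)) _ h1
  have h3 := congrArg (fun t => n⁻¹ * t * n) h2
  have e1 : n⁻¹ * (x * (n * z * n⁻¹)) * n = n⁻¹ * x * n * z := by group
  have e2 : n⁻¹ * (n * z * n⁻¹ * x) * n = z * (n⁻¹ * x * n) := by group
  rw [← e1, ← e2]
  exact h3

omit h [Finite G] in
theorem cj_YQ {n : G} {σ : Equiv.Perm (Fin k)} (hσ : ∀ l, cj n (Z l) = Z (σ l)) (j : Fin k) :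
    cj n (YQ Z j) = YQ Z (σ j) := by
  refine le_antisymm ?_ (cj_YQ_le hσ j)
  have hσ' : ∀ l, cj n⁻¹ (Z l) = Z (σ.symm l) := by
    intro l
    have h1 := hσ (σ.symm l)
    rw [Equiv.apply_symm_apply] at h1
    rw [← h1, cj_inv_cj]
  have h2 := cj_YQ_le hσ' (σ j)
  rw [Equiv.symm_apply_apply] at h2
  have h3 := cj_mono n h2
  rwa [cj_cj_inv] at h3

/-- **`N_G(B)` permutes everything** -/
theorem conj {n : G} (hn : n ∈ normalizer (B : Set G)) : ∃ σ : Equiv.Perm (Fin k), ∀ l,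
    cj n (W l) = W (σ l) ∧ cj n (Z l) = Z (σ l) ∧ cj n (YQ Z l) = YQ Z (σ l) := by
  obtain ⟨σ, hσ⟩ := h.perm_W hn
  exact ⟨σ, fun l => ⟨(hσ l).1, (hσ l).2, cj_YQ (fun l => (hσ l).2) l⟩⟩

/-- `N_G(B) ∩ Y_j` fixes all indices -/
theorem fixB {n : G} (hn : n ∈ normalizer (B : Set G)) {j : Fin k} (hY : n ∈ YQ Z j) (l : Fin k) :
    cj n (W l) = W l ∧ cj n (Z l) = Z l := by
  obtain ⟨σ, hσ⟩ := h.perm_W hn
  have h1 : ∀ l, l ≠ j → σ l = l := by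
    intro l hl
    refine h.Z_inj ?_
    rw [← (hσ l).2]
    exact mem_normalizer_iff_cj.1 (centralizer_le_normalizer _ (YQ_cent hl hY))
  have h2 : σ l = l := by
    by_cases hl : l = j
    · subst hl
      by_contra hne
      exact hne (σ.injective (h1 _ hne))
    · exact h1 l hl
  have h3 := hσ l
  rwa [h2] at h3

theorem T_norm_W (j l : Fin k) : TY S Z j ≤ normalizer (W l : Set G) := fun _ ht =>
  mem_normalizer_iff_cj.2 (fixB h (T_norm_B h j ht) ht.2 l).1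

theorem T_norm_Z (j l : Fin k) : TY S Z j ≤ normalizer (Z l : Set G) := fun _ ht =>
  mem_normalizer_iff_cj.2 (fixB h (T_norm_B h j ht) ht.2 l).2

omit h in
theorem cj_T {s : G} (hs : s ∈ (S : Subgroup G)) {σ : Equiv.Perm (Fin k)} (hσ : ∀ l, cj s (Z l) = Z (σ l))
    (j : Fin k) : cj s (TY S Z j) = TY S Z (σ j) := by
  unfold TY
  rw [cj_inf, cj_YQ hσ j, cj_eq_of_mem_normalizer (Subgroup.le_normalizer hs)]

theorem card_T (i j : Fin k) : Nat.card (TY S Z i) = Nat.card (TY S Z j) := by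
  obtain ⟨s, hs, e⟩ := h.trans i j
  obtain ⟨σ, hσ⟩ := conj h (h.S_norm_B hs)
  have e2 : σ i = j := h.W_inj (by rw [← (hσ i).1, e])
  rw [← e2, ← cj_T hs (fun l => (hσ l).2.1) i, card_cj]

/-- **`T_j` is a Sylow 2-subgroup of `Y_j`** -/
theorem syl (j : Fin k) : Syl (TY S Z j) (YQ Z j) := by
  refine ⟨inf_le_right, T_two h j, fun R hR h2 hle => ?_⟩
  symm
  refine Subgroup.eq_of_le_of_card_ge hle ?_
  have hBR : B ≤ R := (B_le_T h j).trans hle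
  have h1 : R ≤ normalizer (B : Set G) := h.le_norm_B h2 hBR
  obtain ⟨R', hR', hle'⟩ := exists_syl h2 h1
  have hS : Syl (S : Subgroup G) (normalizer (B : Set G)) :=
    ⟨h.S_norm_B, S.isPGroup', fun _ _ hT hST => S.is_maximal' hT hST⟩
  obtain ⟨x, hx, e⟩ := syl_conj hR' hS
  obtain ⟨σ, hσ⟩ := conj h hx
  have h3 : cj x R ≤ TY S Z (σ j) := by
    refine le_inf ?_ ?_
    · rw [← e]
      exact cj_mono x hle'
    · rw [← (hσ j).2.2]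
      exact cj_mono x hR
  rw [← card_cj x R, card_T h j (σ j)]
  exact Subgroup.card_le_of_le h3

end Cfsg.Agent.Omega.CaseLQ.Tj
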