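import Cfsg.Agent.Omega.CaseLQ.TwoN
import Cfsg.Agent.Omega.EK3.Base

/-!
# NoW, `q = 2`: the end of the torus argument (#25080 (d), #26033)

`Bg S P B ZJ L W Z C 2`; `C₀ ≤ V_P` a subgroup normalised by `B` with `C₀ ∩ ⟨Z l : l ≠ j⟩ = 1`.

* `le_sup_of` : `C₀ ≤ W_j ⟨Z l : l ≠ j⟩`; `card_le` : `|C₀| ≤ 4`; `W_le` : `|C₀| ≥ 4` gives `W_j ≤ C₀ ⟨Z l : l ≠ j⟩`;
* `pow_le` : `r^n ≤ 4 ≤ r`, `0 < n`: `n = 1`, `r = 4`;
* `end_of` : all together.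
-/

set_option autoImplicit false
set_option linter.unusedSectionVars false

namespace Cfsg.Agent.Omega.CaseLQ.TorEnd2

open Subgroup Cfsg Cfsg.Agent.ZN Cfsg.Agent.ZN.ChoiceBase
open Cfsg.Agent.Omega.OM
open Cfsg.Agent.Omega.NO3S.EThree.Frame (Bg Fg)
open Cfsg.Agent.Omega.CaseLQ.Psi

universe u

variable {G : Type u} [Group G] [Finite G] {S : Sylow 2 G} {P B ZJ : Subgroup G} {ι : Type}
  {L W Z C : ι → Subgroup G} (h : Bg S P B ZJ L W Z C 2) {j : ι} {C₀ : Subgroup G}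

/-- `⟨Z l : l ≠ j⟩` -/
local notation "LL" => (⨆ l ∈ {l | l ≠ j}, Z l)

include h

theorem LL_le_C : (LL : Subgroup G) ≤ C j :=
  iSup₂_le fun l hl => (h.fr.blk l).ZV.trans (h.fr.WjC j l (Ne.symm hl))

theorem LL_le_ZJ : (LL : Subgroup G) ≤ ZJ := iSup₂_le fun l _ => h.fr.Z_le l

/-- `Z_J ∩ C_j ≤ ⟨Z l : l ≠ j⟩` -/
theorem ZJ_inf_C [Finite ι] {x : G} (hx : x ∈ ZJ) (hxC : x ∈ C j) : x ∈ (LL : Subgroup G) := by
  have h1 : ZJ ≤ (LL : Subgroup G) ⊔ Z j := by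
    refine (EK3.ZJ_le h).trans (iSup_le fun l => ?_)
    by_cases hl : l = j
    · subst hl; exact le_sup_right
    · exact (le_iSup₂_of_le (f := fun l (_ : l ∈ {l | l ≠ j}) => Z l) l hl le_rfl).trans le_sup_left
  have hcom : ∀ a ∈ (LL : Subgroup G), ∀ b ∈ Z j, a * b = b * a := fun a ha b hb =>
    h.fr.Vc (h.fr.ZJV (LL_le_ZJ h ha)) (h.fr.ZV j hb)
  obtain ⟨a, ha, b, hb, rfl⟩ := SQ1.Bau.mem_sup_comm hcom (h1 hx)
  have h2 : b ∈ W j ⊓ C j := by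
    refine ⟨(h.fr.blk j).ZV hb, ?_⟩
    have e : b = a⁻¹ * (a * b) := by group
    rw [e]
    exact Subgroup.mul_mem _ (Subgroup.inv_mem _ (LL_le_C h ha)) hxC
  rw [h.fr.dir j, mem_bot] at h2
  rw [h2, mul_one]
  exact ha

/-- the component in `W l` of an element of `C₀` lies in `Z l` -/
theorem comp_mem (hV : C₀ ≤ zl (S : Subgroup G) P) (hB : ∀ b ∈ B, ∀ x ∈ C₀, b * x * b⁻¹ ∈ C₀)
    (hL : C₀ ⊓ LL = ⊥) {l : ι} (hl : l ≠ j) {w c : G} (hw : w ∈ W l) (hc : c ∈ C l) (hx : w * c ∈ C₀) : w ∈ Z l := by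
  by_contra hwZ
  obtain ⟨z, hz, z1⟩ : ∃ z ∈ Z l, z ≠ 1 := by
    by_contra hcon
    push Not at hcon
    exact h.Z_ne l (eq_bot_iff.2 fun x hx => mem_bot.2 (hcon x hx))
  obtain ⟨b, hb, hbC, hbe⟩ := h.root l w hw hwZ z hz
  have h1 : c * b = b * c := mem_centralizer_iff.1 hbC c hc
  have e : b * (w * c) * b⁻¹ * (w * c)⁻¹ = z := by
    have e1 : b * (w * c) * b⁻¹ * (w * c)⁻¹ = b * w * (c * b⁻¹ * c⁻¹) * w⁻¹ := by group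
    have e2 : c * b⁻¹ * c⁻¹ = b⁻¹ := by
      have e3 : c * b⁻¹ * c⁻¹ = (c * b * c⁻¹)⁻¹ := by group
      rw [e3, h1, mul_inv_cancel_right]
    rw [e1, e2, hbe]
  have h2 : z ∈ C₀ ⊓ LL := by
    refine ⟨?_, ?_⟩
    · rw [← e]
      exact Subgroup.mul_mem _ (hB b hb _ hx) (Subgroup.inv_mem _ hx)
    · exact (le_iSup₂_of_le (f := fun l (_ : l ∈ {l | l ≠ j}) => Z l) l hl le_rfl) hz
  rw [hL, mem_bot] at h2
  exact z1 h2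

/-- `C₀ ≤ W_j Λ`, elementwise -/
theorem split_of [Finite ι] (hV : C₀ ≤ zl (S : Subgroup G) P) (hB : ∀ b ∈ B, ∀ x ∈ C₀, b * x * b⁻¹ ∈ C₀)
    (hL : C₀ ⊓ LL = ⊥) {x : G} (hx : x ∈ C₀) : ∃ w ∈ W j, ∃ c ∈ (LL : Subgroup G), x = w * c := by
  obtain ⟨w, hw, c, hc, rfl⟩ := h.fr.WC j x (hV hx)
  refine ⟨w, hw, c, ZJ_inf_C h ?_ hc, rfl⟩
  rw [h.fr.mem_ZJ]
  refine ⟨h.fr.CV j hc, fun b hb => ?_⟩
  have hbc : b * c * b⁻¹ ∈ C j := h.fr.BC j b hb c hc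
  have key : b * c * b⁻¹ * c⁻¹ = 1 := by
    refine h.fr.C0 _ (mul_mem (h.fr.CV j hbc) (inv_mem (h.fr.CV j hc))) fun l => ?_
    by_cases hl : l = j
    · subst hl
      exact mul_mem hbc (inv_mem hc)
    · -- the component of `c` in `W l`
      obtain ⟨w', hw', c', hc', e⟩ := h.fr.WC l c (h.fr.CV j hc)
      have hwl : w ∈ C l := h.fr.WjC l j hl hw
      have h1 : w' ∈ Z l := by
        refine comp_mem h hV hB hL hl hw' (c := w * c') (mul_mem hwl hc') ?_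
        have e2 : w' * (w * c') = w * c := by
          rw [e, ← mul_assoc, h.fr.Vc (h.fr.WV l hw') (h.fr.WV j hw), mul_assoc]
        rw [e2]
        exact hx
      have h2 : b * w' = w' * b := (h.fr.blk l).cZ b hb w' h1
      have e3 : b * c * b⁻¹ * c⁻¹ = w' * (b * c' * b⁻¹ * c'⁻¹) * w'⁻¹ := by
        rw [e]
        have e4 : b * (w' * c') * b⁻¹ * (w' * c')⁻¹ = (b * w') * c' * b⁻¹ * c'⁻¹ * w'⁻¹ := by group
        rw [e4, h2]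
        group
      have h3 : b * c' * b⁻¹ * c'⁻¹ ∈ C l := mul_mem (h.fr.BC l b hb c' hc') (inv_mem hc')
      rw [e3, h.fr.Vc (h.fr.WV l hw') (h.fr.CV l h3), mul_inv_cancel_right]
      exact h3
  exact mul_inv_eq_iff_eq_mul.1 (mul_inv_eq_one.1 key)

theorem le_sup_of [Finite ι] (hV : C₀ ≤ zl (S : Subgroup G) P) (hB : ∀ b ∈ B, ∀ x ∈ C₀, b * x * b⁻¹ ∈ C₀)
    (hL : C₀ ⊓ LL = ⊥) : C₀ ≤ W j ⊔ LL := by
  intro x hx
  obtain ⟨w, hw, c, hc, rfl⟩ := split_of h hV hB hL hx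
  exact mul_mem ((le_sup_left : W j ≤ _) hw) ((le_sup_right : (LL : Subgroup G) ≤ W j ⊔ LL) hc)

theorem card_W (i : ι) : Nat.card (W i) = 4 := by
  have h1 := (h.fr.blk i).card
  rw [h1, h.fr.cardZ i]

/-- `|C₀| = |C₀ Λ : Λ| ≤ |W_j| = 4` -/
theorem card_le [Finite ι] (hV : C₀ ≤ zl (S : Subgroup G) P) (hB : ∀ b ∈ B, ∀ x ∈ C₀, b * x * b⁻¹ ∈ C₀)
    (hL : C₀ ⊓ LL = ⊥) : Nat.card C₀ ≤ Nat.card (W j) := by
  classical
  let f : C₀ → W j := fun x => ⟨(split_of h hV hB hL x.2).choose, (split_of h hV hB hL x.2).choose_spec.1⟩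
  refine Nat.card_le_card_of_injective f fun x y e => ?_
  obtain ⟨hx1, cx, hcx, ex⟩ := (split_of h hV hB hL x.2).choose_spec
  obtain ⟨hy1, cy, hcy, ey⟩ := (split_of h hV hB hL y.2).choose_spec
  have e1 : (split_of h hV hB hL x.2).choose = (split_of h hV hB hL y.2).choose := congrArg Subtype.val e
  have h2 : (y : G)⁻¹ * x ∈ C₀ ⊓ LL := by
    refine ⟨Subgroup.mul_mem _ (Subgroup.inv_mem _ y.2) x.2, ?_⟩
    rw [ex, ey, e1, mul_inv_rev]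
    have e2 : cy⁻¹ * ((split_of h hV hB hL y.2).choose)⁻¹ * ((split_of h hV hB hL y.2).choose * cx) = cy⁻¹ * cx := by
      group
    rw [e2]
    exact Subgroup.mul_mem _ (Subgroup.inv_mem _ hcy) hcx
  rw [hL, mem_bot] at h2
  exact Subtype.ext (inv_mul_eq_one.1 h2).symm

/-- `W_j ≤ C₀ Λ` if `|C₀| ≥ |W_j|` -/
theorem W_le [Finite ι] (hV : C₀ ≤ zl (S : Subgroup G) P) (hB : ∀ b ∈ B, ∀ x ∈ C₀, b * x * b⁻¹ ∈ C₀)
    (hL : C₀ ⊓ LL = ⊥) (hc : Nat.card (W j) ≤ Nat.card C₀) : W j ≤ C₀ ⊔ LL := by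
  have hcom1 : ∀ x ∈ C₀, ∀ y ∈ (LL : Subgroup G), x * y = y * x := fun x hx y hy =>
    h.fr.Vc (hV hx) (h.fr.ZJV (LL_le_ZJ h hy))
  have hcom2 : ∀ x ∈ W j, ∀ y ∈ (LL : Subgroup G), x * y = y * x := fun x hx y hy =>
    h.fr.Vc (h.fr.WV j hx) (h.fr.ZJV (LL_le_ZJ h hy))
  have c1 := SQ1.Bau.card_sup_comm hcom1
  have c2 := SQ1.Bau.card_sup_comm hcom2
  have hW : W j ⊓ LL = ⊥ := by
    rw [eq_bot_iff, ← h.fr.dir j]
    exact inf_le_inf_left _ (LL_le_C h)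
  rw [hL] at c1
  rw [hW] at c2
  rw [Subgroup.card_bot, mul_one] at c1 c2
  have hle : C₀ ⊔ LL ≤ W j ⊔ LL := sup_le (le_sup_of h hV hB hL) le_sup_right
  have he : C₀ ⊔ LL = W j ⊔ LL := by
    refine Subgroup.eq_of_le_of_card_ge hle ?_
    rw [c1, c2]
    exact Nat.mul_le_mul_right _ hc
  rw [he]
  exact le_sup_left

omit h in
/-- `r^n ≤ 4 ≤ r`, `0 < n` : `n = 1`, `r = 4` -/
theorem pow_le {r n : ℕ} (hr : 4 ≤ r) (hn : 0 < n) (h1 : r ^ n ≤ 4) : n = 1 ∧ r = 4 := by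
  have h2 : r ^ 1 ≤ r ^ n := Nat.pow_le_pow_right (by omega) hn
  rw [pow_one] at h2
  have h3 : r = 4 := by omega
  refine ⟨?_, h3⟩
  subst h3
  by_contra hne
  have h4 : 2 ≤ n := by omega
  have h5 : 4 ^ 2 ≤ 4 ^ n := Nat.pow_le_pow_right (by norm_num) h4
  omega

/-- **the end** : `C₀ ≤ V_P` normalised by `B`, `C₀ ∩ Λ = 1`, `|C₀| = r^n`, `r ≥ 4`: `n = 1`, `r = 4`, `C₀ Λ = W_j Λ`. -/
theorem end_of [Finite ι] (hV : C₀ ≤ zl (S : Subgroup G) P) (hB : ∀ b ∈ B, ∀ x ∈ C₀, b * x * b⁻¹ ∈ C₀)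
    (hL : C₀ ⊓ LL = ⊥) {r n : ℕ} (hr : 4 ≤ r) (hn : 0 < n) (hc : Nat.card C₀ = r ^ n) :
    n = 1 ∧ r = 4 ∧ C₀ ≤ W j ⊔ LL ∧ W j ≤ C₀ ⊔ LL := by
  have h1 := card_le h hV hB hL
  rw [card_W h j, hc] at h1
  obtain ⟨rfl, rfl⟩ := pow_le hr hn h1
  exact ⟨rfl, rfl, le_sup_of h hV hB hL, W_le h hV hB hL (by rw [card_W h j, hc, pow_one])⟩

end Cfsg.Agent.Omega.CaseLQ.TorEnd2
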