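import Cfsg.Agent.Omega.CaseLQ.TorOf
import Cfsg.Agent.Omega.CaseLQ.TwoAbs
import Cfsg.Agent.Omega.CaseLQ.InstTwo
import Cfsg.Agent.Omega.CaseLQ.PsiTwo
import Cfsg.Agent.Omega.CaseLQ.TorusNat
import Cfsg.Agent.Omega.NO3S.WY.InfOf

/-!
# NoW, `q = 2`, (ii) version 2 (#25080): `MulL`, `WJ`, `Mx` give (TOR')

* `torP_of` : `MulL S P B ZJ L W Z C A 2`, `WJ S P B Z j Y`, `Mx S P B ZJ Z Y` : `TorP S P B ZJ L W Z C A j Y`;
* **`torOf : InfOf.TorOf K`**.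
-/

set_option autoImplicit false
set_option linter.unusedSectionVars false

namespace Cfsg.Agent.Omega.CaseLQ.TorFin

open Subgroup Cfsg Cfsg.Agent.ZN Cfsg.Agent.ZN.ChoiceBase Cfsg.Agent.Omega.MinPar Cfsg.Agent.Omega.Frame
open Cfsg.Agent.ZN.ChoiceSit (Syl)
open Cfsg.Agent.Omega.NO3S.Level
open Cfsg.Agent.Omega.NO3S.RedC
open Cfsg.Agent.Omega.NO3S.WY Cfsg.Agent.Omega.NO3S.WY.Sel
open Cfsg.Agent.Omega.NO3S.CaseLW.YBX (Xc mem_Xc Xc_le Concl)
open Cfsg.Agent.Omega.OM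
open Cfsg.Agent.Omega.FFThm (OffM ElemM NoOverM StmtM NatKM)
open Cfsg.Agent.Omega.FrameFF (cv)
open Cfsg.Agent.Omega.NO1.BestOff (Best)
open Cfsg.Agent.Omega.Node.MulX (MulL KX)
open Cfsg.Agent.Omega.CaseLQ Cfsg.Agent.Omega.CaseLQ.PsiYB Cfsg.Agent.Omega.CaseLQ.TwoFr
open Cfsg.Agent.Omega.CaseLQ.TwoAbs Cfsg.Agent.Omega.CaseLQ.TorOf

universe u

/-- a finite field of characteristic 2 with an element `≠ 0, 1` has at least 4 elements -/
theorem four_le {F : Type} [Field F] [Finite F] [CharP F 2] (h : ∃ x : F, x ≠ 0 ∧ x ≠ 1) : 4 ≤ Nat.card F := by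
  classical
  obtain ⟨x, h0, h1⟩ := h
  have : Fintype F := Fintype.ofFinite F
  obtain ⟨n, -, hn⟩ := FiniteField.card F 2
  rw [Nat.card_eq_fintype_card, hn]
  have h3 : 2 < Fintype.card F := by
    have h4 : ({0, 1, x} : Finset F).card = 3 := by
      rw [Finset.card_eq_three]
      exact ⟨0, 1, x, zero_ne_one, h0.symm, h1.symm, rfl⟩
    have h5 := Finset.card_le_univ ({0, 1, x} : Finset F)
    omega
  rw [hn] at h3
  have h6 : 2 ≤ (n : ℕ) := by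
    by_contra hcon
    have h7 : (n : ℕ) ≤ 1 := by omega
    have h8 : 2 ^ (n : ℕ) ≤ 2 ^ 1 := Nat.pow_le_pow_right (by norm_num) h7
    omega
  calc 4 = 2 ^ 2 := by norm_num
    _ ≤ 2 ^ (n : ℕ) := Nat.pow_le_pow_right (by norm_num) h6

section

variable {G : Type u} [Group G] [Finite G] {S : Sylow 2 G} {P B ZJ : Subgroup G} {k : ℕ}
  {L W Z C A : Fin k → Subgroup G}

/-- **(TOR')** -/
theorem torP_of (h : MulL S P B ZJ L W Z C A 2) {j : Fin k} {Y : Subgroup G} (wj : WJ S P B Z j Y)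
    (mx : Mx S P B ZJ Z Y) : TorP S P B ZJ L W Z C A j Y := by
  have hFF : StmtM.{u} := NOThreeL.StarEnd.stmtM
  have m := InstTwo.lmd h wj
  obtain ⟨WU, ΛU, cen, hex⟩ := InstTwo.exists_E h wj hFF
  set H : Subgroup G := L j ⊔ Y with hH
  set U : Subgroup G := ZN.zl B H with hU
  have fb := h.fr.blk j
  have ZU : zc B ≤ U := (zT h j).trans (sup_le ΛU (fb.ZV.trans WU))
  have s : YS U H B Y := ys_of m wj.toWY ZU
  obtain ⟨z, hz, z1⟩ : ∃ z ∈ Z j, z ≠ 1 := by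
    by_contra hcon
    push Not at hcon
    exact h.bg.Z_ne j (eq_bot_iff.2 fun x hx => mem_bot.2 (hcon x hx))
  have CQ : U ⊓ centralizer (o2 P : Set G) ≤ zl (S : Subgroup G) P := m.toLoc.cUQ
  have pj : PJ B (o2 P) (W j) U z := pj_of_bg h.bg WU CQ hz z1
  have YΛ : Y ≤ centralizer (Lm Z j : Set G) := cenLm wj.cen
  have frg : ∀ {κ : Type} [Finite κ] {Ni c : κ → Subgroup G}, Concl B Y U (Fam U H B) Ni c →
      PsiT.FrG (Xc U (Fam U H B)) B (o2 P) (W j) z (Lm Z j) Ni c := by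
    intro κ _ Ni c hc
    have hΛ : ∀ l, Lm Z j ≤ Ni l := fun l x hx => hc.cen x (ΛU hx) (fun A hA y hy a ha => by
      have h1 : y * a * y⁻¹ ∈ Y := mul_mem (mul_mem hy (s.TY (hA.1 ha))) (inv_mem hy)
      exact ((mem_centralizer_iff.1 (YΛ h1)) x hx).symm) l
    have nz : ∃ i, z ∉ Ni i := by
      obtain ⟨l, hl⟩ := hc.ex
      refine ⟨l, fun hzl => hl ((zT h j).trans (sup_le (hΛ l) fun x hx => ?_))⟩
      rcases eq_z h.bg hz z1 hx with rfl | rfl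
      · exact one_mem _
      · exact hzl
    exact frG_of_pj pj hc.yb (Xc_le _ _) (VX_of WU cen) nz fun l x hx _ => hΛ l hx
  have hCB : ∀ u ∈ U, u ∈ centralizer (B : Set G) → u ∈ Lm Z j ∨ u * z⁻¹ ∈ Lm Z j := by
    intro u hu huB
    have h1 : u ∈ Lm Z j ⊔ Z j := zT h j (m.toLoc.cUT ⟨hu, huB⟩)
    have hcom : ∀ a ∈ Lm Z j, ∀ b ∈ Z j, a * b = b * a := fun a ha b hb =>
      s.U_mul a (ΛU ha) b (WU (fb.ZV hb))
    obtain ⟨a, ha, b, hb, rfl⟩ := SQ1.Bau.mem_sup_comm hcom h1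
    rcases eq_z h.bg hz z1 hb with rfl | rfl
    · left; rwa [mul_one]
    · right; rwa [mul_inv_cancel_right]
  have hPL : Lm Z j ≤ centralizer (L j : Set G) := le_centralizer_iff.1 (InstTwo.L_Lam h)
  have hmv : ∃ p ∈ L j, p * z * p⁻¹ ≠ z := by
    by_contra hcon
    push Not at hcon
    have h1 : L j ≤ normalizer (Z j : Set G) := by
      refine le_trans (fun p hp => ?_) (centralizer_le_normalizer _)
      rw [mem_centralizer_iff]
      intro x hx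
      rcases eq_z h.bg hz z1 hx with rfl | rfl
      · group
      · exact (mul_inv_eq_iff_eq_mul.1 (hcon p hp)).symm
    obtain ⟨v, hv, hvZ⟩ := Psi.exists_v h.bg j
    exact hvZ (InstB.W_le fb le_rfl h1 hv)
  obtain ⟨F, _, _, _, n, hn, hF, ⟨N⟩⟩ := TvTwo.nat_four s hFF frg cen hex WU (le_sup_left : L j ≤ H) fb.BL
    (InstB.norm_C fb) hCB hPL hmv
  have noV : NoOverM (zl B Y) Y := by
    obtain ⟨E, hEB, hE, hEY⟩ := hex
    have hEF : E ∈ Fam U H B := ⟨hEB, Or.inl hE⟩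
    have hne : ¬ E ≤ centralizer (zl B Y : Set G) := fun h => hEY ((le_inf hEB h).trans s.cap)
    exact (hFF G B Y s.syl s.min s.c2 ⟨E, hEB.trans s.TY,
      NO3S.OneLine.BFam.offM (bfam (U := U) (H := H) (T := B) (s.TY.trans s.YH)) s.U_mul s.VU hEF hne⟩).1
  obtain ⟨⟨K, 𝒜, ks⟩, fam⟩ := ksh_of h wj m WU ΛU cen hex noV N hn
  exact
    { mul := h
      wj := wj
      fam := fam
      nat := Torus.nat_of h wj ks m.Uc s.VU N hn (four_le hF) fun Y' hY' => mx.wj h j Y' hY' }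

end

/-- **(ii) of #25080.** -/
theorem torOf {K : Cls.{u}} : InfOf.TorOf K := by
  intro G _ _ _ S P B ZJ k L W Z C A _ hM _ j Y hw hx
  exact torP_of hM hw hx

end Cfsg.Agent.Omega.CaseLQ.TorFin
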