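import Cfsg.Agent.Omega.NO3S.OneLine.LevNat

/-!
# The torus on the product of the lines (helper425 #26033, the linear half)

`M : NatC F T H V D k`. `X0 M = {v ∈ V | ∀ i, e v i 1 = 0}` (the full preimage of the product of the lines), `D ≤ X0`.

* `acts_one_of_comm` : a 2-element `q ∈ H` which normalises `X0` and commutes on `X0` with elements inducing all
  `diag(a_i)` acts trivially on `X0 / D`;
* `Ct M τ = {[τ,x] | x ∈ X0}` : for `τ` inducing `diag(c,c⁻¹)`, `c ≠ 1`, on every block: `Ct ⊓ D = ⊥`, `X0 = Ct ⊔ D`,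
  `|Ct| = |F|^k`; `Ct_norm` : `T` normalises `Ct`; `cent_Ct` : such a `q` centralises `Ct`.
-/

set_option autoImplicit false
set_option linter.unusedSectionVars false
set_option linter.unusedVariables false

namespace Cfsg.Agent.Omega.CaseLQ.TorLin

open Subgroup Cfsg Cfsg.Agent.ZN Cfsg.Agent.ZN.ChoiceBase Cfsg.Agent.ZN.ChoiceSit
open Cfsg.Agent.Omega.NatPair Cfsg.Agent.Lib.SL2Mat
open Cfsg.Agent.Omega.NO3S.OneLine (NatC)
open Cfsg.Agent.Omega.NO3S.OneLine.NatC (acts_mul acts_inv acts_one acts_unique)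
open Cfsg.Agent.Omega.FFThm (ActsSL)

universe u

variable {G : Type u} [Group G] {F : Type} [Field F] {T H V D : Subgroup G} {k : ℕ} (M : NatC F T H V D k)

/-- the full preimage of the product of the lines -/
def X0 : Subgroup G where
  carrier := {v | v ∈ V ∧ ∀ i, M.nat.e v i 1 = 0}
  mul_mem' := by
    rintro x y ⟨hx, hx'⟩ ⟨hy, hy'⟩
    refine ⟨mul_mem hx hy, fun i => ?_⟩
    rw [M.nat.mul x hx y hy, Pi.add_apply, Pi.add_apply, hx' i, hy' i, add_zero]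
  one_mem' := ⟨one_mem _, fun i => by rw [M.map_one]; rfl⟩
  inv_mem' := by
    rintro x ⟨hx, hx'⟩
    refine ⟨inv_mem hx, fun i => ?_⟩
    rw [M.map_inv hx, Pi.neg_apply, Pi.neg_apply, hx' i, neg_zero]

variable {M}

theorem mem_X0 {v : G} : v ∈ X0 M ↔ v ∈ V ∧ ∀ i, M.nat.e v i 1 = 0 := Iff.rfl

theorem X0_le : X0 M ≤ V := fun _ h => h.1

theorem D_le_X0 : D ≤ X0 M := fun d hd => ⟨M.DV hd, fun i => by
  rw [(M.nat.ker d (M.DV hd)).2 hd]; rfl⟩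

/-- `T` normalises `X0` -/
theorem X0_of_T {t : G} (ht : t ∈ T) (htH : t ∈ H) {x : G} (hx : x ∈ X0 M) : t * x * t⁻¹ ∈ X0 M := by
  obtain ⟨σ, hσ⟩ := M.nat.line t ht
  refine ⟨M.Vn t htH x hx.1, fun i => ?_⟩
  have := (hσ x hx.1 (σ.symm i)).2 (hx.2 _)
  rwa [σ.apply_symm_apply] at this

/-- elements of `X0` with given coordinates -/
theorem exists_X0 (y : Fin k → F) : ∃ x ∈ X0 M, ∀ i, M.nat.e x i 0 = y i := by
  obtain ⟨x, hx, hxe⟩ := M.nat.surj fun i => ![y i, 0]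
  exact ⟨x, ⟨hx, fun i => by rw [hxe]; rfl⟩, fun i => by rw [hxe]; rfl⟩

theorem mem_D_of {x : G} (hx : x ∈ X0 M) (h : ∀ i, M.nat.e x i 0 = 0) : x ∈ D := by
  refine (M.nat.ker x hx.1).1 (funext fun i => ?_)
  funext j
  fin_cases j
  · exact h i
  · exact hx.2 i

/-- `τ` induces `diag(a i, (a i)⁻¹)` on the lines and centralises `D`. -/
def Dg (M : NatC F T H V D k) (τ : G) (a : Fin k → F) : Prop :=
  (∀ x ∈ X0 M, τ * x * τ⁻¹ ∈ X0 M) ∧ (∀ x ∈ X0 M, ∀ i, M.nat.e (τ * x * τ⁻¹) i 0 = a i * M.nat.e x i 0) ∧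
    ∀ d ∈ D, τ * d = d * τ

theorem comm_of {τ q : G} (hτX : ∀ x ∈ X0 M, τ * x * τ⁻¹ ∈ X0 M) (hqX : ∀ x ∈ X0 M, q * x * q⁻¹ ∈ X0 M)
    (h : ∀ x ∈ X0 M, (τ * q * τ⁻¹ * q⁻¹) * x = x * (τ * q * τ⁻¹ * q⁻¹)) {x : G} (hx : x ∈ X0 M) :
    τ * (q * x * q⁻¹) * τ⁻¹ = q * (τ * x * τ⁻¹) * q⁻¹ := by
  have h1 := h _ (hqX _ (hτX x hx))
  have h2 : τ * q * τ⁻¹ * q⁻¹ * (q * (τ * x * τ⁻¹) * q⁻¹) = τ * (q * x * q⁻¹) * τ⁻¹ * (τ * q * τ⁻¹ * q⁻¹) := by group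
  rw [h2] at h1
  exact mul_right_cancel h1

/-- **(a)** -/
theorem acts_one_of_comm [CharP F 2] {q : G} (hqH : q ∈ H) (hqX : ∀ x ∈ X0 M, q * x * q⁻¹ ∈ X0 M)
    (hq2 : ∃ n : ℕ, q ^ 2 ^ n = 1) {c : F} (hc0 : c ≠ 0) (hc1 : c ≠ 1)
    (h : ∀ a : Fin k → F, (∀ i, a i ≠ 0) → ∃ τ, Dg M τ a ∧
      ∀ x ∈ X0 M, (τ * q * τ⁻¹ * q⁻¹) * x = x * (τ * q * τ⁻¹ * q⁻¹)) :
    ∀ x ∈ X0 M, q * x * q⁻¹ * x⁻¹ ∈ D := by
  classical
  obtain ⟨σ, hσ⟩ := M.nat.perm q hqH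
  have key : ∀ a : Fin k → F, (∀ i, a i ≠ 0) → ∀ x ∈ X0 M, ∀ x' ∈ X0 M,
      (∀ i, M.nat.e x' i 0 = a i * M.nat.e x i 0) → ∀ i, M.nat.e (q * x' * q⁻¹) i 0 = a i * M.nat.e (q * x * q⁻¹) i 0 := by
    intro a ha x hx x' hx' hxx i
    obtain ⟨τ, ⟨hτX, hτ, hτD⟩, hτq⟩ := h a ha
    have h1 := comm_of hτX hqX hτq hx
    have h2 : x' * (τ * x * τ⁻¹)⁻¹ ∈ D := by
      refine mem_D_of (mul_mem hx' (inv_mem (hτX x hx))) fun l => ?_
      rw [M.map_div hx'.1 (hτX x hx).1, Pi.sub_apply, Pi.sub_apply, hτ x hx l, hxx l, sub_self]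
    have h3 := M.Dn q hqH _ h2
    have h4 : q * (x' * (τ * x * τ⁻¹)⁻¹) * q⁻¹ = (q * x' * q⁻¹) * (q * (τ * x * τ⁻¹) * q⁻¹)⁻¹ := by group
    rw [h4] at h3
    have h5 := (M.nat.ker _ (M.DV h3)).2 h3
    rw [M.map_div (hqX x' hx').1 (hqX _ (hτX x hx)).1, sub_eq_zero] at h5
    rw [h5, ← h1, hτ _ (hqX x hx) i]
  -- `σ = 1`
  have hσ1 : ∀ i, σ i = i := by
    intro i
    by_contra hne
    obtain ⟨x, hx, hxe⟩ := exists_X0 (M := M) (Pi.single i 1)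
    have h1 := key (Function.update 1 (σ i) c) (fun l => by
      by_cases hl : l = σ i
      · rw [hl, Function.update_self]; exact hc0
      · rw [Function.update_of_ne hl]; exact one_ne_zero) x hx x hx (fun l => by
        by_cases hl : l = σ i
        · rw [hl, hxe, Pi.single_eq_of_ne hne, mul_zero]
        · rw [Function.update_of_ne hl, Pi.one_apply, one_mul]) (σ i)
    rw [Function.update_self] at h1
    have h2 : M.nat.e (q * x * q⁻¹) (σ i) 0 = 0 := by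
      have h3 : (c - 1) * M.nat.e (q * x * q⁻¹) (σ i) 0 = 0 := by rw [sub_mul, one_mul, ← h1, sub_self]
      exact (mul_eq_zero.1 h3).resolve_left (sub_ne_zero.2 hc1)
    have h3 : M.nat.e (q * x * q⁻¹) (σ i) = 0 := by
      funext j
      fin_cases j
      · exact h2
      · exact (hqX x hx).2 _
    have h4 := congrFun ((hσ x hx.1 i).1 h3) 0
    rw [hxe, Pi.single_eq_same] at h4
    exact one_ne_zero h4
  -- the scalar on each block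
  have hsc : ∀ i, ∃ μ : F, ∀ x ∈ X0 M, M.nat.e (q * x * q⁻¹) i 0 = μ * M.nat.e x i 0 := by
    intro i
    obtain ⟨x₁, hx₁, hx₁e⟩ := exists_X0 (M := M) (fun _ => (1 : F))
    refine ⟨M.nat.e (q * x₁ * q⁻¹) i 0, fun x hx => ?_⟩
    -- reduce to vectors with `i`-th coordinate only
    have hred : ∀ x ∈ X0 M, ∀ x' ∈ X0 M, M.nat.e x i 0 = M.nat.e x' i 0 →
        M.nat.e (q * x * q⁻¹) i 0 = M.nat.e (q * x' * q⁻¹) i 0 := by
      intro x hx x' hx' he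
      have h1 : M.nat.e (x * x'⁻¹) i = 0 := by
        funext j
        rw [M.map_div hx.1 hx'.1, Pi.sub_apply, Pi.sub_apply]
        fin_cases j
        · exact sub_eq_zero.2 he
        · show M.nat.e x i 1 - M.nat.e x' i 1 = 0
          rw [hx.2, hx'.2, sub_zero]
      have h2 := (hσ _ (mul_mem hx.1 (inv_mem hx'.1)) i).2 h1
      rw [hσ1] at h2
      have h3 : q * (x * x'⁻¹) * q⁻¹ = (q * x * q⁻¹) * (q * x' * q⁻¹)⁻¹ := by group
      rw [h3, M.map_div (hqX x hx).1 (hqX x' hx').1, Pi.sub_apply, sub_eq_zero] at h2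
      rw [h2]
    by_cases h0 : M.nat.e x i 0 = 0
    · rw [h0, mul_zero, hred x hx 1 (one_mem _) (by rw [h0, M.map_one]; rfl)]
      rw [mul_one, mul_inv_cancel, M.map_one]; rfl
    · obtain ⟨x', hx', hx'e⟩ := exists_X0 (M := M) (fun _ => M.nat.e x i 0)
      rw [hred x hx x' hx' (hx'e i).symm, key (fun _ => M.nat.e x i 0) (fun _ => h0) x₁ hx₁ x' hx'
        (fun l => by rw [hx'e, hx₁e, mul_one]) i, mul_comm]
  choose μ hμ using hsc
  have hμ1 : ∀ i, μ i = 1 := by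
    intro i
    obtain ⟨n, hn⟩ := hq2
    obtain ⟨x₁, hx₁, hx₁e⟩ := exists_X0 (M := M) (fun _ => (1 : F))
    have hpow : ∀ m : ℕ, q ^ m * x₁ * (q ^ m)⁻¹ ∈ X0 M ∧ M.nat.e (q ^ m * x₁ * (q ^ m)⁻¹) i 0 = μ i ^ m := by
      intro m
      induction m with
      | zero =>
        rw [pow_zero, one_mul, inv_one, mul_one, pow_zero]
        exact ⟨hx₁, hx₁e i⟩
      | succ m ih =>
        have e1 : q ^ (m + 1) * x₁ * (q ^ (m + 1))⁻¹ = q * (q ^ m * x₁ * (q ^ m)⁻¹) * q⁻¹ := by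
          rw [pow_succ']; group
        rw [e1]
        exact ⟨hqX _ ih.1, by rw [hμ i _ ih.1, ih.2, pow_succ']⟩
    have h1 := (hpow (2 ^ n)).2
    rw [hn, one_mul, inv_one, mul_one, hx₁e] at h1
    have h2 : (μ i - 1) ^ 2 ^ n = 0 := by
      rw [sub_pow_char_pow, one_pow, ← h1, sub_self]
    exact sub_eq_zero.1 (pow_eq_zero_iff (pow_ne_zero n two_ne_zero) |>.1 h2)
  intro x hx
  refine mem_D_of (mul_mem (hqX x hx) (inv_mem hx)) fun i => ?_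
  rw [M.map_div (hqX x hx).1 hx.1, Pi.sub_apply, Pi.sub_apply, hμ i x hx, hμ1 i, one_mul, sub_self]

/-! ### `[X0, τ]` -/

theorem X0_comm {x y : G} (hx : x ∈ X0 M) (hy : y ∈ X0 M) : x * y = y * x := M.Vcomm hx.1 hy.1

variable (M) in
/-- `{[τ,x] | x ∈ X0}` -/
def Ct (τ : G) : Subgroup G where
  carrier := {y | ∃ x ∈ X0 M, τ * x * τ⁻¹ ∈ X0 M ∧ τ * x * τ⁻¹ * x⁻¹ = y}
  mul_mem' := by
    rintro _ _ ⟨x, hx, hx', rfl⟩ ⟨y, hy, hy', rfl⟩
    refine ⟨x * y, mul_mem hx hy, ?_, ?_⟩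
    · have e : τ * (x * y) * τ⁻¹ = (τ * x * τ⁻¹) * (τ * y * τ⁻¹) := by group
      rw [e]
      exact mul_mem hx' hy'
    · have h1 := X0_comm (mul_mem hy' (inv_mem hy)) (inv_mem hx)
      have e : τ * (x * y) * τ⁻¹ * (x * y)⁻¹ = (τ * x * τ⁻¹) * ((τ * y * τ⁻¹ * y⁻¹) * x⁻¹) := by group
      rw [e, h1]; group
  one_mem' := ⟨1, one_mem _, by rw [mul_one, mul_inv_cancel]; exact one_mem _, by group⟩
  inv_mem' := by
    rintro _ ⟨x, hx, hx', rfl⟩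
    refine ⟨x⁻¹, inv_mem hx, ?_, ?_⟩
    · have e : τ * x⁻¹ * τ⁻¹ = (τ * x * τ⁻¹)⁻¹ := by group
      rw [e]
      exact inv_mem hx'
    · have h1 := X0_comm (inv_mem hx') hx
      have e : τ * x⁻¹ * τ⁻¹ * x⁻¹⁻¹ = (τ * x * τ⁻¹)⁻¹ * x := by group
      rw [e, h1]; group

theorem Ct_le {τ : G} : Ct M τ ≤ X0 M := by
  rintro _ ⟨x, hx, hx', rfl⟩
  exact mul_mem hx' (inv_mem hx)

section tau

variable {τ : G} {a : Fin k → F} (hτ : Dg M τ a) (ha : ∀ i, a i ≠ 1)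
include hτ

theorem mem_Ct {x : G} (hx : x ∈ X0 M) : τ * x * τ⁻¹ * x⁻¹ ∈ Ct M τ := ⟨x, hx, hτ.1 x hx, rfl⟩

theorem e_Ct {x : G} (hx : x ∈ X0 M) (i : Fin k) :
    M.nat.e (τ * x * τ⁻¹ * x⁻¹) i 0 = (a i - 1) * M.nat.e x i 0 := by
  rw [M.map_div (hτ.1 x hx).1 hx.1, Pi.sub_apply, Pi.sub_apply, hτ.2.1 x hx i, sub_mul, one_mul]

include ha

theorem Ct_inf : Ct M τ ⊓ D = ⊥ := by
  rw [eq_bot_iff]
  rintro _ ⟨⟨x, hx, hx', rfl⟩, hD⟩
  rw [mem_bot]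
  have h1 : x ∈ D := mem_D_of hx fun i => by
    have h2 := e_Ct hτ hx i
    have h4 : τ * x * τ⁻¹ * x⁻¹ ∈ V := mul_mem hx'.1 (inv_mem hx.1)
    rw [(M.nat.ker _ h4).2 hD] at h2
    exact (mul_eq_zero.1 h2.symm).resolve_left (sub_ne_zero.2 (ha i))
  rw [hτ.2.2 x h1]; group

/-- every element of `X0` is an element of `Ct` times an element of `D` -/
theorem exists_Ct {x : G} (hx : x ∈ X0 M) : ∃ y ∈ Ct M τ, ∃ d ∈ D, x = y * d := by
  obtain ⟨x', hx', hxe⟩ := exists_X0 (M := M) fun i => (a i - 1)⁻¹ * M.nat.e x i 0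
  refine ⟨_, mem_Ct hτ hx', (τ * x' * τ⁻¹ * x'⁻¹)⁻¹ * x, ?_, by group⟩
  have hk := Ct_le (mem_Ct hτ hx')
  rw [X0_comm (inv_mem hk) hx]
  refine mem_D_of (mul_mem hx (inv_mem hk)) fun i => ?_
  rw [M.map_div hx.1 hk.1, Pi.sub_apply, Pi.sub_apply, e_Ct hτ hx' i, hxe i,
    mul_inv_cancel_left₀ (sub_ne_zero.2 (ha i)), sub_self]

theorem Ct_sup : Ct M τ ⊔ D = X0 M := by
  refine le_antisymm (sup_le Ct_le D_le_X0) fun x hx => ?_
  obtain ⟨y, hy, d, hd, rfl⟩ := exists_Ct hτ ha hx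
  exact mul_mem (mem_sup_left hy) (mem_sup_right hd)

theorem card_Ct [Finite F] : Nat.card (Ct M τ) = Nat.card F ^ k := by
  have h1 : Nat.card (Ct M τ) = Nat.card (⊥ : Subgroup G) * Nat.card (Fin k → F) := by
    refine NO3S.OneLine.card_of_hom bot_le (fun v i => M.nat.e v i 0) ?_ ?_ ?_
    · intro v hv w hw
      funext i
      rw [M.nat.mul v (Ct_le hv).1 w (Ct_le hw).1]; rfl
    · intro c
      obtain ⟨x, hx, hxe⟩ := exists_X0 (M := M) c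
      obtain ⟨y, hy, d, hd, rfl⟩ := exists_Ct hτ ha hx
      refine ⟨y, hy, ?_⟩
      funext i
      rw [← hxe i, M.nat.mul y (Ct_le hy).1 d (M.DV hd), (M.nat.ker d (M.DV hd)).2 hd, add_zero]
    · intro v hv
      constructor
      · intro h0
        have h2 : v ∈ Ct M τ ⊓ D := ⟨hv, mem_D_of (Ct_le hv) fun i => congrFun h0 i⟩
        rwa [Ct_inf hτ ha] at h2
      · intro h0
        rw [mem_bot.1 h0, M.map_one]
        rfl
  rw [h1, Nat.card_fun, Nat.card_fin, Subgroup.card_bot, one_mul]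

omit ha in
/-- an element commuting with `τ` on `X0` normalises `Ct` -/
theorem Ct_of_comm {q : G} (hqX : ∀ x ∈ X0 M, q * x * q⁻¹ ∈ X0 M)
    (h : ∀ x ∈ X0 M, (τ * q * τ⁻¹ * q⁻¹) * x = x * (τ * q * τ⁻¹ * q⁻¹)) {y : G} (hy : y ∈ Ct M τ) :
    q * y * q⁻¹ ∈ Ct M τ := by
  obtain ⟨x, hx, hx', rfl⟩ := hy
  refine ⟨q * x * q⁻¹, hqX x hx, hτ.1 _ (hqX x hx), ?_⟩
  rw [comm_of hτ.1 hqX h hx]
  group

/-- **(c)** such an element centralises `Ct`, if it acts trivially on `X0 / D` -/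
theorem cent_Ct {q : G} (hq : ∀ x ∈ X0 M, q * x * q⁻¹ * x⁻¹ ∈ D) (hn : ∀ y ∈ Ct M τ, q * y * q⁻¹ ∈ Ct M τ) {y : G}
    (hy : y ∈ Ct M τ) : q * y = y * q := by
  have h1 : q * y * q⁻¹ * y⁻¹ ∈ Ct M τ ⊓ D := mem_inf.2 ⟨mul_mem (hn y hy) (inv_mem hy), hq y (Ct_le hy)⟩
  rw [Ct_inf hτ ha, mem_bot] at h1
  exact mul_inv_eq_iff_eq_mul.1 (mul_inv_eq_one.1 h1)

/-- **(b)** `T` normalises `Ct`, if the elements acting as upper unitriangular matrices centralise `X0`. -/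
theorem Ct_norm_T [Finite G] (hTH : T ≤ H) {A : Fin k → Matrix.SpecialLinearGroup (Fin 2) F} (hτH : τ ∈ H)
    (hA : M.Acts τ A) (hup : ∀ g ∈ H, ∀ b : Fin k → F, ActsSL M.nat.e V D g (fun i => up (b i)) →
      ∀ x ∈ X0 M, g * x = x * g) : T ≤ normalizer (Ct M τ : Set G) := by
  have key : ∀ t ∈ T, ∀ y ∈ Ct M τ, t * y * t⁻¹ ∈ Ct M τ := by
    intro t ht y hy
    have htH := hTH ht
    have htX : ∀ x ∈ X0 M, t * x * t⁻¹ ∈ X0 M := fun x hx => X0_of_T ht htH hx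
    have htX' : ∀ x ∈ X0 M, t⁻¹ * x * t⁻¹⁻¹ ∈ X0 M := fun x hx => X0_of_T (inv_mem ht) (inv_mem htH) hx
    set τ' := t * τ * t⁻¹ with hτ'
    have hτ'H : τ' ∈ H := mul_mem (mul_mem htH hτH) (inv_mem htH)
    obtain ⟨A', hA'⟩ := M.nat.norm t htH τ hτH A hA
    have hτ'X : ∀ x ∈ X0 M, τ' * x * τ'⁻¹ ∈ X0 M := by
      intro x hx
      have e : τ' * x * τ'⁻¹ = t * (τ * (t⁻¹ * x * t⁻¹⁻¹) * τ⁻¹) * t⁻¹ := by rw [hτ']; group
      rw [e]
      exact htX _ (hτ.1 _ (htX' x hx))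
    have hτ'D : ∀ d ∈ D, τ' * d = d * τ' := by
      intro d hd
      have h1 := hτ.2.2 _ (M.Dn t⁻¹ (inv_mem htH) d hd)
      rw [inv_inv] at h1
      calc τ' * d = t * (τ * (t⁻¹ * d * t)) * t⁻¹ := by rw [hτ']; group
        _ = t * (t⁻¹ * d * t * τ) * t⁻¹ := by rw [h1]
        _ = d * τ' := by rw [hτ']; group
    -- lower left entries vanish
    have hlow : ∀ {g : G} {C : Fin k → Matrix.SpecialLinearGroup (Fin 2) F}, (∀ x ∈ X0 M, g * x * g⁻¹ ∈ X0 M) →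
        M.Acts g C → ∀ i, ent (C i) 1 0 = 0 := by
      intro g C hgX hC i
      obtain ⟨x, hx, hxe⟩ := exists_X0 (M := M) (fun _ => (1 : F))
      have h1 := hC x hx.1 i
      have h2 := congrFun h1 1
      rw [(hgX x hx).2 i, ap_one', hxe, hx.2 i, mul_one, mul_zero, add_zero] at h2
      exact h2.symm
    have hlA := hlow hτ.1 hA
    have hlA' := hlow hτ'X hA'
    -- the commutator is upper unitriangular
    set κ := τ * τ' * τ⁻¹ * τ'⁻¹ with hκ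
    have hκH : κ ∈ H := mul_mem (mul_mem (mul_mem hτH hτ'H) (inv_mem hτH)) (inv_mem hτ'H)
    have hκA : M.Acts κ (A * A' * A⁻¹ * A'⁻¹) :=
      acts_mul (inv_mem hτ'H) (acts_mul (inv_mem hτH) (acts_mul hτ'H hA hA') (acts_inv hτH hA)) (acts_inv hτ'H hA')
    have hform : ∀ i, (A * A' * A⁻¹ * A'⁻¹) i = up (ent ((A * A' * A⁻¹ * A'⁻¹) i) 0 1) := by
      intro i
      simp only [Pi.mul_apply, Pi.inv_apply]
      have dx := det_eq (A i)
      have dy := det_eq (A' i)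
      rw [hlA i, mul_zero, sub_zero] at dx
      rw [hlA' i, mul_zero, sub_zero] at dy
      refine ext_ent ?_ ?_ ?_ ?_
      · rw [up_00]
        simp only [ent_mul, ent_inv (A i), ent_inv (A' i), mk_00, mk_01, mk_10, mk_11, hlA i, hlA' i]
        linear_combination ent (A' i) 0 0 * ent (A' i) 1 1 * dx + dy
      · rw [up_01]
      · rw [up_10]
        simp only [ent_mul, ent_inv (A i), ent_inv (A' i), mk_00, mk_01, mk_10, mk_11, hlA i, hlA' i]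
        ring
      · rw [up_11]
        simp only [ent_mul, ent_inv (A i), ent_inv (A' i), mk_00, mk_01, mk_10, mk_11, hlA i, hlA' i]
        linear_combination ent (A' i) 0 0 * ent (A' i) 1 1 * dx + dy
    have hκup : ActsSL M.nat.e V D κ (fun i => up (ent ((A * A' * A⁻¹ * A'⁻¹) i) 0 1)) := by
      refine ⟨fun v hv i => ?_, fun d hd => ?_⟩
      · show _ = ap (up (ent ((A * A' * A⁻¹ * A'⁻¹) i) 0 1)) (M.nat.e v i)
        rw [← hform i]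
        exact hκA v hv i
      · have e1 : Commute τ d := hτ.2.2 d hd
        have e2 : Commute τ' d := hτ'D d hd
        exact (((e1.mul_left e2).mul_left e1.inv_left).mul_left e2.inv_left).eq
    have hκX := hup κ hκH _ hκup
    -- `τ'` normalises `Ct`
    have hn' : ∀ y ∈ Ct M τ, τ' * y * τ'⁻¹ ∈ Ct M τ := fun y hy => Ct_of_comm hτ hτ'X hκX hy
    obtain ⟨x, hx, hx', rfl⟩ := hy
    -- `t [τ,x] t⁻¹ = [τ', t x t⁻¹]`
    have e : t * (τ * x * τ⁻¹ * x⁻¹) * t⁻¹ = τ' * (t * x * t⁻¹) * τ'⁻¹ * (t * x * t⁻¹)⁻¹ := by rw [hτ']; group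
    rw [e]
    obtain ⟨y, hy, d, hd, hyd⟩ := exists_Ct hτ ha (htX x hx)
    rw [hyd]
    have e2 : τ' * (y * d) * τ'⁻¹ * (y * d)⁻¹ = τ' * y * τ'⁻¹ * y⁻¹ := by
      have h1 : τ' * d * τ'⁻¹ = d := by rw [hτ'D d hd]; group
      calc τ' * (y * d) * τ'⁻¹ * (y * d)⁻¹ = (τ' * y * τ'⁻¹) * (τ' * d * τ'⁻¹) * d⁻¹ * y⁻¹ := by group
        _ = _ := by rw [h1]; group
    rw [e2]
    exact mul_mem (hn' y hy) (inv_mem hy)
  intro t ht
  rw [mem_normalizer_iff]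
  refine fun y => ⟨key t ht y, fun hy => ?_⟩
  have := key t⁻¹ (inv_mem ht) _ hy
  rwa [show t⁻¹ * (t * y * t⁻¹) * t⁻¹⁻¹ = y by group] at this

end tau

end Cfsg.Agent.Omega.CaseLQ.TorLin
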