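import Cfsg.Agent.Omega.CaseLQ.OneY
import Cfsg.Agent.ZN.CaseTwo

/-!
# The weird parabolics of the case (L), `q = 2`: the torus (#25080 (d)), abstract

`V / D` is a sum of `k` natural `SL₂(F)`-modules for the minimal parabolic `Y` over `B` (`NatC`), `|F| > 2`; `z ∈ V - D` is
centralised by `B`; `K ≤ Q ≤ B`, `K` induces all upper unitriangular elements and centralises the product `X0` of the
lines; `N_Y(K (B ∩ …))` is generated by `N_Y(B)` and the minimal parabolics over `B`, and those which move `z` normalise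
`Q`. Then `Q` centralises the `B`-invariant complement `E1 = [X0, τ]` of `D` in `X0`.

* `TS M Q K z` : the situation;
* `TS.tor` : Frattini: the diagonal elements are induced by `N_Y(B0)`;
* `TS.comm_cent` : `[Q, N_R(B0)]` centralises `X0`;
* `TS.main` : `E1`;
* `TS.up_of` : `k = 1`: `Q` acts on `V` inside the root group.
-/

set_option autoImplicit false
set_option linter.unusedSectionVars false

namespace Cfsg.Agent.Omega.CaseLQ.Torus

open Subgroup Cfsg Cfsg.Agent.ZN Cfsg.Agent.ZN.ChoiceBase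
open Cfsg.Agent.ZN.ChoiceSit (Syl syl_conj)
open Cfsg.Agent.ZN.CaseTwo (syl_cj)
open Cfsg.Agent.MinSimple.MinParabolic (IsMinPar)
open Cfsg.Agent.MinSimple.VModule (oddGen oddGen_le mem_oddGen)
open Cfsg.Agent.Omega.FFThm (NatK NatKM ActsSL)
open Cfsg.Agent.Omega.NO3b.K0 (conj_mem' cj_of_le cj_self min_or)
open Cfsg.Agent.Omega.NO3S.NotFF (le_normalizer_of_forall)
open Cfsg.Agent.Omega.SQ1.Bau (mem_sup_comm card_sup_comm mem_sup_norm)
open Cfsg.Agent.Omega.SQ1.FFOne (MinH syl_inf mem_norm_of)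
open Cfsg.Agent.Omega.NatPair (ap ap_zero' ap_one' ap_one ap_mul ap_add ext2 ap_inv_ap ap_inj)
open Cfsg.Agent.Omega.NO3S.OneLine (NatC)
open Cfsg.Agent.Lib.SL2Mat

universe u

section lin

variable {F : Type*} [Field F]

/-- a matrix which fixes `(c, 0)`, `c ≠ 0`, is upper unitriangular -/
theorem exists_up_of_vec {A : Matrix.SpecialLinearGroup (Fin 2) F} {c : F} (hc : c ≠ 0)
    (h : ap A ![c, 0] = ![c, 0]) : A = up (ent A 0 1) := by
  have h0 := congrFun h 0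
  have h1 := congrFun h 1
  rw [ap_zero'] at h0
  rw [ap_one'] at h1
  have e0 : ent A 0 0 = 1 := by
    have h2 : ent A 0 0 * c = 1 * c := by simpa using h0
    exact mul_right_cancel₀ hc h2
  have e1 : ent A 1 0 = 0 := by
    have h2 : ent A 1 0 * c = 0 * c := by
      have h3 : ent A 1 0 * c + ent A 1 1 * 0 = 0 := h1
      rw [mul_zero, add_zero] at h3
      rw [h3, zero_mul]
    exact mul_right_cancel₀ hc h2
  have hd := det_eq A
  rw [e0, e1] at hd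
  apply ext_ent
  · rw [up_00, e0]
  · rw [up_01]
  · rw [up_10, e1]
  · rw [up_11]
    linear_combination hd

theorem up_pow (b : F) (n : ℕ) : up b ^ n = up ((n : F) * b) := by
  induction n with
  | zero => rw [pow_zero, Nat.cast_zero, zero_mul, up_zero]
  | succ n ih => rw [pow_succ, ih, up_mul]; congr 1; push_cast; ring

theorem up_odd [CharP F 2] {b : F} {n : ℕ} (hn : Odd n) (h : up b ^ n = 1) : b = 0 := by
  rw [up_pow, ← up_zero] at h
  have h1 := up_inj h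
  have h2 : (n : F) = 1 := by
    obtain ⟨m, rfl⟩ := hn
    push_cast
    have : (2 : F) = 0 := CharTwo.two_eq_zero
    rw [this, zero_mul, zero_add]
  rwa [h2, one_mul] at h1

end lin

variable {G : Type u} [Group G] {F : Type} [Field F] {B Y V D : Subgroup G} {k : ℕ}

/-- the elements of `Y` which act as elements of `SL₂(F)^k` -/
def Rr (M : NatC F B Y V D k) : Subgroup G where
  carrier := {y | y ∈ Y ∧ ∃ A, ActsSL M.nat.e V D y A}
  mul_mem' := by
    rintro a b ⟨ha, A, hA, hA'⟩ ⟨hb, A', hA1, hA1'⟩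
    refine ⟨mul_mem ha hb, A * A', NatC.acts_mul (M := M) hb hA hA1, fun d hd => ?_⟩
    have e1 : Commute a d := hA' d hd
    have e2 : Commute b d := hA1' d hd
    exact (e1.mul_left e2).eq
  one_mem' := ⟨one_mem _, 1, NatC.acts_one (M := M), fun d _ => by simp⟩
  inv_mem' := by
    rintro a ⟨ha, A, hA, hA'⟩
    refine ⟨inv_mem ha, A⁻¹, NatC.acts_inv (M := M) ha hA, fun d hd => ?_⟩
    have e1 : Commute a d := hA' d hd
    exact e1.inv_left.eq

/-- the product of the lines -/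
def X0 (M : NatC F B Y V D k) : Subgroup G where
  carrier := {v | v ∈ V ∧ ∀ i, M.nat.e v i 1 = 0}
  mul_mem' := by
    rintro x y ⟨hx, hx'⟩ ⟨hy, hy'⟩
    refine ⟨mul_mem hx hy, fun i => ?_⟩
    rw [M.nat.mul x hx y hy, Pi.add_apply, Pi.add_apply, hx' i, hy' i, add_zero]
  one_mem' := ⟨one_mem _, fun i => by rw [M.map_one]; rfl⟩
  inv_mem' := by
    rintro x ⟨hx, hx'⟩
    refine ⟨inv_mem hx, fun i => ?_⟩
    rw [M.map_inv hx, Pi.neg_apply, Pi.neg_apply, hx' i, neg_zero]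

/-- `C_Y(V)` -/
def CY (Y V : Subgroup G) : Subgroup G := Y ⊓ centralizer (V : Set G)

/-- **The situation.** -/
structure TS (M : NatC F B Y V D k) (Q K : Subgroup G) (z : G) : Prop where
  hm : MinH Y B
  min : IsMinPar B Y
  QB : Q ≤ B
  BQ : B ≤ normalizer (Q : Set G)
  KQ : K ≤ Q
  KR : K ≤ Rr M
  KM : ∀ b : Fin k → F, ∃ t ∈ K, ActsSL M.nat.e V D t fun i => up (b i)
  Kc : K ≤ centralizer (X0 M : Set G)
  zV : z ∈ V
  zB : ∀ b ∈ B, b * z = z * b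
  zD : z ∉ D
  NB : Y ⊓ normalizer (B : Set G) ≤ normalizer (Q : Set G)
  Kw : ∀ R : Subgroup G, K ≤ R → R ≤ B → normalizer (R : Set G) ≤ normalizer (K : Set G)
  mp : ∀ Y' : Subgroup G, IsMinPar B Y' → Y' ≤ Y → Y' ≤ normalizer (K : Set G) → (∃ y ∈ Y', y * z ≠ z * y) →
    Y' ≤ normalizer (Q : Set G)

section basic

variable (M : NatC F B Y V D k)

theorem Rr_le : Rr M ≤ Y := fun _ h => h.1

theorem Rr_norm {g : G} (hg : g ∈ Y) {h : G} (hh : h ∈ Rr M) : g * h * g⁻¹ ∈ Rr M := by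
  obtain ⟨hhY, A, hA, hA'⟩ := hh
  obtain ⟨A', h1⟩ := M.nat.norm g hg h hhY A hA
  refine ⟨mul_mem (mul_mem hg hhY) (inv_mem hg), A', h1, fun d hd => ?_⟩
  have hd' : g⁻¹ * d * g ∈ D := by
    have := M.Dn g⁻¹ (inv_mem hg) d hd
    rwa [inv_inv] at this
  have h2 := hA' _ hd'
  calc g * h * g⁻¹ * d = g * (h * (g⁻¹ * d * g)) * g⁻¹ := by group
    _ = g * (g⁻¹ * d * g * h) * g⁻¹ := by rw [h2]
    _ = d * (g * h * g⁻¹) := by group

theorem X0_le : X0 M ≤ V := fun _ h => h.1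

theorem D_le_X0 : D ≤ X0 M := fun d hd => ⟨M.DV hd, fun i => by rw [(M.nat.ker d (M.DV hd)).2 hd]; rfl⟩

theorem CY_le_Rr : CY Y V ≤ Rr M := by
  rintro c ⟨hc, hcV⟩
  have h1 : ∀ v ∈ V, c * v = v * c := fun v hv => (mem_centralizer_iff.1 hcV v hv).symm
  refine ⟨hc, 1, fun v hv i => ?_, fun d hd => h1 d (M.DV hd)⟩
  rw [h1 v hv, mul_inv_cancel_right, Pi.one_apply, ap_one]

theorem CY_norm (M : NatC F B Y V D k) {g : G} (hg : g ∈ Y) {h : G} (hh : h ∈ CY Y V) : g * h * g⁻¹ ∈ CY Y V := by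
  obtain ⟨h1, h2⟩ := hh
  refine mem_inf.2 ⟨mul_mem (mul_mem hg h1) (inv_mem hg), mem_centralizer_iff.2 fun v hv => ?_⟩
  have hv' : g⁻¹ * v * g ∈ V := by
    have := M.Vn g⁻¹ (inv_mem hg) v hv
    rwa [inv_inv] at this
  have h3 := mem_centralizer_iff.1 h2 _ hv'
  calc v * (g * h * g⁻¹) = g * (g⁻¹ * v * g * h) * g⁻¹ := by group
    _ = g * (h * (g⁻¹ * v * g)) * g⁻¹ := by rw [h3]
    _ = g * h * g⁻¹ * v := by group

theorem Y_le_CY (M : NatC F B Y V D k) [Finite G] : Y ≤ normalizer (CY Y V : Set G) := fun _ hg =>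
  mem_norm_of fun _ hk => CY_norm M hg hk

/-- two elements with the same coordinates differ by an element of `D` -/
theorem div_mem {v w : G} (hv : v ∈ V) (hw : w ∈ V) (h : M.nat.e v = M.nat.e w) : v * w⁻¹ ∈ D := by
  rw [← M.nat.ker _ (mul_mem hv (inv_mem hw)), M.map_div hv hw, h, sub_self]

end basic

namespace TS

variable [Finite G] {M : NatC F B Y V D k} {Q K : Subgroup G} {z : G}

section a

variable [CharP F 2] (h : TS M Q K z)
include h

theorem KB : K ≤ B := h.KQ.trans h.QB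

theorem BY : B ≤ Y := h.hm.syl.1

theorem BV {b : G} (hb : b ∈ B) {v : G} (hv : v ∈ V) : b * v * b⁻¹ ∈ V := M.Vn b (h.BY hb) v hv

/-- `z` lies on the lines -/
theorem z1 (i : Fin k) : M.nat.e z i 1 = 0 := by
  obtain ⟨t, ht, ha⟩ := h.KM fun _ => 1
  have h1 := ha.1 z h.zV i
  rw [h.zB t (h.KB ht), mul_inv_cancel_right] at h1
  have h2 := congrFun h1 0
  rw [ap_zero', up_00, up_01, one_mul, one_mul] at h2
  exact left_eq_add.1 h2

theorem zX : z ∈ X0 M := ⟨h.zV, h.z1⟩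

/-- `z` has full support -/
theorem z0 (i : Fin k) : M.nat.e z i 0 ≠ 0 := by
  intro h0
  apply h.zD
  rw [← M.nat.ker z h.zV]
  have hi : M.nat.e z i = 0 := ext2 h0 (h.z1 i)
  funext j
  obtain ⟨t, ht, htr⟩ := M.nat.trans i j
  have h1 := (htr z h.zV).2 hi
  rw [h.zB t ht, mul_inv_cancel_right] at h1
  exact h1

theorem ez (i : Fin k) : M.nat.e z i = ![M.nat.e z i 0, 0] := ext2 rfl (h.z1 i)

/-- elements acting as upper unitriangular elements -/
theorem split_up {y : G} (hy : y ∈ Y) {b : Fin k → F} (ha : ActsSL M.nat.e V D y fun i => up (b i)) :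
    ∃ t ∈ K, ActsSL M.nat.e V D t (fun i => up (b i)) ∧ t⁻¹ * y ∈ CY Y V := by
  obtain ⟨t, ht, hta⟩ := h.KM b
  have htY := h.BY (h.KB ht)
  refine ⟨t, ht, hta, mem_inf.2 ⟨mul_mem (inv_mem htY) hy, mem_centralizer_iff.2 fun v hv => ?_⟩⟩
  have hs : t⁻¹ * y ∈ M.stab := by
    refine ⟨mul_mem (inv_mem htY) hy, ?_, fun d hd => ?_⟩
    · have h1 := NatC.acts_mul (M := M) hy (NatC.acts_inv (M := M) htY hta.1) ha.1
      rwa [inv_mul_cancel] at h1
    · have e1 : Commute t d := hta.2 d hd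
      have e2 : Commute y d := ha.2 d hd
      exact (e1.inv_left.mul_left e2).eq
  exact (M.cent_of_stab h.hm hs hv).symm

/-- upper unitriangular elements centralise the lines -/
theorem cent_up {y : G} (hy : y ∈ Y) {b : Fin k → F} (ha : ActsSL M.nat.e V D y fun i => up (b i)) {x : G}
    (hx : x ∈ X0 M) : y * x = x * y := by
  obtain ⟨t, ht, -, hc⟩ := h.split_up hy ha
  have e1 : Commute t x := (mem_centralizer_iff.1 (h.Kc ht) x hx).symm
  have e2 : Commute (t⁻¹ * y) x := (mem_centralizer_iff.1 hc.2 x (X0_le M hx)).symm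
  have e3 : t * (t⁻¹ * y) = y := by group
  have e4 := e1.mul_left e2
  rw [e3] at e4
  exact e4.eq

/-- elements of `Rr` which centralise `z` modulo `D` are upper unitriangular -/
theorem up_of_cent {y : G} {A : Fin k → Matrix.SpecialLinearGroup (Fin 2) F} (ha : ActsSL M.nat.e V D y A)
    (hz : M.nat.e (y * z * y⁻¹) = M.nat.e z) : A = fun i => up (ent (A i) 0 1) := by
  funext i
  refine exists_up_of_vec (h.z0 i) ?_
  have h1 := ha.1 z h.zV i
  rw [hz, h.ez i] at h1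
  exact h1.symm

theorem B_up {t : G} (ht : t ∈ B ⊓ Rr M) : ∃ b : Fin k → F, ActsSL M.nat.e V D t fun i => up (b i) := by
  obtain ⟨htB, htY, A, hA⟩ := ht
  have h1 := h.up_of_cent hA (by rw [h.zB t htB, mul_inv_cancel_right])
  exact ⟨fun i => ent (A i) 0 1, h1 ▸ hA⟩

theorem K_le_B0 : K ≤ B ⊓ Rr M := le_inf h.KB h.KR

/-- `C_V(B0) = X0` -/
theorem cv_B0 : V ⊓ centralizer ((B ⊓ Rr M : Subgroup G) : Set G) = X0 M := by
  apply le_antisymm
  · rintro v ⟨hv, hc⟩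
    refine ⟨hv, fun i => ?_⟩
    obtain ⟨t, ht, ha⟩ := h.KM fun _ => 1
    have h1 := ha.1 v hv i
    have h3 : t * v * t⁻¹ = v := by rw [mem_centralizer_iff.1 hc t (h.K_le_B0 ht)]; group
    rw [h3] at h1
    have h2 := congrFun h1 0
    rw [ap_zero', up_00, up_01, one_mul, one_mul] at h2
    exact left_eq_add.1 h2
  · intro v hv
    refine ⟨X0_le M hv, mem_centralizer_iff.2 fun t ht => ?_⟩
    obtain ⟨b, hb⟩ := h.B_up ht
    exact h.cent_up (h.BY ht.1) hb hv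

/-- `N_Y(B0)` -/
theorem norm_X0 {y : G} (hy : y ∈ Y) (hn : y ∈ normalizer ((B ⊓ Rr M : Subgroup G) : Set G)) {x : G} (hx : x ∈ X0 M) :
    y * x * y⁻¹ ∈ X0 M := by
  rw [← h.cv_B0] at hx ⊢
  refine ⟨M.Vn y hy x hx.1, mem_centralizer_iff.2 fun t ht => ?_⟩
  have h1 : y⁻¹ * t * y ∈ B ⊓ Rr M := by
    have := (mem_normalizer_iff.1 (inv_mem hn) t).1 ht
    rwa [inv_inv] at this
  have h2 := mem_centralizer_iff.1 hx.2 _ h1
  calc t * (y * x * y⁻¹) = y * (y⁻¹ * t * y * x) * y⁻¹ := by group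
    _ = y * (x * (y⁻¹ * t * y)) * y⁻¹ := by rw [h2]
    _ = y * x * y⁻¹ * t := by group

theorem B_norm : B ≤ normalizer ((B ⊓ Rr M : Subgroup G) : Set G) := fun b hb =>
  mem_norm_of fun t ht => mem_inf.2 ⟨mul_mem (mul_mem hb (mem_inf.1 ht).1) (inv_mem hb), Rr_norm M (h.BY hb) (mem_inf.1 ht).2⟩

end a

/-! ### Frattini -/

/-- the elements which act as upper unitriangular elements -/
def UX (M : NatC F B Y V D k) : Subgroup G where
  carrier := {y | y ∈ Y ∧ ∃ b : Fin k → F, ActsSL M.nat.e V D y fun i => up (b i)}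
  mul_mem' := by
    rintro a b ⟨ha, A, hA, hA'⟩ ⟨hb, A', hA1, hA1'⟩
    refine ⟨mul_mem ha hb, A + A', ?_, fun d hd => ?_⟩
    · have h1 := NatC.acts_mul (M := M) hb hA hA1
      have e : ((fun i => up (A i)) * fun i => up (A' i)) = fun i => up ((A + A') i) := by
        funext i
        rw [Pi.mul_apply, up_mul, Pi.add_apply]
      rwa [e] at h1
    · have e1 : Commute a d := hA' d hd
      have e2 : Commute b d := hA1' d hd
      exact (e1.mul_left e2).eq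
  one_mem' := ⟨one_mem _, 0, by
    have h1 := NatC.acts_one (M := M)
    have e : (1 : Fin k → Matrix.SpecialLinearGroup (Fin 2) F) = fun i => up ((0 : Fin k → F) i) := by
      funext i
      rw [Pi.zero_apply, up_zero, Pi.one_apply]
    rwa [e] at h1, fun d _ => by simp⟩
  inv_mem' := by
    rintro a ⟨ha, A, hA, hA'⟩
    refine ⟨inv_mem ha, -A, ?_, fun d hd => ?_⟩
    · have h1 := NatC.acts_inv (M := M) ha hA
      have e : (fun i => up (A i))⁻¹ = fun i => up ((-A) i) := by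
        funext i
        rw [Pi.inv_apply, up_inv, Pi.neg_apply]
      rwa [e] at h1
    · have e1 : Commute a d := hA' d hd
      exact e1.inv_left.eq

section frat

variable (M) in
theorem UX_le : UX M ≤ Rr M := fun _ h => ⟨h.1, _, h.2.choose_spec⟩

variable (M) in
theorem CY_le_UX : CY Y V ≤ UX M := by
  intro c hc
  obtain ⟨h1, A, h2, h3⟩ := CY_le_Rr M hc
  refine ⟨h1, 0, fun v hv i => ?_, h3⟩
  rw [(mem_centralizer_iff.1 hc.2 v hv).symm, mul_inv_cancel_right]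
  show M.nat.e v i = ap (up 0) (M.nat.e v i)
  rw [up_zero, ap_one]

variable [CharP F 2] (h : TS M Q K z)
include h

theorem K_le_UX : K ≤ UX M := fun _ ht => ⟨h.BY (h.KB ht), h.B_up (h.K_le_B0 ht)⟩

theorem B0_eq : B ⊓ Rr M = B ⊓ UX M :=
  le_antisymm (le_inf inf_le_left fun t ht => ⟨h.BY (mem_inf.1 ht).1, h.B_up ht⟩) (inf_le_inf_left _ (UX_le M))

theorem syl_B0 : Syl (B ⊓ Rr M) (UX M) := by
  have hC : Syl (B ⊓ CY Y V) (CY Y V) := syl_inf h.hm.syl inf_le_left fun _ hg _ hn => CY_norm M hg hn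
  refine ⟨h.B0_eq.le.trans inf_le_right, h.hm.syl.2.1.to_le inf_le_left, fun R hR hR2 hBR => ?_⟩
  refine le_antisymm ?_ hBR
  have hC' : B ⊓ CY Y V ≤ B ⊓ Rr M := inf_le_inf_left _ (CY_le_Rr M)
  have h1 : R ⊓ CY Y V = B ⊓ CY Y V :=
    hC.2.2 _ inf_le_right (hR2.to_le inf_le_left) (le_inf (hC'.trans hBR) inf_le_right)
  intro r hr
  obtain ⟨hrY, b, hb⟩ := hR hr
  obtain ⟨t, ht, -, hc⟩ := h.split_up hrY hb
  have htR : t ∈ R := hBR (h.K_le_B0 ht)
  have h2 : t⁻¹ * r ∈ B ⊓ CY Y V := by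
    rw [← h1]
    exact mem_inf.2 ⟨mul_mem (inv_mem htR) hr, hc⟩
  have h3 : r = t * (t⁻¹ * r) := by group
  rw [h3]
  exact mul_mem (h.K_le_B0 ht) (hC' h2)

/-- **Frattini**: an element of `Rr` which normalises `UX` may be changed by `C_Y(V)` to normalise `B0`. -/
theorem frat {g : G} (hg : g ∈ Y) (hn : cj g (UX M) = UX M) :
    ∃ c ∈ CY Y V, c * g ∈ normalizer ((B ⊓ Rr M : Subgroup G) : Set G) := by
  have h1 := syl_cj g h.syl_B0
  rw [hn] at h1
  obtain ⟨x, hx, hxe⟩ := syl_conj h1 h.syl_B0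
  obtain ⟨hxY, b, hb⟩ := hx
  obtain ⟨t, ht, -, hc⟩ := h.split_up hxY hb
  have htn : t⁻¹ ∈ normalizer ((B ⊓ Rr M : Subgroup G) : Set G) := inv_mem (h.B_norm (h.KB ht))
  refine ⟨t⁻¹ * x, hc, ?_⟩
  rw [mem_normalizer_iff_cj]
  have e1 : t⁻¹ * x * g = t⁻¹ * (x * g) := by group
  rw [e1, ← cj_cj, ← cj_cj, hxe]
  exact mem_normalizer_iff_cj.1 htn

end frat

/-! ### The torus -/

section tor

omit [Finite G] in
theorem ap_up_tri {A : Matrix.SpecialLinearGroup (Fin 2) F} (hA : ent A 1 0 = 0) (x : F) :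
    ap A ![x, 0] = ![ent A 0 0 * x, 0] := by
  apply ext2
  · rw [ap_zero']; simp
  · rw [ap_one', hA]; simp

omit [Finite G] in
theorem ent_det {A : Matrix.SpecialLinearGroup (Fin 2) F} (hA : ent A 1 0 = 0) : ent A 0 0 * ent A 1 1 = 1 := by
  have h := det_eq A
  rw [hA, mul_zero, sub_zero] at h
  exact h

omit [Finite G] in
/-- the commutator of two upper triangular matrices -/
theorem comm_up {A C : Matrix.SpecialLinearGroup (Fin 2) F} (hA : ent A 1 0 = 0) (hC : ent C 1 0 = 0) :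
    ∃ b, A * C * A⁻¹ * C⁻¹ = up b := by
  refine ⟨_, exists_up_of_vec one_ne_zero ?_⟩
  have h1 : ∀ {A : Matrix.SpecialLinearGroup (Fin 2) F}, ent A 1 0 = 0 → ∀ x : F,
      ap A⁻¹ ![x, 0] = ![ent A 1 1 * x, 0] := by
    intro A hA x
    have h2 : ap A ![ent A 1 1 * x, 0] = ![x, 0] := by
      rw [ap_up_tri hA, ← mul_assoc, ent_det hA, one_mul]
    rw [← h2, ap_inv_ap]
  rw [ap_mul, ap_mul, ap_mul, h1 hC, h1 hA, ap_up_tri hC, ap_up_tri hA]
  have e1 := ent_det hA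
  have e2 := ent_det hC
  have e3 : ent A 0 0 * (ent C 0 0 * (ent A 1 1 * (ent C 1 1 * 1))) = 1 := by
    calc _ = (ent A 0 0 * ent A 1 1) * (ent C 0 0 * ent C 1 1) := by ring
      _ = 1 := by rw [e1, e2, one_mul]
  rw [e3]

variable [CharP F 2] (h : TS M Q K z)
include h

/-- the diagonal elements -/
theorem tor (a : Fin k → F) (ha : ∀ i, a i ≠ 0) : ∃ t ∈ Y, t ∈ normalizer ((B ⊓ Rr M : Subgroup G) : Set G) ∧
    ActsSL M.nat.e V D t fun i => dg (a i) (ha i) := by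
  obtain ⟨g, hg, hga⟩ := M.nat.lift fun i => dg (a i) (ha i)
  have hn : cj g (UX M) = UX M := by
    refine mem_normalizer_iff_cj.1 (mem_norm_of fun y hy => ?_)
    obtain ⟨hyY, b, hb⟩ := hy
    refine ⟨mul_mem (mul_mem hg hyY) (inv_mem hg), fun i => a i ^ 2 * b i, ?_, fun d hd => ?_⟩
    · have h1 := NatC.acts_mul (M := M) (inv_mem hg) (NatC.acts_mul (M := M) hyY hga.1 hb.1)
        (NatC.acts_inv (M := M) hg hga.1)
      have e : ((fun i => dg (a i) (ha i)) * (fun i => up (b i)) * (fun i => dg (a i) (ha i))⁻¹) =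
          fun i => up (a i ^ 2 * b i) := by
        funext i
        rw [Pi.mul_apply, Pi.mul_apply, Pi.inv_apply, dg_up, mul_inv_cancel_right]
      rwa [e] at h1
    · have e1 : Commute g d := hga.2 d hd
      have e2 : Commute y d := hb.2 d hd
      exact ((e1.mul_left e2).mul_left e1.inv_left).eq
  obtain ⟨c, hc, hcn⟩ := h.frat hg hn
  refine ⟨c * g, mul_mem hc.1 hg, hcn, ?_, fun d hd => ?_⟩
  · intro v hv i
    have hv' := M.Vn g hg v hv
    have e1 : c * g * v * (c * g)⁻¹ = c * (g * v * g⁻¹) * c⁻¹ := by group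
    rw [e1, (mem_centralizer_iff.1 hc.2 _ hv').symm, mul_inv_cancel_right]
    exact hga.1 v hv i
  · have e1 : Commute g d := hga.2 d hd
    have e2 : Commute c d := (mem_centralizer_iff.1 hc.2 d (M.DV hd)).symm
    exact (e2.mul_left e1).eq

/-- the elements of `N_R(B0)` are upper triangular -/
theorem tri {r : G} (hr : r ∈ Y) (hn : r ∈ normalizer ((B ⊓ Rr M : Subgroup G) : Set G))
    {A : Fin k → Matrix.SpecialLinearGroup (Fin 2) F} (hA : ActsSL M.nat.e V D r A) (i : Fin k) : ent (A i) 1 0 = 0 := by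
  obtain ⟨v, hv, hev⟩ := M.nat.surj fun _ => ![1, 0]
  have hvX : v ∈ X0 M := ⟨hv, fun i => by rw [hev]; rfl⟩
  have h1 := (h.norm_X0 hr hn hvX).2 i
  rw [hA.1 v hv i, hev, ap_one'] at h1
  simpa using h1

/-- `N_R(B0)` is abelian on `X0` -/
theorem comm_X0 {r s : G} (hr : r ∈ Rr M) (hs : s ∈ Rr M) (hrn : r ∈ normalizer ((B ⊓ Rr M : Subgroup G) : Set G))
    (hsn : s ∈ normalizer ((B ⊓ Rr M : Subgroup G) : Set G)) {x : G} (hx : x ∈ X0 M) :
    r * s * r⁻¹ * s⁻¹ * x = x * (r * s * r⁻¹ * s⁻¹) := by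
  obtain ⟨hrY, A, hA⟩ := hr
  obtain ⟨hsY, C, hC⟩ := hs
  have h1 : ∀ i, ∃ b, A i * C i * (A i)⁻¹ * (C i)⁻¹ = up b := fun i =>
    comm_up (h.tri hrY hrn hA i) (h.tri hsY hsn hC i)
  choose b hb using h1
  refine h.cent_up (b := b) (mul_mem (mul_mem (mul_mem hrY hsY) (inv_mem hrY)) (inv_mem hsY)) ⟨?_, fun d hd => ?_⟩ hx
  · have h2 := NatC.acts_mul (M := M) (inv_mem hsY) (NatC.acts_mul (M := M) (inv_mem hrY)
      (NatC.acts_mul (M := M) hsY hA.1 hC.1) (NatC.acts_inv (M := M) hrY hA.1)) (NatC.acts_inv (M := M) hsY hC.1)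
    have e : A * C * A⁻¹ * C⁻¹ = fun i => up (b i) := by
      funext i
      rw [Pi.mul_apply, Pi.mul_apply, Pi.mul_apply, Pi.inv_apply, Pi.inv_apply, hb]
    rwa [e] at h2
  · have e1 : Commute r d := hA.2 d hd
    have e2 : Commute s d := hC.2 d hd
    exact (((e1.mul_left e2).mul_left e1.inv_left).mul_left e2.inv_left).eq

end tor

/-! ### `Q C_Y(V)` is normal in `N_Y(B0)` -/

section nrm

omit [Finite G] in
theorem norm_sup {A C : Subgroup G} {g : G} (h1 : g ∈ normalizer (A : Set G)) (h2 : g ∈ normalizer (C : Set G)) :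
    g ∈ normalizer ((A ⊔ C : Subgroup G) : Set G) := by
  rw [mem_normalizer_iff_cj] at *
  have h3 : cj g (A ⊔ C) = cj g A ⊔ cj g C := Subgroup.map_sup _ _ _
  rw [h3, h1, h2]

variable [CharP F 2] (h : TS M Q K z)
include h

theorem Rr_norm' : Y ≤ normalizer (Rr M : Set G) := fun _ hg => mem_norm_of fun _ hk => Rr_norm M hg hk

theorem oddGen_le_Rr : oddGen Y ≤ Rr M := by
  rcases min_or h.hm.syl h.min (Rr_le M) h.Rr_norm' with h1 | h1
  · exact h1
  · exfalso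
    obtain ⟨t, ht, hta⟩ := h.KM fun _ => 1
    obtain ⟨v, hv, hev⟩ := M.nat.surj fun _ => ![0, 1]
    have h2 := M.VcQ t (h1 (h.K_le_B0 ht)) v hv
    have h3 := hta.1 v hv ⟨0, M.pos⟩
    rw [h2, mul_inv_cancel_right, hev] at h3
    have h4 := congrFun h3 0
    rw [ap_zero'] at h4
    simp at h4

/-- odd elements which centralise `z` centralise `V` -/
theorem odd_cent {y : G} (hy : y ∈ Y) (ho : Odd (orderOf y)) (hz : y * z = z * y) : y ∈ CY Y V := by
  obtain ⟨-, A, hA⟩ := h.oddGen_le_Rr (mem_oddGen hy ho)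
  have h1 := h.up_of_cent hA (by rw [hz, mul_inv_cancel_right])
  have hpow : ∀ m : ℕ, M.Acts (y ^ m) (A ^ m) := by
    intro m
    induction m with
    | zero => rw [pow_zero, pow_zero]; exact NatC.acts_one
    | succ m ih => rw [pow_succ, pow_succ]; exact NatC.acts_mul hy ih hA.1
  have h2 := hpow (orderOf y)
  rw [pow_orderOf_eq_one] at h2
  have h3 := NatC.acts_unique h2 NatC.acts_one
  have h4 : ∀ i, ent (A i) 0 1 = 0 := by
    intro i
    refine up_odd ho ?_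
    have h5 := congrFun h3 i
    rw [Pi.pow_apply, Pi.one_apply] at h5
    have h6 := congrFun h1 i
    rw [← h6]
    exact h5
  refine mem_inf.2 ⟨hy, mem_centralizer_iff.2 fun v hv => (M.cent_of_stab h.hm ⟨hy, fun w hw i => ?_, hA.2⟩ hv).symm⟩
  rw [hA.1 w hw i, Pi.one_apply, congrFun h1 i]
  show ap (up (ent (A i) 0 1)) _ = _
  rw [h4 i, up_zero]

theorem norm_QC : Y ⊓ normalizer ((B ⊓ Rr M : Subgroup G) : Set G) ≤ normalizer ((Q ⊔ CY Y V : Subgroup G) : Set G) := by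
  refine MinSimple.MinParabolic.le_of_forall (S := B) (le_inf h.BY h.B_norm) ?_ ?_
  · rintro y ⟨⟨hy, -⟩, hyB⟩
    exact norm_sup (h.NB ⟨hy, hyB⟩) (Y_le_CY M hy)
  · intro Y' hY' hle
    have hYY : Y' ≤ Y := hle.trans inf_le_left
    have hYK : Y' ≤ normalizer (K : Set G) := (hle.trans inf_le_right).trans (h.Kw _ h.K_le_B0 inf_le_left)
    by_cases hz : ∃ y ∈ Y', y * z ≠ z * y
    · exact fun y hy => norm_sup (h.mp Y' hY' hYY hYK hz hy) (Y_le_CY M (hYY hy))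
    · push Not at hz
      have hsyl : Syl B Y' := ⟨hY'.le, h.hm.syl.2.1, fun R hR hR2 hBR => h.hm.syl.2.2 R (hR.trans hYY) hR2 hBR⟩
      rw [← NO3b.EZero.oddGen_sup_syl hsyl]
      refine sup_le ?_ fun b hb => norm_sup (h.BQ hb) (Y_le_CY M (h.BY hb))
      have hcl : oddGen Y' = closure {x : G | x ∈ Y' ∧ Odd (orderOf x)} := rfl
      rw [hcl, closure_le]
      rintro g ⟨hg, ho⟩
      exact le_normalizer ((le_sup_right : CY Y V ≤ Q ⊔ CY Y V) (h.odd_cent (hYY hg) ho (hz g hg)))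

/-- **`[N_R(B0), Q]` centralises `X0`** -/
theorem comm_cent {r q x : G} (hr : r ∈ Rr M) (hrn : r ∈ normalizer ((B ⊓ Rr M : Subgroup G) : Set G)) (hq : q ∈ Q)
    (hx : x ∈ X0 M) : r * q * r⁻¹ * q⁻¹ * x = x * (r * q * r⁻¹ * q⁻¹) := by
  have hqY : q ∈ Y := h.BY (h.QB hq)
  have h1 : r * q * r⁻¹ ∈ Q ⊔ CY Y V :=
    (mem_normalizer_iff.1 (h.norm_QC ⟨hr.1, hrn⟩) q).1 ((le_sup_left : Q ≤ Q ⊔ CY Y V) hq)
  obtain ⟨q', hq', c, hc, e⟩ := mem_sup_norm (A := Q) (B := CY Y V) (fun q hq => Y_le_CY M (h.BY (h.QB hq))) h1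
  have hc' : q * c * q⁻¹ ∈ CY Y V := CY_norm M hqY hc
  have e1 : r * q * r⁻¹ * q⁻¹ = (q' * q⁻¹) * (q * c * q⁻¹) := by rw [e]; group
  have h2 : r * q * r⁻¹ * q⁻¹ ∈ Rr M := by
    have h3 := mul_mem hr (Rr_norm M hqY (inv_mem hr))
    have e2 : r * q * r⁻¹ * q⁻¹ = r * (q * r⁻¹ * q⁻¹) := by group
    rwa [e2]
  have h3 : q' * q⁻¹ ∈ B ⊓ Rr M := by
    refine mem_inf.2 ⟨mul_mem (h.QB hq') (inv_mem (h.QB hq)), ?_⟩
    have h4 := mul_mem h2 (inv_mem (CY_le_Rr M hc'))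
    rwa [e1, mul_inv_cancel_right] at h4
  obtain ⟨b, hb⟩ := h.B_up h3
  have h4 : Commute (q' * q⁻¹) x := h.cent_up (mem_inf.1 h3).2.1 hb hx
  have h5 : Commute (q * c * q⁻¹) x := (mem_centralizer_iff.1 hc'.2 x (X0_le M hx)).symm
  rw [e1]
  exact (h4.mul_left h5).eq

end nrm

/-! ### The complement -/

section main

omit [Finite G] in
theorem V_comm (M : NatC F B Y V D k) {v w : G} (hv : v ∈ V) (hw : w ∈ V) : v * w = w * v := M.Vcomm hv hw

variable [CharP F 2] (h : TS M Q K z)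
include h

/-- conjugates under `N_R(B0)` of elements centralised by `Q` are centralised by `Q` -/
theorem cent_cj {r x : G} (hr : r ∈ Rr M) (hrn : r ∈ normalizer ((B ⊓ Rr M : Subgroup G) : Set G)) (hx : x ∈ X0 M)
    (hxQ : ∀ q ∈ Q, q * x = x * q) : ∀ q ∈ Q, q * (r * x * r⁻¹) = r * x * r⁻¹ * q := by
  intro q hq
  have h1 : r⁻¹ * q * r * q⁻¹ * x = x * (r⁻¹ * q * r * q⁻¹) := by
    have := h.comm_cent (inv_mem hr) (inv_mem hrn) hq hx
    rwa [inv_inv] at this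
  have h2 := hxQ q hq
  calc q * (r * x * r⁻¹) = r * (r⁻¹ * q * r * q⁻¹) * (q * x) * r⁻¹ := by group
    _ = r * (r⁻¹ * q * r * q⁻¹ * x) * q * r⁻¹ := by rw [h2]; group
    _ = r * (x * (r⁻¹ * q * r * q⁻¹)) * q * r⁻¹ := by rw [h1]
    _ = r * x * r⁻¹ * q := by group

/-- every element of `X0` agrees modulo `D` with an element centralised by `Q` -/
theorem exists_cent (hF : ∀ a : F, ∃ c : F, c ≠ 0 ∧ c ≠ a) {v : G} (hv : v ∈ X0 M) :
    ∃ m ∈ X0 M, (∀ q ∈ Q, q * m = m * q) ∧ M.nat.e m = M.nat.e v := by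
  -- full support
  have key : ∀ c : Fin k → F, (∀ i, c i ≠ 0) → ∃ m ∈ X0 M, (∀ q ∈ Q, q * m = m * q) ∧ ∀ i, M.nat.e m i = ![c i, 0] := by
    intro c hc
    have ha : ∀ i, c i * (M.nat.e z i 0)⁻¹ ≠ 0 := fun i => mul_ne_zero (hc i) (inv_ne_zero (h.z0 i))
    obtain ⟨t, htY, htn, hta⟩ := h.tor (fun i => c i * (M.nat.e z i 0)⁻¹) ha
    refine ⟨t * z * t⁻¹, h.norm_X0 htY htn h.zX,
      h.cent_cj ⟨htY, _, hta⟩ htn h.zX fun q hq => h.zB q (h.QB hq), fun i => ?_⟩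
    rw [hta.1 z h.zV i]
    apply ext2
    · rw [ap_zero', dg_00, dg_01, zero_mul, add_zero]
      simp only [Matrix.cons_val_zero]
      rw [mul_assoc, inv_mul_cancel₀ (h.z0 i), mul_one]
    · rw [ap_one', dg_10, dg_11, h.z1 i, zero_mul, mul_zero, add_zero]
      rfl
  choose c hc0 hc1 using fun i : Fin k => hF (M.nat.e v i 0)
  obtain ⟨m, hm, hmQ, em⟩ := key c hc0
  obtain ⟨n, hn, hnQ, en⟩ := key (fun i => M.nat.e v i 0 - c i) fun i => sub_ne_zero.2 (hc1 i).symm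
  refine ⟨m * n, mul_mem hm hn, fun q hq => ?_, ?_⟩
  · have e1 : Commute q m := hmQ q hq
    have e2 : Commute q n := hnQ q hq
    exact (e1.mul_right e2).eq
  · rw [M.nat.mul m hm.1 n hn.1]
    funext i
    rw [Pi.add_apply, em, en]
    apply ext2
    · rw [Pi.add_apply]
      simp
    · rw [Pi.add_apply, hv.2 i]
      simp

/-- **The complement.** -/
theorem main (hF : ∀ a : F, ∃ c : F, c ≠ 0 ∧ c ≠ a) (hF1 : ∃ c : F, c ≠ 0 ∧ c ≠ 1) : ∃ E1 : Subgroup G, E1 ≤ X0 M ∧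
    Q ≤ centralizer (E1 : Set G) ∧ E1 ⊓ D = ⊥ ∧ B ≤ normalizer (E1 : Set G) ∧
      ∀ v ∈ X0 M, ∃ c ∈ E1, M.nat.e c = M.nat.e v := by
  obtain ⟨l, hl0, hl1⟩ := hF1
  have hl2 : l - 1 ≠ 0 := sub_ne_zero.2 hl1
  obtain ⟨t, htY, htn, hta⟩ := h.tor (fun _ => l) fun _ => hl0
  have htR : t ∈ Rr M := ⟨htY, _, hta⟩
  have hX : ∀ {x y : G}, x ∈ X0 M → y ∈ X0 M → x * y = y * x := fun hx hy => V_comm M hx.1 hy.1
  have hnX : ∀ {r x : G}, r ∈ Y → r ∈ normalizer ((B ⊓ Rr M : Subgroup G) : Set G) → x ∈ X0 M → r * x * r⁻¹ ∈ X0 M :=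
    fun hr hn hx => h.norm_X0 hr hn hx
  -- the homomorphism
  have hmul : ∀ v ∈ X0 M, ∀ w ∈ X0 M, t * (v * w) * t⁻¹ * (v * w)⁻¹ = (t * v * t⁻¹ * v⁻¹) * (t * w * t⁻¹ * w⁻¹) := by
    intro v hv w hw
    have h1 : w⁻¹ * v⁻¹ = v⁻¹ * w⁻¹ := hX (inv_mem hw) (inv_mem hv)
    have h2 : t * w * t⁻¹ * v⁻¹ = v⁻¹ * (t * w * t⁻¹) := hX (hnX htY htn hw) (inv_mem hv)
    calc t * (v * w) * t⁻¹ * (v * w)⁻¹ = t * v * t⁻¹ * (t * w * t⁻¹) * (w⁻¹ * v⁻¹) := by group
      _ = t * v * t⁻¹ * (t * w * t⁻¹ * v⁻¹) * w⁻¹ := by rw [h1]; group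
      _ = t * v * t⁻¹ * (v⁻¹ * (t * w * t⁻¹)) * w⁻¹ := by rw [h2]
      _ = _ := by group
  let E1 : Subgroup G :=
    { carrier := {x | ∃ v ∈ X0 M, x = t * v * t⁻¹ * v⁻¹}
      mul_mem' := by
        rintro _ _ ⟨v, hv, rfl⟩ ⟨w, hw, rfl⟩
        exact ⟨v * w, mul_mem hv hw, (hmul v hv w hw).symm⟩
      one_mem' := ⟨1, one_mem _, by group⟩
      inv_mem' := by
        rintro _ ⟨v, hv, rfl⟩
        refine ⟨v⁻¹, inv_mem hv, ?_⟩
        have h2 : t * v⁻¹ * t⁻¹ * v = v * (t * v⁻¹ * t⁻¹) := hX (hnX htY htn (inv_mem hv)) hv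
        rw [inv_inv, h2]
        group }
  have hE : ∀ x ∈ E1, x ∈ X0 M := by
    rintro _ ⟨v, hv, rfl⟩
    exact mul_mem (hnX htY htn hv) (inv_mem hv)
  -- the coordinates
  have hco : ∀ v ∈ X0 M, ∀ i, M.nat.e (t * v * t⁻¹ * v⁻¹) i = ![(l - 1) * M.nat.e v i 0, 0] := by
    intro v hv i
    rw [M.map_div (hnX htY htn hv).1 hv.1, Pi.sub_apply, hta.1 v hv.1 i]
    apply ext2
    · rw [Pi.sub_apply, ap_zero', dg_00, dg_01, zero_mul, add_zero]
      simp only [Matrix.cons_val_zero]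
      ring
    · rw [Pi.sub_apply, ap_one', dg_10, dg_11, hv.2 i, zero_mul, mul_zero, add_zero, sub_zero]
      rfl
  have hcov : ∀ v ∈ X0 M, ∃ c ∈ E1, M.nat.e c = M.nat.e v := by
    intro v hv
    obtain ⟨w, hw, ew⟩ := M.nat.surj fun i => ![(l - 1)⁻¹ * M.nat.e v i 0, 0]
    have hwX : w ∈ X0 M := ⟨hw, fun i => by rw [ew]; rfl⟩
    refine ⟨_, ⟨w, hwX, rfl⟩, ?_⟩
    funext i
    rw [hco w hwX i, ew]
    apply ext2
    · simp only [Matrix.cons_val_zero]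
      rw [← mul_assoc, mul_inv_cancel₀ hl2, one_mul]
    · rw [hv.2 i]
      rfl
  have hDt : ∀ d ∈ D, t * d * t⁻¹ * d⁻¹ = 1 := by
    intro d hd
    rw [hta.2 d hd]
    group
  -- `E1` depends only on the coordinates
  have hdep : ∀ v ∈ X0 M, ∀ w ∈ X0 M, M.nat.e v = M.nat.e w → t * v * t⁻¹ * v⁻¹ = t * w * t⁻¹ * w⁻¹ := by
    intro v hv w hw e
    have hd := div_mem M hv.1 hw.1 e
    have hdX : v * w⁻¹ ∈ X0 M := mul_mem hv (inv_mem hw)
    have h1 := hmul _ hdX w hw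
    rw [inv_mul_cancel_right, hDt _ hd, one_mul] at h1
    exact h1
  refine ⟨E1, hE, ?_, ?_, ?_, hcov⟩
  · intro q hq
    rw [mem_centralizer_iff]
    rintro _ ⟨v, hv, rfl⟩
    obtain ⟨m, hm, hmQ, em⟩ := h.exists_cent hF hv
    rw [← hdep m hm v hv em]
    have e1 : Commute q (t * m * t⁻¹) := h.cent_cj htR htn hm hmQ q hq
    have e2 : Commute q m := hmQ q hq
    exact (e1.mul_right e2.inv_right).eq.symm
  · rw [eq_bot_iff]
    rintro x ⟨⟨v, hv, rfl⟩, hxD⟩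
    rw [mem_bot]
    apply hDt
    rw [← M.nat.ker v hv.1]
    funext i
    have h1 := hco v hv i
    rw [(M.nat.ker _ (M.DV hxD)).2 hxD] at h1
    have h2 := congrFun h1 0
    simp only [Matrix.cons_val_zero] at h2
    have h3 : M.nat.e v i 0 = 0 := by
      rcases mul_eq_zero.1 h2.symm with h3 | h3
      · exact absurd h3 hl2
      · exact h3
    exact ext2 h3 (hv.2 i)
  · intro b hb
    have hbY := h.BY hb
    refine mem_norm_of ?_
    rintro _ ⟨v, hv, rfl⟩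
    -- `r w r⁻¹ w⁻¹ ∈ E1`
    have hbn := h.B_norm hb
    set r := b * t * b⁻¹ with hr
    set w := b * v * b⁻¹ with hw
    have hrR : r ∈ Rr M := Rr_norm M hbY htR
    have hrn : r ∈ normalizer ((B ⊓ Rr M : Subgroup G) : Set G) := mul_mem (mul_mem hbn htn) (inv_mem hbn)
    have hwX : w ∈ X0 M := hnX hbY hbn hv
    have e1 : b * (t * v * t⁻¹ * v⁻¹) * b⁻¹ = r * w * r⁻¹ * w⁻¹ := by rw [hr, hw]; group
    rw [e1]
    obtain ⟨c, hc, ec⟩ := hcov w hwX
    have hcX := hE c hc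
    obtain ⟨-, A, hA⟩ := hrR
    have hrY : r ∈ Y := mul_mem (mul_mem hbY htY) (inv_mem hbY)
    -- `[r, w] = [r, c]`
    have hd := div_mem M hwX.1 hcX.1 ec.symm
    have e2 : r * (w * c⁻¹) * r⁻¹ = w * c⁻¹ := by rw [hA.2 _ hd]; group
    have e3 : r * w * r⁻¹ * w⁻¹ = r * c * r⁻¹ * c⁻¹ := by
      have h3 : r * w * r⁻¹ = w * c⁻¹ * (r * c * r⁻¹) := by
        calc r * w * r⁻¹ = (r * (w * c⁻¹) * r⁻¹) * (r * c * r⁻¹) := by group
          _ = _ := by rw [e2]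
      have h4 : r * c * r⁻¹ ∈ X0 M := hnX hrY hrn hcX
      rw [h3]
      have h5 : w * c⁻¹ * (r * c * r⁻¹) * w⁻¹ = (r * c * r⁻¹) * (w * c⁻¹ * w⁻¹) := by
        have h6 := hX (mul_mem hwX (inv_mem hcX)) h4
        rw [h6]; group
      have h7 : w * c⁻¹ * w⁻¹ = c⁻¹ := by
        have := hX hwX (inv_mem hcX)
        rw [this]; group
      rw [h5, h7]
    rw [e3]
    refine mul_mem ?_ (inv_mem hc)
    obtain ⟨u, hu, rfl⟩ := hc
    refine ⟨r * u * r⁻¹, hnX hrY hrn hu, ?_⟩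
    -- the commutator of `r` and `t` centralises `X0`
    have h8 := h.comm_X0 (inv_mem htR) ⟨hrY, A, hA⟩ (inv_mem htn) hrn hu
    have h9 : r⁻¹ * t * r * t⁻¹ * (t * u * t⁻¹) * (r⁻¹ * t * r * t⁻¹)⁻¹ = t * u * t⁻¹ := by
      have := h.comm_X0 (inv_mem (⟨hrY, A, hA⟩ : r ∈ Rr M)) htR (inv_mem hrn) htn (hnX htY htn hu)
      rw [inv_inv] at this
      rw [this]; group
    calc r * (t * u * t⁻¹ * u⁻¹) * r⁻¹ = r * (t * u * t⁻¹) * r⁻¹ * (r * u⁻¹ * r⁻¹) := by group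
      _ = r * (r⁻¹ * t * r * t⁻¹ * (t * u * t⁻¹) * (r⁻¹ * t * r * t⁻¹)⁻¹) * r⁻¹ * (r * u⁻¹ * r⁻¹) := by rw [h9]
      _ = t * (r * u * r⁻¹) * t⁻¹ * (r * u * r⁻¹)⁻¹ := by group

end main

end TS

end Cfsg.Agent.Omega.CaseLQ.Torus
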