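import Cfsg.Agent.Omega.CaseLQ.Torus
import Cfsg.Agent.Omega.NO3S.EThree.FrameG

/-!
# The weird parabolics of the case (L), `q = 2`: the torus (#25080 (d)), the end over `Bg`

Over `TS M (o2 P) K z` (`Torus.lean`), `Bg S P B ZJ L W Z C 2`, `V ∩ C(O₂(P)) ≤ V_P`, `Z l ≤ D` for `l ≠ j`, `|F| ≥ 4`:

* `TS.one_of` : `k = 1`, `|F| = 4`, `X0 = W j D`;
* `TS.up_of` : `O₂(P)` acts on `V` inside the product of the root groups.
-/

set_option autoImplicit false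
set_option linter.unusedSectionVars false

namespace Cfsg.Agent.Omega.CaseLQ.Torus

open Subgroup Cfsg Cfsg.Agent.ZN Cfsg.Agent.ZN.ChoiceBase
open Cfsg.Agent.ZN.ChoiceSit (Syl syl_conj)
open Cfsg.Agent.MinSimple.MinParabolic (IsMinPar)
open Cfsg.Agent.MinSimple.VModule (oddGen oddGen_le mem_oddGen)
open Cfsg.Agent.Omega.FFThm (NatK NatKM ActsSL)
open Cfsg.Agent.Omega.NO3b.K0 (conj_mem' cj_of_le cj_self min_or)
open Cfsg.Agent.Omega.NO3S.NotFF (le_normalizer_of_forall)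
open Cfsg.Agent.Omega.SQ1.Bau (mem_sup_comm card_sup_comm mem_sup_norm)
open Cfsg.Agent.Omega.SQ1.FFOne (MinH syl_inf mem_norm_of)
open Cfsg.Agent.Omega.NatPair (ap ap_zero' ap_one' ap_one ap_mul ap_add ext2 ap_inv_ap ap_inj)
open Cfsg.Agent.Omega.NO3S.OneLine (NatC card_of_hom)
open Cfsg.Agent.Omega.NO3S.EThree.Frame (Bg Fg)
open Cfsg.Agent.Lib.SL2Mat

universe u

variable {G : Type u} [Group G] [Finite G]

/-! ### Over `Bg` -/

section bg

variable {S : Sylow 2 G} {P B ZJ : Subgroup G} {ι : Type} {L W Z C : ι → Subgroup G}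
  (h : Bg S P B ZJ L W Z C 2)
include h

/-- `Z_J ∩ C j ≤ ⟨Z l : l ≠ j⟩` -/
theorem ZC_le [Finite ι] (i : ι) : ZJ ⊓ C i ≤ ⨆ j : {j : ι // j ≠ i}, Z j := by
  classical
  have := Fintype.ofFinite ι
  rintro v ⟨hvJ, hv⟩
  have hle : (⨆ j : {j : ι // j ≠ i}, Z j) ≤ C i := iSup_le fun j => (h.fr.blk j).ZV.trans (h.fr.WjC i j j.2.symm)
  have hleJ : (⨆ j : {j : ι // j ≠ i}, Z j) ≤ ZJ := iSup_le fun j => h.fr.Z_le j
  have key : ∀ s : Finset ι, i ∉ s → ∃ u ∈ ⨆ j : {j : ι // j ≠ i}, Z j, ∀ j ∈ s, u⁻¹ * v ∈ C j := by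
    intro s
    induction s using Finset.induction_on with
    | empty => exact fun _ => ⟨1, one_mem _, by simp⟩
    | insert j s hj ih =>
      intro hi
      have hji : j ≠ i := fun e => hi (e ▸ Finset.mem_insert_self _ _)
      obtain ⟨u, hu, h1⟩ := ih fun e => hi (Finset.mem_insert_of_mem e)
      obtain ⟨w, hw, c, hc, -, e⟩ := h.fr.split_ZJ j (mul_mem (inv_mem (hleJ hu)) hvJ)
      refine ⟨u * w, mul_mem hu (mem_iSup_of_mem (⟨j, hji⟩ : {j : ι // j ≠ i}) hw), fun l hl => ?_⟩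
      have e1 : (u * w)⁻¹ * v = w⁻¹ * (u⁻¹ * v) := by group
      rw [e1]
      rcases Finset.mem_insert.1 hl with rfl | hl
      · rw [e]
        have : w⁻¹ * (w * c) = c := by group
        rwa [this]
      · have hlj : l ≠ j := fun e => hj (e ▸ hl)
        exact mul_mem (inv_mem (h.fr.WjC l j hlj ((h.fr.blk j).ZV hw))) (h1 l hl)
  obtain ⟨u, hu, h1⟩ := key (Finset.univ.erase i) (Finset.notMem_erase _ _)
  have h2 : u⁻¹ * v = 1 := by
    refine h.fr.C0 _ (h.fr.ZJV (mul_mem (inv_mem (hleJ hu)) hvJ)) fun j => ?_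
    by_cases hj : j = i
    · subst hj
      exact mul_mem (inv_mem (hle hu)) hv
    · exact h1 j (Finset.mem_erase.2 ⟨hj, Finset.mem_univ _⟩)
  rw [← inv_mul_eq_one.1 h2]
  exact hu

/-- A `B`-invariant subgroup of `V_P` which meets the `Z l`, `l ≠ j`, trivially lies in `W j (Z_J ∩ C j)`. -/
theorem E_le {j : ι} {E : Subgroup G} (hE : E ≤ zl (S : Subgroup G) P) (hB : B ≤ normalizer (E : Set G))
    (hZ : ∀ l, l ≠ j → E ⊓ Z l = ⊥) : E ≤ W j ⊔ (ZJ ⊓ C j) := by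
  intro x hx
  obtain ⟨w, hw, c, hc, e⟩ := h.fr.WC j x (hE hx)
  refine e ▸ mul_mem (mem_sup_left hw) (mem_sup_right (mem_inf.2 ⟨?_, hc⟩))
  refine (h.fr.mem_ZJ c).2 ⟨h.fr.CV j hc, fun b hb => ?_⟩
  have hu : b * c * b⁻¹ * c⁻¹ = 1 := by
    refine h.fr.C0 _ ?_ fun i => ?_
    · have h1 := h.fr.CV j (h.fr.BC j b hb c hc)
      exact mul_mem h1 (inv_mem (h.fr.CV j hc))
    · by_cases hij : i = j
      · subst hij
        exact mul_mem (h.fr.BC i b hb c hc) (inv_mem hc)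
      · -- the component of `x`
        obtain ⟨w', hw', c', hc', e'⟩ := h.fr.WC i x (hE hx)
        have hwZ : w' ∈ Z i := by
          by_contra hnot
          obtain ⟨z, hz, hz1⟩ : ∃ z ∈ Z i, z ≠ 1 := by
            by_contra hcon
            push Not at hcon
            exact h.Z_ne i ((eq_bot_iff_forall _).2 hcon)
          obtain ⟨b', hb', hbC, hbe⟩ := h.root i w' hw' hnot z hz
          have h1 : c' * b' = b' * c' := mem_centralizer_iff.1 hbC c' hc'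
          have h2 : b' * x * b'⁻¹ * x⁻¹ = z := by
            have e2 : b' * (w' * c') * b'⁻¹ * (w' * c')⁻¹ = b' * w' * (c' * b'⁻¹ * c'⁻¹) * w'⁻¹ := by group
            have e3 : c' * b'⁻¹ * c'⁻¹ = b'⁻¹ := by
              have e4 : c' * b'⁻¹ * c'⁻¹ = (c' * b' * c'⁻¹)⁻¹ := by group
              rw [e4, h1, mul_inv_cancel_right]
            rw [e', e2, e3]
            exact hbe
          have h3 : z ∈ E ⊓ Z i := by
            refine mem_inf.2 ⟨?_, hz⟩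
            rw [← h2]
            exact mul_mem ((mem_normalizer_iff.1 (hB hb') x).1 hx) (inv_mem hx)
          rw [hZ i hij, mem_bot] at h3
          exact hz1 h3
        have hwi : w⁻¹ * c' ∈ C i := mul_mem (inv_mem (h.fr.WjC i j hij hw)) hc'
        have hc2 : c = w' * (w⁻¹ * c') := by
          have h5 : c = w⁻¹ * x := by rw [e]; group
          have h6 : w⁻¹ * w' = w' * w⁻¹ :=
            h.fr.Vc (inv_mem (h.fr.WV j hw)) (h.fr.WV i hw')
          rw [h5, e', ← mul_assoc, h6, mul_assoc]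
        have h7 : b * w' = w' * b := (h.fr.blk i).cZ b hb w' hwZ
        have h8 := h.fr.BC i b hb _ hwi
        have h9 : b * c * b⁻¹ * c⁻¹ = w' * ((b * (w⁻¹ * c') * b⁻¹) * (w⁻¹ * c')⁻¹) * w'⁻¹ := by
          rw [hc2]
          calc b * (w' * (w⁻¹ * c')) * b⁻¹ * (w' * (w⁻¹ * c'))⁻¹
              = (b * w') * (w⁻¹ * c') * b⁻¹ * (w⁻¹ * c')⁻¹ * w'⁻¹ := by group
            _ = (w' * b) * (w⁻¹ * c') * b⁻¹ * (w⁻¹ * c')⁻¹ * w'⁻¹ := by rw [h7]
            _ = _ := by group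
        have h10 : (b * (w⁻¹ * c') * b⁻¹) * (w⁻¹ * c')⁻¹ ∈ C i := mul_mem h8 (inv_mem hwi)
        rw [h9, h.fr.Vc (h.fr.WV i hw') (h.fr.CV i h10), mul_inv_cancel_right]
        exact h10
  exact mul_inv_eq_iff_eq_mul.1 (mul_inv_eq_one.1 hu)

/-- the order of `E` -/
theorem E_card {j : ι} {E : Subgroup G} (hE : E ≤ W j ⊔ (ZJ ⊓ C j)) (h0 : E ⊓ (ZJ ⊓ C j) = ⊥) :
    Nat.card E ≤ 4 ∧ (Nat.card E = 4 → W j ≤ E ⊔ (ZJ ⊓ C j)) := by
  have hWV : W j ⊔ (ZJ ⊓ C j) ≤ zl (S : Subgroup G) P := sup_le (h.fr.WV j) (inf_le_left.trans h.fr.ZJV)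
  have hEV := hE.trans hWV
  have hJV : ZJ ⊓ C j ≤ zl (S : Subgroup G) P := inf_le_left.trans h.fr.ZJV
  have c1 := card_sup_comm (A := E) (B := ZJ ⊓ C j) fun a ha b hb => h.fr.Vc (hEV ha) (hJV hb)
  have c2 := card_sup_comm (A := W j) (B := ZJ ⊓ C j) fun a ha b hb => h.fr.Vc (h.fr.WV j ha) (hJV hb)
  have h1 : W j ⊓ (ZJ ⊓ C j) = ⊥ := by
    rw [eq_bot_iff, ← h.fr.dir j]
    exact inf_le_inf_left _ inf_le_right
  rw [h0, card_bot, mul_one] at c1
  rw [h1, card_bot, mul_one, (h.fr.blk j).card, h.fr.cardZ j] at c2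
  have hp : 0 < Nat.card ↥(ZJ ⊓ C j) := Nat.card_pos
  have hle : E ⊔ (ZJ ⊓ C j) ≤ W j ⊔ (ZJ ⊓ C j) := sup_le hE le_sup_right
  have c3 := Subgroup.card_le_of_le hle
  rw [c1, c2] at c3
  refine ⟨Nat.le_of_mul_le_mul_right c3 hp, fun h4 => ?_⟩
  have h5 : E ⊔ (ZJ ⊓ C j) = W j ⊔ (ZJ ⊓ C j) := by
    refine Subgroup.eq_of_le_of_card_ge hle ?_
    rw [c1, c2, h4]
  rw [h5]
  exact le_sup_left

end bg

namespace TS

variable {F : Type} [Field F] {B Y V D : Subgroup G} {k : ℕ} {M : NatC F B Y V D k} {Q K : Subgroup G} {z : G}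

omit [Finite G] in
/-- `|E1| = |F|^k` -/
theorem card_E {E : Subgroup G} (hE : E ≤ X0 M) (h0 : E ⊓ D = ⊥)
    (hc : ∀ v ∈ X0 M, ∃ c ∈ E, M.nat.e c = M.nat.e v) : Nat.card E = Nat.card F ^ k := by
  have h1 := card_of_hom (K := E) (L := ⊥) bot_le (fun v (i : Fin k) => M.nat.e v i 0) ?_ ?_ ?_
  · rw [h1, card_bot, one_mul, Nat.card_fun, Nat.card_fin]
  · intro x hx y hy
    funext i
    rw [M.nat.mul x (hE hx).1 y (hE hy).1]
    rfl
  · intro x
    obtain ⟨w, hw, ew⟩ := M.nat.surj fun i => ![x i, 0]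
    obtain ⟨c, hcE, ec⟩ := hc w ⟨hw, fun i => by rw [ew]; rfl⟩
    refine ⟨c, hcE, ?_⟩
    funext i
    rw [ec, ew]
    rfl
  · intro v hv
    constructor
    · intro h2
      rw [← h0]
      refine mem_inf.2 ⟨hv, ?_⟩
      rw [← M.nat.ker v (hE hv).1]
      funext i
      exact ext2 (congrFun h2 i) ((hE hv).2 i)
    · intro h2
      rw [mem_bot] at h2
      rw [h2, M.map_one]
      rfl

theorem exists_ne_two [Finite F] (h4 : 4 ≤ Nat.card F) (a b : F) : ∃ c : F, c ≠ a ∧ c ≠ b := by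
  classical
  have := Fintype.ofFinite F
  by_contra hcon
  push Not at hcon
  have h1 : (Finset.univ : Finset F) ⊆ {a, b} := fun c _ => by
    by_cases hc : c = a
    · simp [hc]
    · simp [hcon c hc]
  have h2 := Finset.card_le_card h1
  have h3 : ({a, b} : Finset F).card ≤ 2 := Finset.card_le_two
  rw [Finset.card_univ, ← Nat.card_eq_fintype_card] at h2
  omega

variable {S : Sylow 2 G} {P ZJ : Subgroup G} {ι : Type} {L W Z C : ι → Subgroup G} [CharP F 2]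

/-- **(d)** : one block, `|F| = 4`, `X0 = W j D`. -/
theorem one_of [Finite ι] [Finite F] (h : Bg S P B ZJ L W Z C 2) {j : ι} (t : TS M (o2 P) K z) (h4 : 4 ≤ Nat.card F)
    (hVQ : V ⊓ centralizer (o2 P : Set G) ≤ zl (S : Subgroup G) P) (hZD : ∀ l, l ≠ j → Z l ≤ D) :
    (∃ E1 : Subgroup G, E1 ≤ X0 M ∧ o2 P ≤ centralizer (E1 : Set G) ∧ E1 ⊓ D = ⊥ ∧ B ≤ normalizer (E1 : Set G) ∧
      ∀ v ∈ X0 M, ∃ c ∈ E1, M.nat.e c = M.nat.e v) ∧ k = 1 ∧ Nat.card F = 4 ∧ X0 M = W j ⊔ D := by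
  have hF : ∀ a : F, ∃ c : F, c ≠ 0 ∧ c ≠ a := fun a => exists_ne_two h4 0 a
  obtain ⟨E1, hE, hEQ, hED, hEB, hEc⟩ := t.main hF (hF 1)
  have hEV : E1 ≤ zl (S : Subgroup G) P := fun x hx => hVQ ⟨(hE hx).1, (le_centralizer_iff.1 hEQ) hx⟩
  have hZ : ∀ l, l ≠ j → E1 ⊓ Z l = ⊥ := fun l hl => by
    rw [eq_bot_iff, ← hED]
    exact inf_le_inf_left _ (hZD l hl)
  have hJD : ZJ ⊓ C j ≤ D := (ZC_le h j).trans (iSup_le fun l => hZD l l.2)
  have h1 := E_le h hEV hEB hZ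
  have h2 : E1 ⊓ (ZJ ⊓ C j) = ⊥ := by
    rw [eq_bot_iff, ← hED]
    exact inf_le_inf_left _ hJD
  obtain ⟨h3, h5⟩ := E_card h h1 h2
  have hk : 0 < k := M.pos
  have hcard := card_E (M := M) hE hED hEc
  have hk1 : k = 1 := by
    by_contra hne
    have hk2 : 2 ≤ k := by omega
    have h6 : 4 ^ 2 ≤ Nat.card F ^ k :=
      (Nat.pow_le_pow_left h4 2).trans (Nat.pow_le_pow_right (by omega) hk2)
    omega
  have hc4 : Nat.card F = 4 := by
    rw [hk1, pow_one] at hcard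
    omega
  have hE4 : Nat.card E1 = 4 := by rw [hcard, hk1, pow_one, hc4]
  have h6 := h5 hE4
  refine ⟨⟨E1, hE, hEQ, hED, hEB, hEc⟩, hk1, hc4, le_antisymm ?_ (sup_le ?_ (D_le_X0 M))⟩
  · intro v hv
    obtain ⟨c, hc, ec⟩ := hEc v hv
    have h7 := div_mem M hv.1 (hE hc).1 ec.symm
    have h8 : v = v * c⁻¹ * c := by group
    rw [h8]
    refine mul_mem (mem_sup_right h7) ?_
    exact (h1.trans (sup_le le_sup_left (hJD.trans le_sup_right))) hc
  · exact h6.trans (sup_le hE (hJD.trans (D_le_X0 M)))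

end TS

end Cfsg.Agent.Omega.CaseLQ.Torus
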