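import Cfsg.Agent.Omega.CaseLQ.OneY

/-!
# CaseL, weird `Y`, (ii): the active members of the class (base)

`T` a Sylow 2-subgroup of the minimal parabolic `Y` of characteristic 2, `V = ⟨Ω₁(Z(T))^Y⟩ ≤ U`; `E ≤ T` a maximal
offender of least rank on `U` (`MaxMin U H E`), `E ≰ O₂(Y)`.

* `YF H U T Y E` : this situation; `YF.no` : no over-offender; `YF.mo` : `MinOff U H E`; `YF.cut` : `C_E(V) ≤ C(U)`;
* `YF.split` : `U = V C_U(E)`; `YF.cap`, `YF.cap'` : `C_T(V), C_T(V / C_V(O²(Y))) ≤ O₂(Y)`;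
* `YF.odd_le` : `O²(Y) ≤ ⟨E^Y⟩`; `YF.cl_comm` : `[U, ⟨E^Y⟩] ≤ V`;
* `YD U T N Z c K` : the data of `Y` in the ψ-trick (`Psi.FrG`).
-/

set_option autoImplicit false
set_option linter.unusedSectionVars false

namespace Cfsg.Agent.Omega.CaseLQ

open Subgroup Cfsg Cfsg.Agent.ZN Cfsg.Agent.ZN.ChoiceBase
open Cfsg.Agent.ZN.ChoiceSit (Syl)
open Cfsg.Agent.MinSimple.MinParabolic (IsMinPar)
open Cfsg.Agent.MinSimple.VModule (oddGen oddGen_le mem_oddGen)
open Cfsg.Agent.Omega.FFThm (OffM ElemM NoOverM NatK NatKM SymKM ActsSL ActsSym StmtM)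
open Cfsg.Agent.Omega.FrameFF (cv)
open Cfsg.Agent.Omega.NO3S.RedC (MaxMin)
open Cfsg.Agent.Omega.NO3S.Level (MinOff)
open Cfsg.Agent.Omega.NO3b.EZero (cl cj_le_cl le_cl cl_le le_normalizer_cl cent_symm cj_cent)
open Cfsg.Agent.Omega.NO3b.K0 (conj_mem' cj_of_le cj_self min_or)
open Cfsg.Agent.Omega.NO3S.NotFF (le_normalizer_of_forall)
open Cfsg.Agent.Omega.SQ1.Bau (mem_sup_comm card_sup_comm mem_sup_norm)
open Cfsg.Agent.Omega.SQ1.FFOne (MinH)
open Cfsg.Agent.Omega.NO3S.Fld (kmod mem_kmod norm_kmod kmod_le relIndex_mul_card relIndex_le_of_map relIndex_mul_of)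

universe u w

variable {G : Type u} [Group G]

/-- **the data of `Y` in the ψ-trick** (the eight fields of `Psi.FrG` on `c`, `K`). -/
structure YD {ι : Type w} (U T N Z : Subgroup G) (c K : ι → Subgroup G) : Prop where
  perm : ∀ t ∈ T, ∀ i, ∃ m, cj t (c i) = c m ∧ cj t (K i) = K m
  cyc : ∀ i, ∃ g ∈ T, cj g (c i) = c i ∧ ∀ x ∈ T, cj x (c i) = c i →
    ∃ n : ℤ, ∀ v ∈ c i, x * v * x⁻¹ = g ^ n * v * (g ^ n)⁻¹
  cU : ∀ i, c i ≤ U
  ne : ∀ i, c i ≠ ⊥
  inf : ∀ i, c i ⊓ centralizer (K i : Set G) = ⊥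
  cm : ∀ i m, m ≠ i → c m ≤ centralizer (K i : Set G)
  cov : ∀ i, N ≤ c i ⊔ (U ⊓ centralizer (K i : Set G))
  nZ : ∃ i, ¬ Z ≤ centralizer (K i : Set G)

variable [Finite G] {H U T Y E : Subgroup G}

/-- **The situation** of (ii). -/
structure YF (H U T Y E : Subgroup G) : Prop where
  Uc : U ≤ centralizer (U : Set G)
  Us : ∀ u ∈ U, u ^ 2 = 1
  HU : H ≤ normalizer (U : Set G)
  syl : Syl T Y
  min : IsMinPar T Y
  c2 : Y ⊓ centralizer (o2 Y : Set G) ≤ o2 Y
  mv : ¬ Y ≤ centralizer (zc T : Set G)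
  YH : Y ≤ H
  VU : zl T Y ≤ U
  ET : E ≤ T
  m : MaxMin U H E
  EY : ¬ E ≤ o2 Y

namespace YF

variable (o : YF H U T Y E)
include o

theorem TY : T ≤ Y := o.syl.1

theorem T2 : IsPGroup 2 T := o.syl.2.1

theorem hm : MinH Y T := SQ1.FFOne.minH_of o.syl o.min o.c2

theorem YV : Y ≤ normalizer (zl T Y : Set G) := MinSimple.VModule.le_normalizer_zl T Y

theorem V_comm : ∀ v ∈ zl T Y, ∀ w ∈ zl T Y, v * w = w * v := SQ1.VOf.MinH.comm o.hm

theorem odd_not : ¬ oddGen Y ≤ centralizer (zl T Y : Set G) := by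
  intro h0
  apply o.mv
  have h1 := NO3b.EZero.oddGen_sup_syl o.syl
  rw [← h1]
  refine sup_le (h0.trans (centralizer_le SQ1.VOf.zc_le_zl)) (cent_symm ?_)
  intro z hz
  exact mem_centralizer_iff.2 fun t ht => (ChoiceBase.mem_zc.1 hz).2.2 t ht

/-- `C_T(V) ≤ O₂(Y)` -/
theorem cap : T ⊓ centralizer (zl T Y : Set G) ≤ o2 Y := by
  have hYY : Y ≤ normalizer ((Y ⊓ centralizer (zl T Y : Set G) : Subgroup G) : Set G) :=
    NO3b.EZero.le_normalizer_inf_cent o.YV
  rcases min_or o.syl o.min (K := Y ⊓ centralizer (zl T Y : Set G)) inf_le_left hYY with h2 | h2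
  · exact absurd (h2.trans inf_le_right) o.odd_not
  · exact (le_inf inf_le_left (le_inf (inf_le_left.trans o.TY) inf_le_right)).trans h2

/-- `C_T(V / C_V(O²(Y))) ≤ O₂(Y)` -/
theorem cap' {x : G} (hx : x ∈ T) (h : ∀ v ∈ zl T Y, x * v * x⁻¹ * v⁻¹ ∈ cv T Y) : x ∈ o2 Y := by
  have hD : Y ≤ normalizer (cv T Y : Set G) := le_normalizer_of_forall fun g hg d hd => SQ1.FFOf.cv_norm g hg d hd
  rcases min_or o.syl o.min (K := kmod Y (zl T Y) (cv T Y) o.YV hD) kmod_le (norm_kmod _ _) with h2 | h2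
  · refine absurd ?_ o.odd_not
    have hcl : oddGen Y = closure {x : G | x ∈ Y ∧ Odd (orderOf x)} := rfl
    rw [hcl, closure_le]
    rintro g ⟨hg, ho⟩
    have hgo : g ∈ oddGen Y := mem_oddGen hg ho
    refine mem_centralizer_iff.2 fun v hv => ?_
    have h3 := (mem_kmod.1 (h2 hgo)).2 v hv
    set d := g * v * g⁻¹ * v⁻¹ with hd
    have hgd : g * d = d * g := mem_centralizer_iff.1 h3.2 g hgo
    have h4 : ∀ n : ℕ, g ^ n * v * (g ^ n)⁻¹ = d ^ n * v := by
      intro n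
      induction n with
      | zero => simp
      | succ n ih =>
        have e1 : g ^ (n + 1) * v * (g ^ (n + 1))⁻¹ = g * (g ^ n * v * (g ^ n)⁻¹) * g⁻¹ := by
          rw [pow_succ']; group
        have e2 : g * (d ^ n * v) * g⁻¹ = (g * d ^ n * g⁻¹) * (g * v * g⁻¹) := by group
        have e3 : g * d ^ n * g⁻¹ = d ^ n := by
          have : Commute g (d ^ n) := (show Commute g d from hgd).pow_right n
          rw [this.eq, mul_inv_cancel_right]
        have e4 : g * v * g⁻¹ = d * v := by rw [hd]; group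
        rw [e1, ih, e2, e3, e4, pow_succ, ← mul_assoc]
    have h5 := h4 (orderOf g)
    rw [pow_orderOf_eq_one, one_mul, inv_one, mul_one] at h5
    have h6 : d ^ orderOf g = 1 := (mul_eq_right.1 h5.symm)
    have h7 : d ^ 2 = 1 := SQ1.VOf.MinH.sq o.hm d h3.1
    obtain ⟨r, hr⟩ := ho
    rw [hr, pow_succ, pow_mul, h7, one_pow, one_mul] at h6
    have e5 : g * v = d * v * g := by rw [hd]; group
    rw [e5, h6, one_mul]
  · exact h2 ⟨hx, mem_kmod.2 ⟨o.TY hx, h⟩⟩

theorem ne : ¬ E ≤ centralizer (zl T Y : Set G) := fun h => o.EY ((le_inf o.ET h).trans o.cap)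

theorem off : OffM (zl T Y) E where
  sq := fun a ha => centralizer_le o.VU (o.m.elem.sq a ha)
  comm := fun a ha b hb => centralizer_le o.VU (o.m.elem.comm a ha b hb)
  ne := o.ne
  le := FFThm.relIndex_le_iff.2 (o.m.off o.Uc o.VU)

theorem U_mul {x y : G} (hx : x ∈ U) (hy : y ∈ U) : x * y = y * x := mem_centralizer_iff.1 (o.Uc hy) x hx

/-- `U = V C_U(E)` -/
theorem split (noV : NoOverM (zl T Y) Y) : ∀ u ∈ U, ∃ v ∈ zl T Y, ∃ c ∈ U ⊓ centralizer (E : Set G), u = v * c := by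
  have hno := noV E (o.ET.trans o.TY) o.off.toElemM
  obtain ⟨no, mo⟩ := o.m.minOff o.HU o.VU hno o.ne
  have hcut := mo.cut o.VU hno o.ne
  set N := zl T Y with hN
  have i0 : (centralizer (U : Set G)).relIndex E = (centralizer (E : Set G)).relIndex U :=
    le_antisymm (FFThm.relIndex_le_iff.1 (no E o.m.le o.m.elem)) (o.m.off o.Uc le_rfl)
  have i1 : (centralizer (N : Set G)).relIndex E ≤ (centralizer (E : Set G)).relIndex N :=
    FFThm.relIndex_le_iff.1 hno
  have e1 : (centralizer (N : Set G)).relIndex E = (centralizer (U : Set G)).relIndex E := by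
    rw [← inf_relIndex_right, ← inf_relIndex_right (centralizer (U : Set G))]
    congr 1
    refine le_antisymm (le_inf ?_ inf_le_right) (inf_le_inf_right _ (centralizer_le o.VU))
    rw [inf_comm]
    exact hcut
  have i2 : (centralizer (E : Set G)).relIndex U ≤ (centralizer (E : Set G)).relIndex N := by
    rw [← i0, ← e1]
    exact i1
  set K := U ⊓ centralizer (E : Set G) with hK
  have hcom' : ∀ x ∈ N, ∀ y ∈ K, x * y = y * x := fun x hx y hy => o.U_mul (o.VU hx) hy.1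
  have e2 : N ⊓ K = N ⊓ centralizer (E : Set G) := by
    rw [hK, ← inf_assoc, inf_eq_left.2 o.VU]
  have c1 := card_sup_comm hcom'
  rw [e2] at c1
  have c2 := relIndex_mul_card N (centralizer (E : Set G))
  have c3 := relIndex_mul_card U (centralizer (E : Set G))
  have hsup : N ⊔ K = U := by
    refine Subgroup.eq_of_le_of_card_ge (sup_le o.VU inf_le_left) ?_
    have p1 : 0 < Nat.card ↥(N ⊓ centralizer (E : Set G)) := Nat.card_pos
    refine Nat.le_of_mul_le_mul_right (c := Nat.card ↥(N ⊓ centralizer (E : Set G))) ?_ p1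
    calc Nat.card U * Nat.card ↥(N ⊓ centralizer (E : Set G))
        = (centralizer (E : Set G)).relIndex U * (Nat.card K * Nat.card ↥(N ⊓ centralizer (E : Set G))) := by
          rw [← c3, ← hK]; ring
      _ ≤ (centralizer (E : Set G)).relIndex N * (Nat.card K * Nat.card ↥(N ⊓ centralizer (E : Set G))) :=
          Nat.mul_le_mul_right _ i2
      _ = Nat.card N * Nat.card K := by rw [← c2]; ring
      _ = _ := c1.symm
  intro u hu
  exact mem_sup_comm hcom' (hsup ▸ hu : u ∈ N ⊔ K)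

/-- `[e, vc] = [e, v]` -/
theorem comm_split {e v c : G} (he : e ∈ E) (hc : c ∈ U ⊓ centralizer (E : Set G)) :
    e * (v * c) * e⁻¹ * (v * c)⁻¹ = e * v * e⁻¹ * v⁻¹ := by
  have e3 : e * (v * c) * e⁻¹ * (v * c)⁻¹ = e * v * (c * e⁻¹ * c⁻¹) * v⁻¹ := by group
  have e4 : c * e⁻¹ * c⁻¹ = e⁻¹ := by
    have h2 := mem_centralizer_iff.1 hc.2 e⁻¹ (inv_mem he)
    rw [← h2]
    group
  rw [e3, e4]

/-- no over-offender -/
theorem no (noV : NoOverM (zl T Y) Y) : NoOverM U H :=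
  (o.m.minOff o.HU o.VU (noV E (o.ET.trans o.TY) o.off.toElemM) o.ne).1

/-- `E` is a minimal offender -/
theorem mo (noV : NoOverM (zl T Y) Y) : MinOff U H E :=
  (o.m.minOff o.HU o.VU (noV E (o.ET.trans o.TY) o.off.toElemM) o.ne).2

/-- the cut -/
theorem cut (noV : NoOverM (zl T Y) Y) : E ⊓ centralizer (zl T Y : Set G) ≤ centralizer (U : Set G) :=
  (o.mo noV).cut o.VU (noV E (o.ET.trans o.TY) o.off.toElemM) o.ne

/-- `O²(Y) ≤ ⟨E^Y⟩` -/
theorem odd_le : oddGen Y ≤ cl E Y := by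
  have h1 : cl E Y ≤ Y := cl_le fun p hp => by
    have h2 := cj_mono p (o.ET.trans o.TY)
    rwa [cj_eq_of_mem_normalizer (le_normalizer hp)] at h2
  rcases min_or o.syl o.min h1 (le_normalizer_cl _ _) with h2 | h2
  · exact h2
  · exact absurd ((le_inf o.ET (le_cl E Y)).trans h2) o.EY

/-- `[U, ⟨E^Y⟩] ≤ V` -/
theorem cl_comm (noV : NoOverM (zl T Y) Y) : CommIn (cl E Y) U (zl T Y) := by
  have hYU : Y ≤ normalizer (U : Set G) := o.YH.trans o.HU
  have h1 : cl E Y ≤ kmod Y U (zl T Y) hYU o.YV := cl_le fun p hp => by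
    have h2 : E ≤ kmod Y U (zl T Y) hYU o.YV := fun e he => by
      refine mem_kmod.2 ⟨o.TY (o.ET he), fun u hu => ?_⟩
      obtain ⟨v, hv, c, hc, rfl⟩ := o.split noV u hu
      rw [o.comm_split he hc]
      exact mul_mem (conj_mem' o.YV (o.TY (o.ET he)) hv) (inv_mem hv)
    have h3 := cj_mono p h2
    rwa [cj_eq_of_mem_normalizer (norm_kmod hYU o.YV hp)] at h3
  exact fun e he u hu => (mem_kmod.1 (h1 he)).2 u hu

/-- a `T`-invariant subgroup centralised by `⟨E^Y⟩` is `Y`-invariant -/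
theorem norm_of_cent {Z : Subgroup G} (hT : T ≤ normalizer (Z : Set G)) (h : cl E Y ≤ centralizer (Z : Set G)) :
    Y ≤ normalizer (Z : Set G) := by
  rw [← NO3b.EZero.oddGen_sup_syl o.syl]
  exact sup_le ((o.odd_le.trans h).trans (centralizer_le_normalizer _)) hT

end YF

end Cfsg.Agent.Omega.CaseLQ
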