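import Cfsg.Agent.Omega.CaseLQ.YBase

/-!
# CaseL, weird `Y`, (ii): the data of `Y` for symmetric blocks

`T` a Sylow 2-subgroup of the minimal parabolic `Y` of characteristic 2, `V = ⟨Ω₁(Z(T))^Y⟩ ≤ U`, `V / D` a sum of
even-subset modules of symmetric groups of degree `2^m + 1` (`SymKM`); `E ≤ T` a maximal offender of least rank on `U`,
`E ≰ O₂(Y)`.  Then `E = ⟨t⟩ C_E(U)`, `t` a transposition; the members are the `T`-conjugates `{1, w}` of `[U, t]`, and
`K w` is `Sym{0, a, b}` for `w = {a, b}`.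

* `over_false` : two conjugate transvection-like elements make an over-offender;
* `TD` : the transposition; `exists_td`; `TD.uniq` : it is determined by its centre modulo `C(U)`;
* `yd_sym` : the data of `Y` in the ψ-trick.
-/

set_option autoImplicit false
set_option linter.unusedSectionVars false

namespace Cfsg.Agent.Omega.CaseLQ

open Subgroup Cfsg Cfsg.Agent.ZN Cfsg.Agent.ZN.ChoiceBase
open Cfsg.Agent.ZN.ChoiceSit (Syl)
open Cfsg.Agent.MinSimple.MinParabolic (IsMinPar)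
open Cfsg.Agent.Omega.FFThm (OffM ElemM NoOverM SymK SymKM ActsSym)
open Cfsg.Agent.Omega.FrameFF (cv)
open Cfsg.Agent.Omega.NO3S.RedC (MaxMin)
open Cfsg.Agent.Omega.NO3S.Level (MinOff)
open Cfsg.Agent.Omega.NO3b.EZero (cl cj_le_cl le_cl cl_le le_normalizer_cl cent_symm cj_cent)
open Cfsg.Agent.Omega.NO3b.K0 (conj_mem' cj_of_le cj_self min_or)
open Cfsg.Agent.Omega.NO3S.Fld (kmod mem_kmod norm_kmod kmod_le relIndex_mul_card relIndex_le_of_map relIndex_mul_of)
open Cfsg.Agent.Omega.SQ1.FFSym (Gd Sy)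
open Cfsg.Agent.Omega.SQ1.FFSym renaming u → uu

universe u

variable {G : Type u} [Group G]

/-- `g` is a conjugate of `t`, `w` the corresponding conjugate of `d` -/
def Tr (Y : Subgroup G) (t d g w : G) : Prop := ∃ p ∈ Y, g = p * t * p⁻¹ ∧ w = p * d * p⁻¹

theorem Tr.cj {Y : Subgroup G} {t d g w q : G} (h : Tr Y t d g w) (hq : q ∈ Y) :
    Tr Y t d (q * g * q⁻¹) (q * w * q⁻¹) := by
  obtain ⟨p, hp, rfl, rfl⟩ := h
  exact ⟨q * p, mul_mem hq hp, by group, by group⟩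

theorem mem_zpowers_two {w z : G} (hw : w * w = 1) (hz : z ∈ zpowers w) : z = 1 ∨ z = w := by
  obtain ⟨n, hn⟩ := mem_zpowers_iff.1 hz
  have h2 : w ^ (2 : ℤ) = 1 := by rw [zpow_ofNat, pow_two]; exact hw
  rcases Int.even_or_odd n with ⟨r, hr⟩ | ⟨r, hr⟩
  · left
    rw [← hn, hr, ← two_mul, zpow_mul, h2, one_zpow]
  · right
    rw [← hn, hr, zpow_add, zpow_mul, zpow_one, h2, one_zpow, one_mul]

variable [Finite G] {H U T Y E : Subgroup G}

/-- **Two conjugate transvections** with different centres are an over-offender. -/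
theorem over_false {V : Subgroup G} (Uc : ∀ x ∈ U, ∀ y ∈ U, x * y = y * x) (Us : ∀ u ∈ U, u ^ 2 = 1)
    (HU : H ≤ normalizer (U : Set G)) (no : NoOverM U H) (VU : V ≤ U) {x y w : G} (hx : x ∈ H) (hy : y ∈ H)
    (yU : ∀ v ∈ U, y⁻¹ * v * y * v⁻¹ ∈ V) (xV : ∀ v ∈ V, x * v = v * x) (hw : w ∈ V)
    (xU : ∀ v ∈ U, x * v * x⁻¹ * v⁻¹ = 1 ∨ x * v * x⁻¹ * v⁻¹ = w) (yw : y * w * y⁻¹ ≠ w) (yV : y * w * y⁻¹ ∈ V) :
    x ∈ centralizer (U : Set G) := by
  by_contra hne
  have hww : w * w = 1 := by rw [← pow_two]; exact Us w (VU hw)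
  set x' := y * x * y⁻¹ with hx'
  have hx'H : x' ∈ H := mul_mem (mul_mem hy hx) (inv_mem hy)
  have key : ∀ v ∈ U, x' * v * x'⁻¹ * v⁻¹ = y * (x * v * x⁻¹ * v⁻¹) * y⁻¹ := by
    intro v hv
    set r := y⁻¹ * v * y * v⁻¹ with hr
    have hrV : r ∈ V := yU v hv
    have e1 : y⁻¹ * v * y = r * v := by rw [hr]; group
    have e2 : x' * v * x'⁻¹ * v⁻¹ = y * (x * (y⁻¹ * v * y) * x⁻¹ * (y⁻¹ * v * y)⁻¹) * y⁻¹ := by rw [hx']; group
    have e3 : x * (r * v) * x⁻¹ * (r * v)⁻¹ = (x * r) * (v * x⁻¹ * v⁻¹) * r⁻¹ := by group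
    have e4 : r * x * (v * x⁻¹ * v⁻¹) * r⁻¹ = r * (x * v * x⁻¹ * v⁻¹) * r⁻¹ := by group
    rw [e2, e1, e3, xV r hrV, e4]
    have h1 : x * v * x⁻¹ * v⁻¹ ∈ U := by
      rcases xU v hv with h | h
      · rw [h]; exact one_mem _
      · rw [h]; exact VU hw
    rw [Uc r (VU hrV) _ h1]
    group
  have key1 : ∀ v ∈ U, x * v * x⁻¹ * v⁻¹ = 1 → x' * v = v * x' := by
    intro v hv h1
    have h2 := key v hv
    rw [h1] at h2
    have e1 : x' * v = (x' * v * x'⁻¹ * v⁻¹) * v * x' := by group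
    have e2 : y * 1 * y⁻¹ = 1 := by group
    rw [e1, h2, e2, one_mul]
  -- `V` is centralised by `x'`
  have x'V : ∀ v ∈ V, x' * v = v * x' := fun v hv => key1 v (VU hv) (by rw [xV v hv]; group)
  set R := zpowers x ⊔ zpowers x' with hR
  have hxR : x ∈ R := (le_sup_left : zpowers x ≤ R) (mem_zpowers x)
  have hx'R : x' ∈ R := (le_sup_right : zpowers x' ≤ R) (mem_zpowers x')
  have hRH : R ≤ H := sup_le (zpowers_le.2 hx) (zpowers_le.2 hx'H)
  have hRV : R ≤ centralizer (V : Set G) := by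
    refine sup_le (zpowers_le.2 (mem_centralizer_iff.2 fun v hv => (xV v hv).symm))
      (zpowers_le.2 (mem_centralizer_iff.2 fun v hv => (x'V v hv).symm))
  have hRq : R ≤ kmod R U V (hRH.trans HU) (hRV.trans (centralizer_le_normalizer _)) := by
    refine sup_le (zpowers_le.2 (mem_kmod.2 ⟨hxR, fun v hv => ?_⟩))
      (zpowers_le.2 (mem_kmod.2 ⟨hx'R, fun v hv => ?_⟩))
    · rcases xU v hv with h | h
      · rw [h]; exact one_mem _
      · rw [h]; exact hw
    · rw [key v hv]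
      rcases xU v hv with h | h
      · rw [h]
        have e2 : y * 1 * y⁻¹ = 1 := by group
        rw [e2]; exact one_mem _
      · rw [h]; exact yV
  have elem : ElemM U R := elemM_of_quad Us Uc fun a ha u hu =>
    ⟨VU ((mem_kmod.1 (hRq ha)).2 u hu), cent_symm hRV ((mem_kmod.1 (hRq ha)).2 u hu)⟩
  -- the element `x` centralises a hyperplane
  have hcz : ∀ v ∈ U, x * v * x⁻¹ * v⁻¹ = 1 → v ∈ centralizer (R : Set G) := by
    intro v hv h1
    have h2 : R ≤ centralizer ({v} : Set G) := by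
      refine sup_le (zpowers_le.2 (mem_centralizer_iff.2 ?_)) (zpowers_le.2 (mem_centralizer_iff.2 ?_))
      · intro z hz
        rw [Set.mem_singleton_iff.1 hz]
        have e1 : x * v = (x * v * x⁻¹ * v⁻¹) * v * x := by group
        rw [e1, h1, one_mul]
      · intro z hz
        rw [Set.mem_singleton_iff.1 hz]
        exact (key1 v hv h1).symm
    exact mem_centralizer_iff.2 fun g hg => (mem_centralizer_iff.1 (h2 hg) v rfl).symm
  have k1 : (centralizer (R : Set G)).relIndex U ≤ 2 := by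
    have hc2 : Nat.card ↥(zpowers w) ≤ 2 := by
      rw [Nat.card_zpowers]
      exact Nat.le_of_dvd (by norm_num) (orderOf_dvd_of_pow_eq_one (by rw [pow_two]; exact hww))
    refine le_trans ?_ hc2
    rw [← relIndex_bot_left (zpowers w)]
    refine relIndex_le_of_map (fun v => x * v * x⁻¹ * v⁻¹) (fun v hv => ?_) ?_
    · rcases xU v hv with h1 | h1
      · simp only [h1]; exact one_mem _
      · simp only [h1]; exact mem_zpowers w
    · intro v hv v' hv' hvv
      rw [mem_bot, inv_mul_eq_one] at hvv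
      refine hcz _ (mul_mem (inv_mem hv) hv') ?_
      have e1 : x * (v⁻¹ * v') * x⁻¹ * (v⁻¹ * v')⁻¹ = (x * v * x⁻¹)⁻¹ * (x * v' * x⁻¹) * v'⁻¹ * v := by group
      have e2 : x * v * x⁻¹ = (x * v * x⁻¹ * v⁻¹) * v := by group
      have e3 : x * v' * x⁻¹ = (x * v' * x⁻¹ * v'⁻¹) * v' := by group
      rw [e1, e2, e3, hvv]
      generalize x * v' * x⁻¹ * v'⁻¹ = q
      group
  have k2 : (centralizer (U : Set G)).relIndex R ≤ 2 := (FFThm.relIndex_le_iff.1 (no R hRH elem)).trans k1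
  have k3 : 2 ≤ (centralizer (U : Set G)).relIndex R := NO3S.Fld.two_le_relIndex hxR hne
  have k4 : ((centralizer (U : Set G)).subgroupOf R).index = 2 := le_antisymm k2 k3
  -- `x'` moves `U`
  obtain ⟨v, hv, hxv⟩ : ∃ v ∈ U, x * v * x⁻¹ * v⁻¹ = w := by
    by_contra hcon
    push Not at hcon
    apply hne
    refine mem_centralizer_iff.2 fun v hv => ?_
    rcases xU v hv with h | h
    · have e1 : x * v = (x * v * x⁻¹ * v⁻¹) * v * x := by group
      rw [e1, h, one_mul]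
    · exact absurd h (hcon v hv)
  have hx'v := key v hv
  rw [hxv] at hx'v
  have hw'1 : y * w * y⁻¹ ≠ 1 := by
    intro h1
    have e1 : w = y⁻¹ * (y * w * y⁻¹) * y := by group
    have h2 : w = 1 := by rw [e1, h1]; group
    apply yw
    rw [h2]
    group
  have n1 : (⟨x⁻¹, inv_mem hxR⟩ : R) ∉ (centralizer (U : Set G)).subgroupOf R := by
    rw [mem_subgroupOf]
    intro h1
    have h2 := inv_mem h1
    rw [show ((⟨x⁻¹, inv_mem hxR⟩ : R) : G) = x⁻¹ from rfl, inv_inv] at h2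
    exact hne h2
  have n2 : (⟨x', hx'R⟩ : R) ∉ (centralizer (U : Set G)).subgroupOf R := by
    rw [mem_subgroupOf]
    intro h1
    have h2 := mem_centralizer_iff.1 h1 v hv
    apply hw'1
    rw [← hx'v]
    have h3 : v * x' = x' * v := h2
    rw [← h3]
    group
  have n3 : (⟨x⁻¹, inv_mem hxR⟩ : R) * ⟨x', hx'R⟩ ∈ (centralizer (U : Set G)).subgroupOf R := by
    rw [Subgroup.mul_mem_iff_of_index_two k4]
    exact ⟨fun h => absurd h n1, fun h => absurd h n2⟩
  rw [mem_subgroupOf] at n3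
  have h5 : v * (x⁻¹ * x') = x⁻¹ * x' * v := mem_centralizer_iff.1 n3 v hv
  apply yw
  rw [← hx'v, ← hxv]
  have e1 : x' * v = x * (x⁻¹ * x' * v) := by group
  have e2 : x * (v * (x⁻¹ * x')) * x'⁻¹ * v⁻¹ = x * v * x⁻¹ * v⁻¹ := by group
  rw [e1, ← h5, e2]

/-- **The transposition** `t ∈ E`. -/
structure TD (H U T Y E : Subgroup G) {k m : ℕ} (e : G → Fin k → Fin (2 ^ m + 1) → ZMod 2) (i : Fin k)
    (x y : Fin (2 ^ m + 1)) (t : G) : Prop where
  o : YF H U T Y E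
  noV : NoOverM (zl T Y) Y
  h : Sy Y (zl T Y) (cv T Y) e
  fix0 : ∀ t ∈ T, ∀ σ τ, ActsSym e (zl T Y) t σ τ → ∀ i, τ i 0 = 0
  trans : ∀ i j, ∃ t ∈ T, ∃ σ τ, ActsSym e (zl T Y) t σ τ ∧ σ i = j
  cyc : ∀ j (x y : Fin (2 ^ m + 1)), x ≠ 0 → y ≠ 0 →
    ∃ t ∈ T, ∃ π, Gd Y (zl T Y) (cv T Y) e (Pi.mulSingle j π) t ∧ π x = y
  xy : x ≠ y
  x0 : x ≠ 0
  y0 : y ≠ 0
  tE : t ∈ E
  gd : Gd Y (zl T Y) (cv T Y) e (Pi.mulSingle i (Equiv.swap x y)) t
  ne : t ∉ centralizer (U : Set G)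
  all : ∀ a ∈ E, a ∈ centralizer (U : Set G) ∨ t⁻¹ * a ∈ centralizer (U : Set G)
  comm : ∀ v ∈ U, t * v * t⁻¹ * v⁻¹ = 1 ∨ t * v * t⁻¹ * v⁻¹ = uu Y (zl T Y) (cv T Y) e i x y


variable {k m : ℕ}

/-- **the transposition** -/
theorem exists_td (o : YF H U T Y E) (noV : NoOverM (zl T Y) Y) (N : SymKM T Y (zl T Y) (cv T Y) k m) (hk : 0 < k)
    (hm : 2 ≤ m) : ∃ i x y t, TD H U T Y E N.e i x y t := by
  classical
  have h := NO3S.OneLine.sy_of o.hm N.toSymK hk (by omega) SQ1.FFOf.cv_le SQ1.FFOf.cv_norm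
  have hTH := o.TY
  have hET := o.ET
  have hno := noV E (o.ET.trans o.TY) o.off.toElemM
  obtain ⟨no, mo⟩ := o.m.minOff o.HU o.VU hno o.ne
  -- a transposition in `E`
  obtain ⟨i, x, y, hxy, t, ht, htg⟩ : ∃ i x y, x ≠ y ∧ ∃ t ∈ E,
      Gd Y (zl T Y) (cv T Y) N.e (Pi.mulSingle i (Equiv.swap x y)) t := by
    obtain ⟨hD, h2⟩ := N.offM E hET o.off
    by_contra hcon
    push Not at hcon
    apply o.ne
    intro a ha
    obtain ⟨τ, hτ, hτ'⟩ := h2 a ha
    have h1 : τ = 1 := by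
      funext i
      ext x
      by_contra hx
      have hx' : τ i x ≠ x := fun e => hx (by rw [e]; rfl)
      obtain ⟨-, b, hb, hb'⟩ := hτ' i x hx'
      exact hcon i x (τ i x) hx'.symm b hb ⟨hTH (hET hb), hD b hb, hb'⟩
    subst h1
    refine mem_centralizer_iff.2 fun v hv => ?_
    have h2 := h.gd_sim ⟨hTH (hET ha), hD a ha, hτ⟩ h.gd_one v hv
    symm
    calc a * v = (a * v * a⁻¹) * a := by group
      _ = v * a := by rw [h2]; group
  have hx0 : x ≠ 0 := by
    rintro rfl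
    have h4 := N.fix0 t (hET ht) _ _ htg.act i
    rw [Pi.mulSingle_eq_same, Equiv.swap_apply_left] at h4
    exact hxy h4.symm
  have hy0 : y ≠ 0 := by
    rintro rfl
    have h4 := N.fix0 t (hET ht) _ _ htg.act i
    rw [Pi.mulSingle_eq_same, Equiv.swap_apply_right] at h4
    exact hxy h4
  set d := uu Y (zl T Y) (cv T Y) N.e i x y with hd
  have hdd : d * d = 1 := h.u_sq i x y
  -- `[t, U] ≤ {1, d}`
  have htU : ∀ w ∈ U, t * w * t⁻¹ * w⁻¹ = 1 ∨ t * w * t⁻¹ * w⁻¹ = d := by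
    intro w hw
    obtain ⟨v, hv, c, hc, rfl⟩ := o.split noV w hw
    rw [o.comm_split ht hc]
    rcases h.swap_comm htg v hv with h3 | h3
    · left; rw [h3, mul_inv_cancel]
    · right; rw [h3, mul_inv_cancel_right]
  have htne : t ∉ centralizer (U : Set G) := by
    intro h0
    obtain ⟨v, hv, hev⟩ := h.exists_pair i x 0
    have h1 := htg.act v hv i y
    have h2 : t * v * t⁻¹ = v := by
      have h3 := mem_centralizer_iff.1 h0 v (o.VU hv)
      rw [← h3, mul_inv_cancel_right]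
    rw [h2, Pi.mulSingle_eq_same, Equiv.swap_apply_right, Equiv.Perm.one_apply, hev] at h1
    simp only [Pi.add_apply] at h1
    rw [SQ1.FFSym.E_self,
      SQ1.FFSym.E_ne (fun h5 => hx0 h5.2), SQ1.FFSym.E_ne (fun h5 => hxy h5.2.symm),
      SQ1.FFSym.E_ne (fun h5 => hy0 h5.2)] at h1
    simp at h1
  have hUn : E ≤ normalizer (U : Set G) := hET.trans (hTH.trans (o.YH.trans o.HU))
  have hCn : ∀ g ∈ E, ∀ z ∈ centralizer (U : Set G), g⁻¹ * z * g ∈ centralizer (U : Set G) := by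
    intro g hg z hz
    rw [mem_centralizer_iff]
    intro w hw
    have h1 : g * w * g⁻¹ ∈ U := conj_mem' hUn hg hw
    have h2 := mem_centralizer_iff.1 hz _ h1
    have e1 : w * (g⁻¹ * z * g) = g⁻¹ * (g * w * g⁻¹ * z) * g := by group
    rw [e1, h2]
    group
  -- the subgroup `⟨t⟩ C_E(U)`
  let E₁ : Subgroup G :=
    { carrier := {g | g ∈ E ∧ (g ∈ centralizer (U : Set G) ∨ t⁻¹ * g ∈ centralizer (U : Set G))}
      one_mem' := ⟨one_mem _, Or.inl (one_mem _)⟩
      mul_mem' := by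
        rintro a b ⟨ha, ha'⟩ ⟨hb, hb'⟩
        refine ⟨mul_mem ha hb, ?_⟩
        rcases ha' with ha' | ha' <;> rcases hb' with hb' | hb'
        · exact Or.inl (mul_mem ha' hb')
        · right
          have h1 := hCn t ht a ha'
          have e1 : t⁻¹ * (a * b) = (t⁻¹ * a * t) * (t⁻¹ * b) := by group
          rw [e1]
          exact mul_mem h1 hb'
        · right
          have e1 : t⁻¹ * (a * b) = t⁻¹ * a * b := by group
          rw [e1]
          exact mul_mem ha' hb'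
        · left
          have h1 := o.m.elem.sq t ht
          have h2 := hCn t ht _ ha'
          have e1 : a * b = t ^ 2 * (t⁻¹ * (t⁻¹ * a) * t) * (t⁻¹ * b) := by rw [pow_two]; group
          rw [e1]
          exact mul_mem (mul_mem h1 h2) hb'
      inv_mem' := by
        rintro a ⟨ha, ha'⟩
        refine ⟨inv_mem ha, ?_⟩
        rcases ha' with ha' | ha'
        · exact Or.inl (inv_mem ha')
        · right
          have h1 := o.m.elem.sq t ht
          have h2 := hCn t⁻¹ (inv_mem ht) _ (inv_mem ha')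
          have e1 : t⁻¹ * a⁻¹ = (t ^ 2)⁻¹ * (t * (t⁻¹ * a)⁻¹ * t⁻¹) := by rw [pow_two]; group
          rw [e1]
          refine mul_mem (inv_mem h1) ?_
          have e2 : t * (t⁻¹ * a)⁻¹ * t⁻¹ = t⁻¹⁻¹ * (t⁻¹ * a)⁻¹ * t⁻¹ := by group
          rw [e2]
          exact h2 }
  have hE₁E : E₁ ≤ E := fun g hg => hg.1
  have htE₁ : t ∈ E₁ := ⟨ht, Or.inr (by rw [inv_mul_cancel]; exact one_mem _)⟩
  have hcz : ∀ w ∈ U, t * w * t⁻¹ * w⁻¹ = 1 → w ∈ centralizer (E₁ : Set G) := by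
    intro w hw h1
    refine mem_centralizer_iff.2 fun g hg => ?_
    have htw : t * w = w * t := by
      have e1 : t * w = (t * w * t⁻¹ * w⁻¹) * w * t := by group
      rw [e1, h1, one_mul]
    rcases hg.2 with h2 | h2
    · exact (mem_centralizer_iff.1 h2 w hw).symm
    · have h3 := mem_centralizer_iff.1 h2 w hw
      have e1 : g * w = t * (t⁻¹ * g * w) := by group
      have e2 : t * (w * (t⁻¹ * g)) = t * w * (t⁻¹ * g) := by group
      rw [e1, ← h3, e2, htw]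
      group
  have k1 : (centralizer (E₁ : Set G)).relIndex U ≤ 2 := by
    have hc2 : Nat.card ↥(zpowers d) ≤ 2 := by
      rw [Nat.card_zpowers]
      exact Nat.le_of_dvd (by norm_num) (orderOf_dvd_of_pow_eq_one (by rw [pow_two]; exact hdd))
    refine le_trans ?_ hc2
    rw [← relIndex_bot_left (zpowers d)]
    refine relIndex_le_of_map (fun w => t * w * t⁻¹ * w⁻¹) (fun w hw => ?_) ?_
    · rcases htU w hw with h1 | h1
      · simp only [h1]; exact one_mem _
      · simp only [h1]; exact mem_zpowers d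
    · intro w hw w' hw' hww
      rw [mem_bot, inv_mul_eq_one] at hww
      refine hcz _ (mul_mem (inv_mem hw) hw') ?_
      have e1 : t * (w⁻¹ * w') * t⁻¹ * (w⁻¹ * w')⁻¹ = (t * w * t⁻¹)⁻¹ * (t * w' * t⁻¹) * w'⁻¹ * w := by group
      have e2 : t * w * t⁻¹ = (t * w * t⁻¹ * w⁻¹) * w := by group
      have e3 : t * w' * t⁻¹ = (t * w' * t⁻¹ * w'⁻¹) * w' := by group
      rw [e1, e2, e3, hww]
      generalize t * w' * t⁻¹ * w'⁻¹ = q
      group
  have k2 : 2 ≤ (centralizer (U : Set G)).relIndex E₁ := NO3S.Fld.two_le_relIndex htE₁ htne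
  have hoff₁ : OffM U E₁ :=
    ⟨⟨fun a ha => o.m.elem.sq a (hE₁E ha), fun a ha b hb => o.m.elem.comm a (hE₁E ha) b (hE₁E hb)⟩,
      fun h0 => htne (h0 htE₁), FFThm.relIndex_le_iff.2 (k1.trans k2)⟩
  have k3 := mo.min E₁ (hE₁E.trans mo.le) (mo.pg.to_le hE₁E) hoff₁
  have hEE : E ≤ E₁ := by
    have hle : E ⊓ centralizer (U : Set G) ≤ E₁ := fun g hg => ⟨hg.1, Or.inl hg.2⟩
    have k4 := relIndex_mul_of (H := centralizer (U : Set G)) hle hE₁E
    have p0 : 0 < (centralizer (U : Set G)).relIndex E₁ := by omega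
    have k5 : E₁.relIndex E ≤ 1 := by
      refine Nat.le_of_mul_le_mul_left (c := (centralizer (U : Set G)).relIndex E₁) ?_ p0
      rw [k4, mul_one]
      exact k3
    have p1 : 0 < E₁.relIndex E := Nat.pos_of_ne_zero index_ne_zero_of_finite
    exact relIndex_eq_one.1 (by omega)
  exact ⟨i, x, y, t, { o := o, noV := noV, h := h, fix0 := N.fix0, trans := N.trans,
                       cyc := fun j x y hx hy => NO3S.OneLine.cyc_T' o.hm N.toSymK h (by omega) j hx hy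
                       xy := hxy, x0 := hx0, y0 := hy0, tE := ht, gd := htg, ne := htne,
                       all := fun a ha => (hEE ha).2, comm := htU }⟩

/-- the acting group of the member `w` : for `w = {a, b}` the transpositions `(a 0)`, `(b 0)` -/
def KS (Y T : Subgroup G) (e : G → Fin k → Fin (2 ^ m + 1) → ZMod 2) (t d w : G) : Subgroup G :=
  closure {g | ∃ (j : Fin k) (a b : Fin (2 ^ m + 1)), a ≠ 0 ∧ a ≠ b ∧ w = uu Y (zl T Y) (cv T Y) e j a b ∧
    Tr Y t d g (uu Y (zl T Y) (cv T Y) e j a 0)}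

namespace TD

variable {e : G → Fin k → Fin (2 ^ m + 1) → ZMod 2} {i : Fin k} {x y : Fin (2 ^ m + 1)} {t : G}
variable (s : TD H U T Y E e i x y t)
include s

local notation "𝓥" => zl T Y
local notation "𝓓" => cv T Y
local notation "ν" => uu Y (zl T Y) (cv T Y) e
local notation "δ" => uu Y (zl T Y) (cv T Y) e i x y

theorem tY : t ∈ Y := s.o.TY (s.o.ET s.tE)

theorem tT : t ∈ T := s.o.ET s.tE

theorem u_mem (j : Fin k) (a b : Fin (2 ^ m + 1)) : ν j a b ∈ U := s.o.VU (s.h.u_mem j a b)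

theorem YU {p : G} (hp : p ∈ Y) : p ∈ normalizer (U : Set G) := s.o.HU (s.o.YH hp)

/-- every pair is the centre of a conjugate of `t` -/
theorem exists_tr (j : Fin k) {a b : Fin (2 ^ m + 1)} (hab : a ≠ b) : ∃ g, Tr Y t δ g (ν j a b) := by
  obtain ⟨q, hq, σ, τ, hqa, hσ⟩ := s.trans i j
  have h1 := s.h.u_conj (s.o.TY hq) hqa i x y
  rw [hσ] at h1
  set x' := τ i x with hx'
  set y' := τ i y with hy'
  have hxy' : x' ≠ y' := fun h => s.xy ((τ i).injective h)
  obtain ⟨r, hr⟩ := s.h.exists_gd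
    (Pi.mulSingle j (Equiv.swap (Equiv.swap x' a y') b * Equiv.swap x' a))
  have h2 := s.h.u_conj hr.mem hr.act j x' y'
  rw [Equiv.Perm.one_apply, Pi.mulSingle_eq_same, Equiv.Perm.mul_apply, Equiv.Perm.mul_apply,
    Equiv.swap_apply_left, Equiv.swap_apply_left] at h2
  have hne : a ≠ Equiv.swap x' a y' := by
    intro h
    apply hxy'
    have h3 : Equiv.swap x' a x' = Equiv.swap x' a y' := by rw [Equiv.swap_apply_left]; exact h
    exact (Equiv.swap x' a).injective h3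
  rw [Equiv.swap_apply_of_ne_of_ne hne hab] at h2
  refine ⟨r * q * t * (r * q)⁻¹, r * q, mul_mem hr.mem (s.o.TY hq), rfl, ?_⟩
  rw [← h2, ← h1]
  group

/-- the form of the conjugates of `t` -/
theorem form {g w : G} (hg : Tr Y t δ g w) : ∃ j a b, a ≠ b ∧ w = ν j a b ∧
    Gd Y 𝓥 𝓓 e (Pi.mulSingle j (Equiv.swap a b)) g := by
  obtain ⟨p, hp, rfl, rfl⟩ := hg
  obtain ⟨σ, τ, hpa⟩ := s.h.perm p hp
  refine ⟨σ i, τ i x, τ i y, fun h => s.xy ((τ i).injective h), s.h.u_conj hp hpa i x y, ?_⟩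
  have h1 := s.h.gd_conj_single hp hpa s.gd
  rwa [← Equiv.swap_apply_apply] at h1

/-- the action of the conjugates of `t` -/
theorem gdu {g : G} {j : Fin k} {a b : Fin (2 ^ m + 1)} (hab : a ≠ b) (hg : Tr Y t δ g (ν j a b)) :
    Gd Y 𝓥 𝓓 e (Pi.mulSingle j (Equiv.swap a b)) g := by
  obtain ⟨j', a', b', hab', hw, hgd⟩ := s.form hg
  obtain ⟨rfl, ⟨rfl, rfl⟩ | ⟨rfl, rfl⟩⟩ := s.h.u_inj hab hw
  · exact hgd
  · rw [Equiv.swap_comm]; exact hgd

theorem tr_symm {g : G} {j : Fin k} {a b : Fin (2 ^ m + 1)} (hg : Tr Y t δ g (ν j a b)) :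
    Tr Y t δ g (ν j b a) := by
  rwa [← s.h.u_symm j a b]

theorem u_same {g : G} {j : Fin k} {a b : Fin (2 ^ m + 1)} (hab : a ≠ b) (hg : Tr Y t δ g (ν j a b))
    (a' b' : Fin (2 ^ m + 1)) : g * ν j a' b' * g⁻¹ = ν j (Equiv.swap a b a') (Equiv.swap a b b') := by
  have h1 := s.gdu hab hg
  have h2 := s.h.u_conj h1.mem h1.act j a' b'
  rwa [Equiv.Perm.one_apply, Pi.mulSingle_eq_same] at h2

theorem u_other {g : G} {j j' : Fin k} {a b : Fin (2 ^ m + 1)} (hab : a ≠ b) (hg : Tr Y t δ g (ν j a b))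
    (hj : j' ≠ j) (a' b' : Fin (2 ^ m + 1)) : g * ν j' a' b' * g⁻¹ = ν j' a' b' := by
  have h1 := s.gdu hab hg
  have h2 := s.h.u_conj h1.mem h1.act j' a' b'
  rwa [Equiv.Perm.one_apply, Pi.mulSingle_eq_of_ne hj, Equiv.Perm.one_apply, Equiv.Perm.one_apply] at h2

/-- the commutators -/
theorem tr_comm {g w : G} (hg : Tr Y t δ g w) {v : G} (hv : v ∈ U) :
    g * v * g⁻¹ * v⁻¹ = 1 ∨ g * v * g⁻¹ * v⁻¹ = w := by
  obtain ⟨p, hp, rfl, rfl⟩ := hg
  have h1 : p⁻¹ * v * p ∈ U := by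
    have := conj_mem' (le_refl (normalizer (U : Set G))) (inv_mem (s.YU hp)) hv
    rwa [inv_inv] at this
  have e1 : p * t * p⁻¹ * v * (p * t * p⁻¹)⁻¹ * v⁻¹ =
    p * (t * (p⁻¹ * v * p) * t⁻¹ * (p⁻¹ * v * p)⁻¹) * p⁻¹ := by group
  rw [e1]
  rcases s.comm _ h1 with h2 | h2
  · left; rw [h2]; group
  · right; rw [h2]

theorem tr_Y {g w : G} (hg : Tr Y t δ g w) : g ∈ Y := by
  obtain ⟨p, hp, rfl, rfl⟩ := hg
  exact mul_mem (mul_mem hp s.tY) (inv_mem hp)

theorem tr_cl {g w : G} (hg : Tr Y t δ g w) : g ∈ cl E Y := by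
  obtain ⟨p, hp, rfl, rfl⟩ := hg
  exact cj_le_cl hp (mem_cj.2 (by
    have e1 : p⁻¹ * (p * t * p⁻¹) * p = t := by group
    rw [e1]; exact s.tE))

theorem third (a b : Fin (2 ^ m + 1)) : ∃ c : Fin (2 ^ m + 1), c ≠ a ∧ c ≠ b := s.h.exists_third a b

/-- **Uniqueness**: the conjugate of `t` is determined by its centre, modulo `C(U)`. -/
theorem uniq {g g' w : G} (hg : Tr Y t δ g w) (hg' : Tr Y t δ g' w) : g⁻¹ * g' ∈ centralizer (U : Set G) := by
  obtain ⟨j, a, b, hab, rfl, hgd⟩ := s.form hg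
  have hgd' := s.gdu hab hg'
  have hsim := s.h.gd_sim hgd hgd'
  obtain ⟨c, hca, hcb⟩ := s.third a b
  obtain ⟨z, hz⟩ := s.exists_tr j (a := b) (b := c) hcb.symm
  have hUmul : ∀ x ∈ U, ∀ y ∈ U, x * y = y * x := fun _ hx _ hy => s.o.U_mul hx hy
  have hgw : g * ν j a b * g⁻¹ = ν j a b := by
    rw [s.u_same hab hg, Equiv.swap_apply_left, Equiv.swap_apply_right, s.h.u_symm]
  have hzw : z * ν j a b * z⁻¹ = ν j a c := by
    rw [s.u_same hcb.symm hz, Equiv.swap_apply_left, Equiv.swap_apply_of_ne_of_ne hab hca.symm]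
  refine over_false (y := z) (w := ν j a b) hUmul s.o.Us s.o.HU (s.o.no s.noV) s.o.VU
    (s.o.YH (mul_mem (inv_mem (s.tr_Y hg)) (s.tr_Y hg'))) (s.o.YH (s.tr_Y hz)) ?_ ?_ (s.h.u_mem j a b) ?_ ?_ ?_
  · intro v hv
    have h1 := s.o.cl_comm s.noV z⁻¹ (inv_mem (s.tr_cl hz)) v hv
    rwa [inv_inv] at h1
  · intro v hv
    have h1 := hsim v hv
    have e1 : g⁻¹ * g' * v = g⁻¹ * (g' * v * g'⁻¹) * g' := by group
    rw [e1, ← h1]
    group
  · intro v hv
    have e0 : g⁻¹ * ν j a b * g = ν j a b := by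
      conv_lhs => rw [← hgw]
      group
    have hwU := s.u_mem j a b
    have hww := s.h.u_sq j a b
    set w := ν j a b with hw
    have h1 : g⁻¹ * v * g = v ∨ g⁻¹ * v * g = w * v := by
      rcases s.tr_comm hg hv with h2 | h2
      · left
        have e1 : g * v = v * g := by
          have e1 : g * v = (g * v * g⁻¹ * v⁻¹) * v * g := by group
          rw [e1, h2, one_mul]
        rw [mul_assoc, ← e1]; group
      · right
        have e1 : g * v * g⁻¹ = w * v := by rw [← h2]; group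
        have e2 : v = (g⁻¹ * w * g) * (g⁻¹ * v * g) := by
          have e3 : (g⁻¹ * w * g) * (g⁻¹ * v * g) = g⁻¹ * (w * v) * g := by group
          rw [e3, ← e1]; group
        rw [e0] at e2
        have e3 : g⁻¹ * v * g = w * w * (g⁻¹ * v * g) := by rw [hww, one_mul]
        rw [e3, mul_assoc, ← e2]
    have e2 : g⁻¹ * g' * v * (g⁻¹ * g')⁻¹ = g⁻¹ * (g' * v * g'⁻¹ * v⁻¹) * g * (g⁻¹ * v * g) := by group
    rcases s.tr_comm hg' hv with h3 | h3 <;> rcases h1 with h1 | h1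
    · left; rw [e2, h3, h1]; group
    · right; rw [e2, h3, h1]; group
    · right
      rw [e2, h3, e0, h1]; group
    · left
      rw [e2, h3, e0, h1, ← mul_assoc, hww]; group
  · rw [hzw]
    intro h1
    obtain ⟨-, ⟨-, h2⟩ | ⟨h2, -⟩⟩ := s.h.u_inj hab h1.symm
    · exact hcb h2.symm
    · exact hca h2.symm
  · rw [hzw]; exact s.h.u_mem j a c

/-- the commutators are determined by the centre -/
theorem same {g g' w : G} (hg : Tr Y t δ g w) (hg' : Tr Y t δ g' w) {v : G} (hv : v ∈ U) :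
    g * v * g⁻¹ = g' * v * g'⁻¹ := by
  have h1 := mem_centralizer_iff.1 (s.uniq hg hg') v hv
  have e1 : g' * v * g'⁻¹ = g * (g⁻¹ * g' * v) * g'⁻¹ := by group
  rw [e1, ← h1]
  group

theorem same' {g g' w : G} (hg : Tr Y t δ g w) (hg' : Tr Y t δ g' w) {v : G} (hv : v ∈ U) (h : g * v = v * g) :
    g' * v = v * g' := by
  have h1 := s.same hg hg' hv
  have e1 : g * v * g⁻¹ = v := by rw [h]; group
  rw [e1] at h1
  have e2 : g' * v = (g' * v * g'⁻¹) * g' := by group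
  rw [e2, ← h1]

/-- `(a b), (a c) ↦ (b c)` -/
theorem third_cent {j : Fin k} {a b c : Fin (2 ^ m + 1)} (hab : a ≠ b) (hac : a ≠ c) (hbc : b ≠ c) {g₁ g₂ g₃ v : G}
    (h1 : Tr Y t δ g₁ (ν j a b)) (h2 : Tr Y t δ g₂ (ν j a c)) (h3 : Tr Y t δ g₃ (ν j b c)) (hv : v ∈ U)
    (c1 : g₁ * v = v * g₁) (c2 : g₂ * v = v * g₂) : g₃ * v = v * g₃ := by
  have h4 := h2.cj (s.tr_Y h1)
  rw [s.u_same hab h1, Equiv.swap_apply_left, Equiv.swap_apply_of_ne_of_ne hac.symm hbc.symm] at h4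
  refine s.same' h4 h3 hv ?_
  have k1 : Commute g₁ v := c1
  have k2 : Commute g₂ v := c2
  exact ((k1.mul_left k2).mul_left k1.inv_left)


/-- the form of the `T`-conjugates of `[U, t]` -/
theorem member {p : G} (hp : p ∈ T) : ∃ j a b, a ≠ 0 ∧ b ≠ 0 ∧ a ≠ b ∧ p * δ * p⁻¹ = ν j a b := by
  obtain ⟨σ, τ, hpa⟩ := s.h.perm p (s.o.TY hp)
  have h0 := s.fix0 p hp σ τ hpa i
  refine ⟨σ i, τ i x, τ i y, fun h => s.x0 ?_, fun h => s.y0 ?_, fun h => s.xy ((τ i).injective h),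
    s.h.u_conj (s.o.TY hp) hpa i x y⟩
  · exact (τ i).injective (h.trans h0.symm)
  · exact (τ i).injective (h.trans h0.symm)

theorem mem_KS {w : G} {j : Fin k} {a b : Fin (2 ^ m + 1)} (hw : w = ν j a b) (hab : a ≠ b) (a0 : a ≠ 0) {g : G}
    (hg : Tr Y t δ g (ν j a 0)) : g ∈ KS Y T e t δ w :=
  subset_closure ⟨j, a, b, a0, hab, hw, hg⟩

/-- the centraliser of `K w` in `U` -/
theorem mem_cent {w : G} {j : Fin k} {a b : Fin (2 ^ m + 1)} (hw : w = ν j a b) (hab : a ≠ b) {ga gb z : G}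
    (hga : Tr Y t δ ga (ν j a 0)) (hgb : Tr Y t δ gb (ν j b 0)) (hz : z ∈ U) (ca : ga * z = z * ga)
    (cb : gb * z = z * gb) : z ∈ centralizer (KS Y T e t δ w : Set G) := by
  have h1 : KS Y T e t δ w ≤ centralizer ({z} : Set G) := by
    refine (closure_le _).2 ?_
    rintro g ⟨j', a', b', ha0, hab', hw', hg⟩
    refine mem_centralizer_iff.2 fun z' hz' => ?_
    rw [Set.mem_singleton_iff.1 hz']
    obtain ⟨rfl, ⟨rfl, rfl⟩ | ⟨rfl, rfl⟩⟩ := s.h.u_inj hab (hw.symm.trans hw')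
    · exact (s.same' hga hg hz ca).symm
    · exact (s.same' hgb hg hz cb).symm
  exact mem_centralizer_iff.2 fun g hg => (mem_centralizer_iff.1 (h1 hg) z rfl).symm

/-- conjugation -/
theorem KS_cj_le {q : G} (hq : q ∈ T) (w : G) : cj q (KS Y T e t δ w) ≤ KS Y T e t δ (q * w * q⁻¹) := by
  refine Subgroup.map_le_iff_le_comap.2 ((closure_le _).2 ?_)
  rintro g ⟨j, a, b, a0, hab, rfl, hg⟩
  show q * g * q⁻¹ ∈ KS Y T e t δ (q * ν j a b * q⁻¹)
  obtain ⟨σ, τ, hqa⟩ := s.h.perm q (s.o.TY hq)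
  have h0 := s.fix0 q hq σ τ hqa j
  have h1 := hg.cj (s.o.TY hq)
  rw [s.h.u_conj (s.o.TY hq) hqa j a 0, h0] at h1
  refine subset_closure ⟨σ j, τ j a, τ j b, fun h => a0 ((τ j).injective (h.trans h0.symm)),
    fun h => hab ((τ j).injective h), s.h.u_conj (s.o.TY hq) hqa j a b, h1⟩

theorem KS_cj {q : G} (hq : q ∈ T) (w : G) : cj q (KS Y T e t δ w) = KS Y T e t δ (q * w * q⁻¹) := by
  refine le_antisymm (s.KS_cj_le hq w) ?_
  have h1 := s.KS_cj_le (inv_mem hq) (q * w * q⁻¹)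
  have e1 : q⁻¹ * (q * w * q⁻¹) * q⁻¹⁻¹ = w := by group
  rw [e1] at h1
  have h2 := cj_mono q h1
  rwa [cj_cj_inv] at h2

/-- `(a b)` from `T` -/
theorem tr_T {p : G} (hp : p ∈ T) : Tr Y t δ (p * t * p⁻¹) (p * δ * p⁻¹) := ⟨p, s.o.TY hp, rfl, rfl⟩

/-- **the data of `Y`** -/
theorem yd {N' Z : Subgroup G} (NU : N' ≤ U) (hN : ∀ g ∈ T, cj g E ≤ centralizer (N' : Set G)) (ZU : Z ≤ U)
    (TZ : T ≤ normalizer (Z : Set G)) (mv : ¬ Y ≤ normalizer (Z : Set G)) :
    YD U T N' Z (fun w : {w : G // ∃ p ∈ T, w = p * δ * p⁻¹} => zpowers w.1)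
      (fun w : {w : G // ∃ p ∈ T, w = p * δ * p⁻¹} => KS Y T e t δ w.1) where
  perm := by
    rintro q hq ⟨w, p, hp, rfl⟩
    refine ⟨⟨q * (p * δ * p⁻¹) * q⁻¹, q * p, mul_mem hq hp, by group⟩, ?_, s.KS_cj hq _⟩
    show cj q (zpowers (p * δ * p⁻¹)) = zpowers (q * (p * δ * p⁻¹) * q⁻¹)
    exact MonoidHom.map_zpowers _ _
  cyc := by
    rintro ⟨w, p, hp, rfl⟩
    obtain ⟨j, a, b, a0, b0, hab, hw⟩ := s.member hp
    refine ⟨1, one_mem _, cj_one _, fun q hq hqc => ⟨0, fun v hv => ?_⟩⟩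
    have hww : (p * δ * p⁻¹) * (p * δ * p⁻¹) = 1 := by rw [hw]; exact s.h.u_sq j a b
    have e0 : (1 : G) ^ (0 : ℤ) * v * ((1 : G) ^ (0 : ℤ))⁻¹ = v := by group
    rw [e0]
    rcases mem_zpowers_two hww hv with h1 | h1
    · rw [h1]; group
    · have h2 : q * v * q⁻¹ ∈ zpowers (p * δ * p⁻¹) := by
        rw [← hqc]
        exact mem_cj.2 (by
          have e1 : q⁻¹ * (q * v * q⁻¹) * q = v := by group
          rw [e1]; exact hv)
      rcases mem_zpowers_two hww h2 with h3 | h3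
      · exfalso
        have h4 : v = 1 := by
          have e1 : v = q⁻¹ * (q * v * q⁻¹) * q := by group
          rw [e1, h3]; group
        rw [h4] at h1
        exact s.h.u_ne hab (hw.symm.trans h1.symm)
      · rw [h3, h1]
  cU := by
    rintro ⟨w, p, hp, rfl⟩
    obtain ⟨j, a, b, a0, b0, hab, hw⟩ := s.member hp
    show zpowers (p * δ * p⁻¹) ≤ U
    rw [hw]
    exact zpowers_le.2 (s.u_mem j a b)
  ne := by
    rintro ⟨w, p, hp, rfl⟩
    obtain ⟨j, a, b, a0, b0, hab, hw⟩ := s.member hp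
    show zpowers (p * δ * p⁻¹) ≠ ⊥
    rw [hw]
    exact fun h => s.h.u_ne hab (zpowers_eq_bot.1 h)
  inf := by
    rintro ⟨w, p, hp, rfl⟩
    obtain ⟨j, a, b, a0, b0, hab, hw⟩ := s.member hp
    show zpowers (p * δ * p⁻¹) ⊓ centralizer (KS Y T e t δ (p * δ * p⁻¹) : Set G) = ⊥
    rw [hw, eq_bot_iff]
    rintro v ⟨hv, hv'⟩
    rcases mem_zpowers_two (s.h.u_sq j a b) hv with h1 | h1
    · rw [h1]; exact one_mem _
    · exfalso
      rw [h1] at hv'
      obtain ⟨g, hg⟩ := s.exists_tr j a0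
      have h2 := mem_centralizer_iff.1 hv' g (s.mem_KS rfl hab a0 hg)
      have h3 := s.u_same a0 hg a b
      rw [h2, Equiv.swap_apply_left, Equiv.swap_apply_of_ne_of_ne hab.symm b0, mul_inv_cancel_right] at h3
      obtain ⟨-, ⟨h4, -⟩ | ⟨-, h4⟩⟩ := s.h.u_inj hab h3
      · exact a0 h4
      · exact b0 h4
  cm := by
    rintro ⟨w, p, hp, rfl⟩ ⟨w', p', hp', rfl⟩ hne
    obtain ⟨j, a, b, a0, b0, hab, hw⟩ := s.member hp
    obtain ⟨j', a', b', a0', b0', hab', hw'⟩ := s.member hp'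
    have hne' : ν j' a' b' ≠ ν j a b := by
      intro h
      apply hne
      exact Subtype.ext (hw'.trans (h.trans hw.symm))
    have hT : p * t * p⁻¹ ∈ T := mul_mem (mul_mem hp s.tT) (inv_mem hp)
    have hT' : p' * t * p'⁻¹ ∈ T := mul_mem (mul_mem hp' s.tT) (inv_mem hp')
    have t1 := s.tr_T hp
    have t2 := s.tr_T hp'
    rw [hw] at t1
    rw [hw'] at t2
    show zpowers (p' * δ * p'⁻¹) ≤ centralizer (KS Y T e t δ (p * δ * p⁻¹) : Set G)
    rw [hw, hw']
    refine zpowers_le.2 ?_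
    obtain ⟨ga, hga⟩ := s.exists_tr j a0
    obtain ⟨gb, hgb⟩ := s.exists_tr j b0
    -- an element moving one point of `{a, b}` only
    have key : ∀ {c c' : Fin (2 ^ m + 1)}, c ≠ c' → c ≠ 0 → ν j a b = ν j c c' → Tr Y t δ (p * t * p⁻¹) (ν j c c') →
        ∀ {g : G}, Tr Y t δ g (ν j c 0) → g * ν j' a' b' = ν j' a' b' * g := by
      intro c c' hcc c0 hν tc g hg
      suffices hs : g * ν j' a' b' * g⁻¹ = ν j' a' b' by
        have e1 : g * ν j' a' b' = (g * ν j' a' b' * g⁻¹) * g := by group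
        rw [e1, hs]
      by_cases hj : j' = j
      · subst hj
        have h1 : c ≠ a' := by
          rintro rfl
          have h2 := NO3S.OneLine.disj' s.h s.o.T2 hcc hab' hT hT' (s.gdu hcc tc) (s.gdu hab' t2)
          subst h2
          exact hne' hν.symm
        have h2 : c ≠ b' := by
          rintro rfl
          have h2 := NO3S.OneLine.disj' s.h s.o.T2 hcc hab'.symm hT hT' (s.gdu hcc tc)
            (s.gdu hab'.symm (s.tr_symm t2))
          subst h2
          apply hne'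
          rw [hν, s.h.u_symm]
        rw [s.u_same c0 hg, Equiv.swap_apply_of_ne_of_ne h1.symm a0', Equiv.swap_apply_of_ne_of_ne h2.symm b0']
      · exact s.u_other c0 hg hj a' b'
    refine s.mem_cent rfl hab hga hgb (s.u_mem j' a' b') (key hab a0 rfl t1 hga) ?_
    exact key hab.symm b0 (s.h.u_symm _ _ _) (s.tr_symm t1) hgb
  cov := by
    rintro ⟨w, p, hp, rfl⟩ n hn
    obtain ⟨j, a, b, a0, b0, hab, hw⟩ := s.member hp
    have t1 := s.tr_T hp
    rw [hw] at t1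
    set gw := p * t * p⁻¹ with hgw
    show n ∈ zpowers (p * δ * p⁻¹) ⊔ (U ⊓ centralizer (KS Y T e t δ (p * δ * p⁻¹) : Set G))
    rw [hw]
    obtain ⟨ga, hga⟩ := s.exists_tr j a0
    obtain ⟨gb, hgb⟩ := s.exists_tr j b0
    have hnU := NU hn
    have hwn : gw * n = n * gw := by
      have h1 : gw ∈ cj p E := mem_cj.2 (by
        have e1 : p⁻¹ * (p * t * p⁻¹) * p = t := by group
        rw [hgw, e1]; exact s.tE)
      exact (mem_centralizer_iff.1 (hN p hp h1) n hn).symm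
    have fin : ∀ z ∈ U, gw * z = z * gw → ga * z = z * ga → z ∈ U ⊓ centralizer (KS Y T e t δ (ν j a b) : Set G) :=
      fun z hz c1 c2 => ⟨hz, s.mem_cent rfl hab hga hgb hz c2 (s.third_cent hab a0 b0 t1 hga hgb hz c1 c2)⟩
    rcases s.tr_comm hga hnU with h1 | h1
    · refine mem_sup_right (fin n hnU hwn ?_)
      have e1 : ga * n = (ga * n * ga⁻¹ * n⁻¹) * n * ga := by group
      rw [e1, h1, one_mul]
    · have e0 : n = (ν j a b)⁻¹ * (ν j a b * n) := by group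
      rw [e0]
      refine mul_mem (mem_sup_left (inv_mem (mem_zpowers _)))
        (mem_sup_right (fin _ (mul_mem (s.u_mem j a b) hnU) ?_ ?_))
      · have h2 := s.u_same hab t1 a b
        rw [Equiv.swap_apply_left, Equiv.swap_apply_right, s.h.u_symm j b a] at h2
        have c1 : Commute gw (ν j a b) := by
          have e1 : gw * ν j a b = (gw * ν j a b * gw⁻¹) * gw := by group
          show gw * ν j a b = ν j a b * gw
          rw [e1, h2]
        have c2 : Commute gw n := hwn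
        exact c1.mul_right c2
      · have h2 := s.u_same a0 hga a b
        rw [Equiv.swap_apply_left, Equiv.swap_apply_of_ne_of_ne hab.symm b0] at h2
        have e1 : ga * (ν j a b * n) = (ga * ν j a b * ga⁻¹) * (ga * n * ga⁻¹ * n⁻¹) * n * ga := by group
        rw [e1, h1, h2]
        have e2 : ν j 0 b * ν j a 0 = ν j a b := by
          rw [s.h.comm _ (s.h.u_mem j 0 b) _ (s.h.u_mem j a 0)]
          exact s.h.u_add j a 0 b
        rw [e2]
  nZ := by
    by_contra hcon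
    push Not at hcon
    -- `Z` is centralised by all `(a 0)`
    have h1 : ∀ (j : Fin k) (a : Fin (2 ^ m + 1)), a ≠ 0 → ∀ g, Tr Y t δ g (ν j a 0) → ∀ z ∈ Z, g * z = z * g := by
      intro j a a0 g hg z hz
      obtain ⟨q, hq, σ, τ, hqa, hσ⟩ := s.trans i j
      have h0 := s.fix0 q hq σ τ hqa i
      obtain ⟨r, hr, π, hrπ, hπ⟩ := s.cyc j (τ i x) a (fun h => s.x0 ((τ i).injective (h.trans h0.symm))) a0
      have k1 := s.h.u_conj (s.o.TY hq) hqa i x y
      rw [hσ] at k1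
      have k2 := s.h.u_conj (s.o.TY hr) hrπ.act j (τ i x) (τ i y)
      rw [Equiv.Perm.one_apply, Pi.mulSingle_eq_same, hπ, ← k1] at k2
      have hab : a ≠ π (τ i y) := by
        rw [← hπ]
        exact fun h => s.xy ((τ i).injective (π.injective h))
      have k3 : r * q * δ * (r * q)⁻¹ = ν j a (π (τ i y)) := by rw [← k2]; group
      have h2 := hcon ⟨r * q * δ * (r * q)⁻¹, r * q, mul_mem hr hq, rfl⟩ hz
      exact mem_centralizer_iff.1 h2 g (s.mem_KS k3 hab a0 hg)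
    -- all conjugates of `t` centralise `Z`
    have h2 : ∀ g w, Tr Y t δ g w → ∀ z ∈ Z, g * z = z * g := by
      intro g w hg z hz
      obtain ⟨j, a, b, hab, rfl, -⟩ := s.form hg
      by_cases a0 : a = 0
      · subst a0
        exact h1 j b hab.symm g (s.tr_symm hg) z hz
      · by_cases b0 : b = 0
        · subst b0
          exact h1 j a a0 g hg z hz
        · obtain ⟨ga, hga⟩ := s.exists_tr j a0
          obtain ⟨gb, hgb⟩ := s.exists_tr j b0
          have ca := h1 j a a0 ga hga z hz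
          have cb := h1 j b b0 gb hgb z hz
          exact s.third_cent (Ne.symm a0) (Ne.symm b0) hab (s.tr_symm hga) (s.tr_symm hgb) hg (ZU hz) ca cb
    refine mv (s.o.norm_of_cent TZ (cl_le fun p hp => ?_))
    intro g hg
    refine mem_centralizer_iff.2 fun z hz => ?_
    have h3 := mem_cj.1 hg
    have hz' : p⁻¹ * z * p ∈ U := by
      have := conj_mem' (le_refl (normalizer (U : Set G))) (inv_mem (s.YU hp)) (ZU hz)
      rwa [inv_inv] at this
    rcases s.all _ h3 with h4 | h4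
    · have h5 := mem_centralizer_iff.1 h4 _ hz'
      have e1 : z * g = p * ((p⁻¹ * z * p) * (p⁻¹ * g * p)) * p⁻¹ := by group
      rw [e1, h5]; group
    · have h5 := mem_centralizer_iff.1 h4 _ hz'
      have h6 := h2 _ _ ⟨p, hp, rfl, rfl⟩ z hz
      have e1 : g * z = (p * t * p⁻¹) * (p * ((t⁻¹ * (p⁻¹ * g * p)) * (p⁻¹ * z * p)) * p⁻¹) := by group
      have e2 : (p * t * p⁻¹) * (p * ((p⁻¹ * z * p) * (t⁻¹ * (p⁻¹ * g * p))) * p⁻¹) =
        ((p * t * p⁻¹) * z) * (p * t⁻¹ * p⁻¹) * g := by group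
      rw [e1, ← h5, e2, h6]
      group

end TD

/-- **[Y], symmetric blocks.** -/
theorem exists_yd_sym (o : YF H U T Y E) (noV : NoOverM (zl T Y) Y) (N : SymKM T Y (zl T Y) (cv T Y) k m) (hk : 0 < k)
    (hm : 2 ≤ m) {N' Z : Subgroup G} (NU : N' ≤ U) (hN : ∀ g ∈ T, cj g E ≤ centralizer (N' : Set G)) (ZU : Z ≤ U)
    (TZ : T ≤ normalizer (Z : Set G)) (mv : ¬ Y ≤ normalizer (Z : Set G)) :
    ∃ (ι : Type u) (_ : Finite ι) (c K : ι → Subgroup G), YD U T N' Z c K := by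
  obtain ⟨i, x, y, t, s⟩ := exists_td o noV N hk hm
  exact ⟨_, inferInstance, _, _, s.yd NU hN ZU TZ mv⟩

end Cfsg.Agent.Omega.CaseLQ
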